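import Cfsg.Agent.JankoType.Classes

/-!
The case of a trivial signalizer functor: the cores of the three centralizers generate a proper subgroup.
-/

set_option autoImplicit false
set_option linter.unusedSectionVars false
set_option linter.style.haveILetI false

namespace CfsgLib.JankoType

open Subgroup CfsgLib.SylL34 CfsgLib.JankoSylow
open scoped commutatorElement

section Tools

variable {G : Type*} [Group G]

theorem mem_zpowers_invol {t y : G} (ht : t * t = 1) (hy : y ∈ zpowers t) : y = 1 ∨ y = t := by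
  obtain ⟨i, rfl⟩ := mem_zpowers_iff.1 hy
  rcases Int.even_or_odd i with ⟨j, rfl⟩ | ⟨j, rfl⟩
  · left
    rw [zpow_add, ← (Commute.refl t).mul_zpow, ht, one_zpow]
  · right
    rw [two_mul, zpow_add_one, zpow_add, ← (Commute.refl t).mul_zpow, ht, one_zpow, one_mul]

theorem commutator_zpowers_le {K N : Subgroup G} {t : G} (ht : t * t = 1) (h : ∀ o ∈ K, ⁅o, t⁆ ∈ N) :
    ⁅K, zpowers t⁆ ≤ N := commutator_le.2 fun o ho y hy => by
  rcases mem_zpowers_invol ht hy with rfl | rfl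
  · simp
  · exact h o ho

theorem le_normalizer_of_comm [Finite G] {H K : Subgroup G} (h : ∀ x ∈ H, ∀ y ∈ K, x * y = y * x) :
    H ≤ normalizer (K : Set G) := fun x hx => mem_normalizer_of_conj_mem fun y hy => by
  rwa [h x hx y hy, mul_inv_cancel_right]

theorem comm_of_disjoint [Finite G] {X K K' : Subgroup G} (hK : K ≤ X) (hK' : K' ≤ X)
    (hn : X ≤ normalizer (K : Set G)) (hn' : X ≤ normalizer (K' : Set G)) (h : K ⊓ K' = ⊥) :
    ∀ a ∈ K, ∀ b ∈ K', a * b = b * a := by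
  intro a ha b hb
  have h1 : ⁅a, b⁆ ∈ K := by
    rw [commutatorElement_def, show a * b * a⁻¹ * b⁻¹ = a * (b * a⁻¹ * b⁻¹) by group]
    exact mul_mem ha (conj_mem_of_normalizer (hn (hK' hb)) (inv_mem ha))
  have h2 : ⁅a, b⁆ ∈ K' := by
    rw [commutatorElement_def]
    exact mul_mem (conj_mem_of_normalizer (hn' (hK ha)) hb) (inv_mem hb)
  exact commutatorElement_eq_one_iff_mul_comm.1 ((eq_bot_iff_forall _).1 h _ ⟨h1, h2⟩)

theorem mem_of_sq_mem [Finite G] {N D : Subgroup G} (hN : Odd (Nat.card N)) {n : G} (hn : n ∈ N)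
    (h : n * n ∈ D) : n ∈ D := by
  obtain ⟨j, hj⟩ := odd_orderOf_of_mem hN hn
  have e : (n * n) ^ (j + 1) = n := by
    rw [← pow_two, ← pow_mul, show 2 * (j + 1) = (2 * j + 1) + 1 by ring, pow_succ, ← hj, pow_orderOf_eq_one,
      one_mul]
  rw [← e]
  exact pow_mem h _

/-- Four automorphisms with product the inversion, each congruent to plus or minus one. -/
theorem four_steps [Finite G] {N D : Subgroup G} (hodd : Odd (Nat.card N))
    (hab : ∀ a ∈ N, ∀ b ∈ N, a * b = b * a) (q : Fin 4 → G)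
    (hN : ∀ k, ∀ n ∈ N, q k * n * (q k)⁻¹ ∈ N)
    (hinv : ∀ n ∈ N, q 0 * q 1 * q 2 * q 3 * n * (q 0 * q 1 * q 2 * q 3)⁻¹ = n⁻¹)
    (h : (∀ k, ∀ n ∈ N, q k * n * (q k)⁻¹ * n ∈ D) ∨ ∀ k, ∀ n ∈ N, q k * n * (q k)⁻¹ * n⁻¹ ∈ D) :
    ∀ n ∈ N, n ∈ D := by
  have pair : ∀ a b, ∀ n ∈ N, q a * (q b * n * (q b)⁻¹) * (q a)⁻¹ * n⁻¹ ∈ D := by
    intro a b n hn
    have hy := hN b n hn
    have hx := hN a _ hy
    rcases h with h | h
    · have h1 := mul_mem (h a _ hy) (inv_mem (h b n hn))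
      rwa [show q a * (q b * n * (q b)⁻¹) * (q a)⁻¹ * (q b * n * (q b)⁻¹) * (q b * n * (q b)⁻¹ * n)⁻¹ =
        q a * (q b * n * (q b)⁻¹) * (q a)⁻¹ * ((q b * n * (q b)⁻¹) * n⁻¹ * (q b * n * (q b)⁻¹)⁻¹) by group,
        show (q b * n * (q b)⁻¹) * n⁻¹ * (q b * n * (q b)⁻¹)⁻¹ = n⁻¹ by
          rw [hab _ hy _ (inv_mem hn), mul_inv_cancel_right]] at h1
    · have h1 := mul_mem (h a _ hy) (h b n hn)
      rwa [show q a * (q b * n * (q b)⁻¹) * (q a)⁻¹ * (q b * n * (q b)⁻¹)⁻¹ * (q b * n * (q b)⁻¹ * n⁻¹) =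
        q a * (q b * n * (q b)⁻¹) * (q a)⁻¹ * n⁻¹ by group] at h1
  intro n hn
  have hm := hN 2 _ (hN 3 n hn)
  have h1 := mul_mem (pair 0 1 _ hm) (pair 2 3 n hn)
  rw [show q 0 * (q 1 * (q 2 * (q 3 * n * (q 3)⁻¹) * (q 2)⁻¹) * (q 1)⁻¹) * (q 0)⁻¹ *
      (q 2 * (q 3 * n * (q 3)⁻¹) * (q 2)⁻¹)⁻¹ * (q 2 * (q 3 * n * (q 3)⁻¹) * (q 2)⁻¹ * n⁻¹) =
      q 0 * q 1 * q 2 * q 3 * n * (q 0 * q 1 * q 2 * q 3)⁻¹ * n⁻¹ by group, hinv n hn] at h1
  refine mem_of_sq_mem hodd hn ?_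
  rw [show n * n = (n⁻¹ * n⁻¹)⁻¹ by rw [mul_inv_rev, inv_inv]]
  exact inv_mem h1

end Tools

namespace Family

variable {G : Type*} [Group G] [Finite G] {A : Subgroup G} {F : Set (Subgroup G)} (h : Family A F)
include h

theorem Oc_le_norm_factor {P : Subgroup G} (hP : P ∈ F) {a : G} (ha : a ∈ A) :
    Oc a ≤ normalizer (factor P a : Set G) := by
  have hPO : P ≤ normalizer (Oc a : Set G) := (h.le P hP).trans (h.le_norm_Oc ha)
  conv_lhs => rw [← CoprimeAct.commutator_sup_centralizer hPO (h.coprime (h.le P hP) (Oc_odd a))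
    (Or.inl (h.solvable (h.le P hP)))]
  refine sup_le (le_sup_left.trans le_normalizer) fun g hg => (normalizer_inf_normalizer_le_normalizer_sup _ _)
    (mem_inf.2 ⟨normalizer_commutator_ge_left _ _ hg.1, inf_normalizer_le_normalizer_inf (mem_inf.2
      ⟨le_normalizer hg.1, (le_normalizer.trans (LocalBalance.normalizer_le_normalizer_core _)) hg.2⟩)⟩)

theorem conj_factor {t : G} {P : Subgroup G} {a x : G} (hx : x ∈ factor P a) :
    t * x * t⁻¹ ∈ factor (cj t P) (t * a * t⁻¹) := by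
  have hcj : ∀ (t : G) (P : Subgroup G), cj t (centralizer (P : Set G)) ≤ centralizer ((cj t P : Subgroup G) : Set G) := by
    rintro t P _ ⟨y, hy, rfl⟩
    refine mem_centralizer_iff.2 ?_
    rintro _ ⟨p, hp, rfl⟩
    show t * p * t⁻¹ * (t * y * t⁻¹) = t * y * t⁻¹ * (t * p * t⁻¹)
    rw [show t * p * t⁻¹ * (t * y * t⁻¹) = t * (p * y) * t⁻¹ by group, mem_centralizer_iff.1 hy p hp]
    group
  have hcor : cj t (cor P) ≤ cor (cj t P) := by
    refine le_cor ((map_mono (LocalBalance.core_le _)).trans (hcj t P)) (fun g hg => ?_)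
      (by rw [card_cj]; exact cor_odd P)
    have hg' : t⁻¹ * g * t ∈ centralizer (P : Set G) := by
      have h1 := hcj t⁻¹ (cj t P) (conj_mem_cj.2 hg)
      rw [cj_inv_cj] at h1
      simpa [mul_assoc] using h1
    refine mem_normalizer_of_cj ?_
    rw [cj_cj, show g * t = t * (t⁻¹ * g * t) by group, ← cj_cj,
      cj_of_mem_normalizer (show t⁻¹ * g * t ∈ normalizer (cor P : Set G) from
        (le_normalizer.trans (LocalBalance.normalizer_le_normalizer_core _)) hg')]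
  have hle : cj t (factor P a) ≤ factor (cj t P) (t * a * t⁻¹) := by
    show (⁅Oc a, P⁆ ⊔ (Oc a ⊓ cor P)).map (MulAut.conj t).toMonoidHom ≤ _
    rw [Subgroup.map_sup, map_commutator, Subgroup.map_inf _ _ _ (MulAut.conj t).injective]
    change ⁅cj t (Oc a), cj t P⁆ ⊔ (cj t (Oc a) ⊓ cj t (cor P)) ≤ _
    rw [cj_Oc]
    exact sup_le le_sup_left (le_sup_of_le_right (inf_le_inf_left _ hcor))
  exact hle (conj_mem_cj.2 hx)

end Family

theorem bot_codes : (∀ c : Fin 128, IA c ∨ IA (mm c 1)) ∧ (∀ a b : Fin 128, Eqz a b → Eqz b a) ∧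
    (∀ j : Fin 5, Eqz (mm (mm (bc j) uc) (inv (bc j))) uc) ∧
    (∀ j : Fin 4, kperm j ⟨j.val, by omega⟩ = 0) ∧ bc 4 = uc ∧ bc 0 = 1 ∧
    (∀ j : Fin 5, j ≠ 4 → ∃ i : Fin 4, (⟨i.val, by omega⟩ : Fin 5) = j) := by
  exact ⟨by decide +kernel, by decide +kernel, by decide +kernel, by decide +kernel, rfl, rfl, by decide +kernel⟩

theorem bot_move : ∀ i : Fin 4, ∀ d : Fin 128, Eqz d (bc ⟨i.val, by omega⟩) →
    Eqz (mm (mm (kc i) d) (inv (kc i))) 1 := by decide +kernel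

variable {G : Type*} [Group G] [Finite G] {S : Sylow 2 G} {f : Fin 128 → G} (X : Ctx S f)

/-- The part of the core of `C(z)` centralizing an involution. -/
def cq (f : Fin 128 → G) (c : Fin 128) : Subgroup G := Oc (f zc) ⊓ centralizer ({f c} : Set G)

/-- The part of the core of `C(z)` moved by an involution. -/
def nq (f : Fin 128 → G) (c : Fin 128) : Subgroup G := ⁅Oc (f zc), zpowers (f c)⁆

namespace Ctx

include X

theorem mem_cq {c : Fin 128} {x : G} : x ∈ cq f c ↔ x ∈ Oc (f zc) ∧ x * f c = f c * x := by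
  simp [cq, mem_centralizer_singleton_iff]

theorem nq_le {c : Fin 128} : nq f c ≤ Oc (f zc) :=
  le_normalizer_iff_commutator_le_left.1 (zpowers_le.2 (X.norm_Oc (X.mem_C c)))

theorem act_eqz {a b : Fin 128} (h : Eqz a b) {x : G} (hx : x ∈ Oc (f zc)) :
    f a * x * (f a)⁻¹ = f b * x * (f b)⁻¹ := by
  rcases h with rfl | rfl
  · rfl
  · rw [X.tab.mul, mul_inv_rev]
    calc f b * f zc * x * ((f zc)⁻¹ * (f b)⁻¹) = f b * (f zc * x * (f zc)⁻¹) * (f b)⁻¹ := by group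
      _ = _ := by rw [(Oc_comm hx).symm, mul_inv_cancel_right]

theorem cq_eqz {a b : Fin 128} (h : Eqz a b) : cq f a ≤ cq f b := fun x hx => by
  obtain ⟨hxO, hxa⟩ := (X.mem_cq).1 hx
  refine (X.mem_cq).2 ⟨hxO, (mul_inv_eq_iff_eq_mul.1 ?_).symm⟩
  rw [← X.act_eqz h hxO, ← hxa, mul_inv_cancel_right]

theorem comm_eqz {a b : Fin 128} (h : Eqz a b) {o : G} (ho : o ∈ Oc (f zc)) : ⁅o, f a⁆ = ⁅o, f b⁆ := by
  rw [commutatorElement_def, commutatorElement_def,
    show o * f a * o⁻¹ * (f a)⁻¹ = o * (f a * o⁻¹ * (f a)⁻¹) by group, X.act_eqz h (inv_mem ho)]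
  group

theorem sq_sing {c : Fin 128} (hc : JankoSylow.sq c = 0) : f c * f c = 1 := (X.tab.sq_eq_one_iff c).2 hc

theorem sing_eqz' {a b : Fin 128} (hb : Sing b) (h : Eqz a b) : JankoSylow.sq a = 0 :=
  (sing_eqz a b hb h).1.2.1

theorem nq_eqz {a b : Fin 128} (hb : Sing b) (h : Eqz a b) : nq f a ≤ nq f b :=
  commutator_zpowers_le (X.sq_sing (X.sing_eqz' hb h)) fun o ho => by
    rw [X.comm_eqz h ho]
    exact commutator_mem_commutator ho (mem_zpowers _)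

theorem cj_O {m : G} (hm : m ∈ centralizer ({f zc} : Set G)) : cj m (Oc (f zc)) = Oc (f zc) :=
  cj_of_mem_normalizer (X.norm_Oc hm)

theorem cj_cq {m : G} (hm : m ∈ centralizer ({f zc} : Set G)) {a b c : Fin 128}
    (e : m * f a * m⁻¹ = f b) (h : Eqz b c) : cj m (cq f a) ≤ cq f c := by
  rintro _ ⟨x, hx, rfl⟩
  obtain ⟨hxO, hxa⟩ := (X.mem_cq).1 hx
  refine X.cq_eqz h ((X.mem_cq).2 ⟨conj_mem_of_normalizer (X.norm_Oc hm) hxO, ?_⟩)
  show m * x * m⁻¹ * f b = f b * (m * x * m⁻¹)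
  rw [← e, show m * x * m⁻¹ * (m * f a * m⁻¹) = m * (x * f a) * m⁻¹ by group, hxa]
  group

theorem cj_nq {m : G} (hm : m ∈ centralizer ({f zc} : Set G)) {a b c : Fin 128}
    (e : m * f a * m⁻¹ = f b) (hc : Sing c) (h : Eqz b c) : cj m (nq f a) ≤ nq f c := by
  show (⁅Oc (f zc), zpowers (f a)⁆).map (MulAut.conj m).toMonoidHom ≤ _
  rw [map_commutator, MonoidHom.map_zpowers]
  change ⁅cj m (Oc (f zc)), zpowers (m * f a * m⁻¹)⁆ ≤ _
  rw [X.cj_O hm, e]
  exact X.nq_eqz hc h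

variable [IsSimpleGroup G] (hW : ∀ a ∈ X.subE, a ≠ 1 → theta (fam X) a = ⊥)

theorem A_le_cent (x : G) (hx : x ∈ X.subV) : X.subE ≤ centralizer ({x} : Set G) := X.E_le_cent (X.V_le_E hx)

theorem cq_le_Oc {v : G} (hv : v ∈ X.subV) (hv1 : v ≠ 1) : cq f uc ≤ Oc v := by
  refine X.tame_conj (X.V_le_E hv) (X.V_zconj hv hv1) (cq f uc) (fun x hx => ?_)
    (Odd.of_dvd_nat (Oc_odd _) (card_dvd_of_le inf_le_left)) ?_
  · obtain ⟨hxO, hxu⟩ := (X.mem_cq).1 hx
    rw [mem_centralizer_singleton_iff]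
    rcases X.V_cases hv with rfl | rfl | rfl | rfl
    · simp
    · exact Oc_comm hxO
    · exact hxu
    · rw [X.tab.mul, ← mul_assoc, hxu, mul_assoc, Oc_comm hxO, ← mul_assoc]
  · exact fun g hg => inf_normalizer_le_normalizer_inf (mem_inf.2
      ⟨X.norm_Oc (X.A_le_cent _ X.z_mem hg), le_normalizer (X.A_le_cent _ X.u_mem hg)⟩)

include hW

theorem X_comm_A {x a : G} (hx : x ∈ cq f uc) (ha : a ∈ X.subE) : x * a = a * x := by
  have h := X.exists_family.comm_mem_theta (B := X.subV) X.V_le_E X.tab.card_subZA X.z_mem X.tab.z_ne (x := x)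
    (fun e he he1 => X.cq_le_Oc he he1 hx) ha
  rw [hW _ (X.V_le_E X.z_mem) X.tab.z_ne, mem_bot] at h
  exact commutatorElement_eq_one_iff_mul_comm.1 h

theorem X_conj_one {x : G} (hx : x ∈ cq f uc) : f 1 * x * (f 1)⁻¹ ∈ cq f uc :=
  X.cj_cq (X.mem_C 1) (X.f1_cj.2.2.2.2) (Or.inr rfl) (conj_mem_cj.2 hx)

theorem X_comm_T {x : G} (hx : x ∈ cq f uc) {c : Fin 128} (hc : IA c) : x * f c = f c * x := by
  obtain ⟨a, b, ha, hb, rfl⟩ := ia_ab c hc
  have h1 : Commute x (f a) := X.X_comm_A hW hx (X.mem_E_code.2 ha)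
  have hb' : f 1 * f b * (f 1)⁻¹ ∈ X.subE := by
    rw [← X.f1_cj.2.1]
    exact conj_mem_cj.2 ⟨b, hb, rfl⟩
  have h2 : Commute x (f b) := by
    refine (MulAut.conj (f 1)).injective ?_
    show f 1 * (x * f b) * (f 1)⁻¹ = f 1 * (f b * x) * (f 1)⁻¹
    have := X.X_comm_A hW (X.X_conj_one hW hx) hb'
    calc f 1 * (x * f b) * (f 1)⁻¹ = f 1 * x * (f 1)⁻¹ * (f 1 * f b * (f 1)⁻¹) := by group
      _ = f 1 * f b * (f 1)⁻¹ * (f 1 * x * (f 1)⁻¹) := this
      _ = _ := by group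
  rw [X.tab.mul]
  exact h1.mul_right h2

theorem X_act {x : G} (hx : x ∈ cq f uc) (j : Fin 5) (hj : j ≠ 4) :
    f (bc j) * x * (f (bc j))⁻¹ = f 1 * x * (f 1)⁻¹ := by
  have h1 := X.X_comm_T hW hx (bc_pairs j hj)
  rw [X.tab.mul] at h1
  have hi : (f 1)⁻¹ = f 1 := inv_eq_of_sq (X.sq_sing (by decide))
  calc f (bc j) * x * (f (bc j))⁻¹ = (f 1)⁻¹ * (f 1 * f (bc j) * x) * (f (bc j))⁻¹ := by group
    _ = (f 1)⁻¹ * (x * (f 1 * f (bc j))) * (f (bc j))⁻¹ := by rw [← h1]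
    _ = (f 1)⁻¹ * x * f 1 := by group
    _ = _ := by rw [hi]

theorem factor_X {P : Subgroup G} (hP : P ∈ fam X) {x : G} (hx : x ∈ cq f uc)
    (hxP : x ∈ factor P (f zc)) : x = 1 := by
  have F := X.exists_family
  rw [← mem_bot, ← hW _ (X.V_le_E X.z_mem) X.tab.z_ne]
  refine mem_theta.2 ⟨((X.mem_cq).1 hx).1, fun P' hP' => ?_⟩
  obtain ⟨hPE, h4, hfix⟩ := hP
  obtain ⟨hP'E, h4', hfix'⟩ := hP'
  obtain ⟨e, -, he, -, he1, -⟩ := four_elems (fun y hy => X.E_sq y (hPE hy)) h4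
  have hdisj : P' ⊓ X.subV = ⊥ := (eq_bot_iff_forall _).2 fun y hy => by
    by_contra hy1
    exact (hfix' y hy.1 hy1).1 hy.2
  have hn : P' ≤ normalizer (X.subV : Set G) :=
    le_normalizer_of_comm fun a ha b hb => X.E_comm (hP'E ha) (X.V_le_E hb)
  have htop : P' ⊔ X.subV = X.subE := eq_of_le_of_card_ge (sup_le hP'E X.V_le_E) (by
    rw [Solvable.card_sup_of_disjoint hn hdisj, h4', X.tab.card_subZA, X.E_card])
  obtain ⟨p', hp', v, hv, hpv⟩ : ∃ p' ∈ P', ∃ v ∈ X.subV, e = p' * v := by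
    have h := hPE he
    rw [← htop, ← SetLike.mem_coe, coe_mul_of_left_le_normalizer_right _ _ hn, Set.mem_mul] at h
    obtain ⟨p', hp', v, hv, rfl⟩ := h
    exact ⟨p', hp', v, hv, rfl⟩
  have heV := (hfix e he he1).1
  have hp1 : p' ≠ 1 := fun h => heV (by rw [hpv, h, one_mul]; exact hv)
  obtain ⟨ce, hce, -, ee⟩ := X.E_mem_out (hPE he) heV
  obtain ⟨cv, hcv, ev⟩ := inv_mem hv
  obtain ⟨t, htA, ht⟩ := cent_a_coset ce cv hce.1 hce.2.1 hce.2.2 hcv
  have hte : f t * e * (f t)⁻¹ = p' := by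
    rw [← ee, X.tab.map_conj, ht, X.tab.mul, ee, ev, hpv, mul_inv_cancel_right]
  have htn : cj (f t) X.subE = X.subE :=
    cj_of_mem_normalizer (X.tab.subA_normalizes (com32_sq 32 (by decide)).2 (by decide)
      (com32_sq 32 (by decide)).1 ⟨t, htA, rfl⟩)
  have hQ := F.equiv (f t) htn P ⟨hPE, h4, hfix⟩
  have hpQ : p' ∈ cj (f t) P := hte ▸ conj_mem_cj.2 he
  have heq : cj (f t) P = P' := (hQ.2.2 p' hpQ hp1).2.2.symm.trans (hfix' p' hp' hp1).2.2
  have h := F.conj_factor (t := f t) hxP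
  rwa [heq, show f t * x * (f t)⁻¹ = x by rw [← X.X_comm_T hW hx htA, mul_inv_cancel_right],
    show f t * f zc * (f t)⁻¹ = f zc by rw [X.zcentral, mul_inv_cancel_right]] at h

variable (hne : ∃ P, P ∈ fam X)
include hne

theorem N_inf_X {x : G} (hxN : x ∈ nq f uc) (hx : x ∈ cq f uc) : x = 1 := by
  have F := X.exists_family
  obtain ⟨P, hP⟩ := hne
  obtain ⟨hPE, h4, hfix⟩ := id hP
  obtain ⟨e, -, he, -, he1, -⟩ := four_elems (fun y hy => X.E_sq y (hPE hy)) h4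
  have hzE := X.V_le_E X.z_mem
  have huE := X.V_le_E X.u_mem
  obtain ⟨ce, hce, -, ee⟩ := X.E_mem_out (hPE he) (hfix e he he1).1
  obtain ⟨t, htA, ht⟩ := cent_a_coset ce uc hce.1 hce.2.1 hce.2.2 z_codes.2.1
  have hte : f t * e * (f t)⁻¹ = e * f uc := by rw [← ee, X.tab.map_conj, ht, X.tab.mul]
  have htn : cj (f t) X.subE = X.subE :=
    cj_of_mem_normalizer (X.tab.subA_normalizes (com32_sq 32 (by decide)).2 (by decide)
      (com32_sq 32 (by decide)).1 ⟨t, htA, rfl⟩)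
  have hQ := F.equiv (f t) htn P hP
  set O := Oc (f zc)
  set Φ := factor P (f zc)
  set D := O ⊓ centralizer (P : Set G)
  set U := zpowers (f uc)
  set L := ⁅D, U⁆
  have hu2 : f uc * f uc = 1 := X.sq_sing z_codes.2.2.2.2.2.2.2.2.1
  have hUA : U ≤ X.subE := zpowers_le.2 huE
  have hUD : U ≤ normalizer (D : Set G) := fun g hg => inf_normalizer_le_normalizer_inf
    (mem_inf.2 ⟨F.le_norm_Oc hzE (hUA hg), le_normalizer (F.comm_P hP (hUA hg))⟩)
  have hLD : L ≤ D := le_normalizer_iff_commutator_le_left.1 hUD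
  have hUΦ : U ≤ normalizer (Φ : Set G) := hUA.trans (F.le_norm_factor hP hzE)
  have hUL : U ≤ normalizer (L : Set G) := normalizer_commutator_ge_right _ _
  have hLΦ : L ≤ normalizer (Φ : Set G) := (hLD.trans inf_le_left).trans (F.Oc_le_norm_factor hP hzE)
  have hNle : nq f uc ≤ Φ ⊔ L := by
    refine commutator_zpowers_le hu2 fun o ho => ?_
    obtain ⟨φ, hφ, d, hd, rfl⟩ := CoprimeAct.exists_mul_of_mem (hPE.trans (F.le_norm_Oc hzE))
      (F.coprime hPE (Oc_odd _)) (Or.inl (F.solvable hPE)) ho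
    have hφΦ : φ ∈ Φ := mem_sup_left hφ
    rw [show ⁅φ * d, f uc⁆ = φ * ⁅d, f uc⁆ * φ⁻¹ * ⁅φ, f uc⁆ by
      simp only [commutatorElement_def]; group]
    refine mul_mem (mul_mem (mul_mem (mem_sup_left hφΦ) (mem_sup_right (commutator_mem_commutator hd (mem_zpowers _))))
      (inv_mem (mem_sup_left hφΦ))) (mem_sup_left ?_)
    rw [commutatorElement_def, show φ * f uc * φ⁻¹ * (f uc)⁻¹ = φ * (f uc * φ⁻¹ * (f uc)⁻¹) by group]
    exact mul_mem hφΦ (conj_mem_of_normalizer (hUΦ (mem_zpowers _)) (inv_mem hφΦ))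
  have hodd : Odd (Nat.card (Φ ⊔ L : Subgroup G)) :=
    Odd.of_dvd_nat (Oc_odd (f zc)) (card_dvd_of_le (sup_le (F.factor_le hP hzE) (hLD.trans inf_le_left)))
  obtain ⟨φ, hφ, d, hd, rfl⟩ := CoprimeAct.fixed_factor (A := U) (K := Φ ⊔ L)
    (fun g hg => (normalizer_inf_normalizer_le_normalizer_sup _ _) (mem_inf.2 ⟨hUΦ hg, hUL hg⟩))
    (F.coprime hUA hodd) (Or.inl (F.solvable hUA)) (X := Φ) (Y := L) le_sup_left le_sup_right hUΦ hUL
    (fun k hk => by
      rw [sup_comm, ← SetLike.mem_coe, coe_mul_of_left_le_normalizer_right _ _ hLΦ,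
        set_mul_normalizer_comm _ _ hLΦ, Set.mem_mul] at hk
      obtain ⟨a, ha, b, hb, e⟩ := hk
      exact ⟨a, ha, b, hb, e.symm⟩)
    (show x ∈ (Φ ⊔ L : Subgroup G) ⊓ centralizer (U : Set G) from
      ⟨hNle hxN, by rw [LocalBalance.centralizer_zpowers_eq]; exact hx.2⟩)
  rw [mem_inf, LocalBalance.centralizer_zpowers_eq] at hφ hd
  have hLle : L ≤ factor (cj (f t) P) (f zc) := by
    refine le_trans (commutator_zpowers_le hu2 fun y hy => ?_) le_sup_left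
    have hye : y * e = e * y := (mem_centralizer_iff.1 hy.2 e he).symm
    have hcy : ⁅y, f uc⁆ * e = e * ⁅y, f uc⁆ :=
      (mem_centralizer_iff.1 (hLD (commutator_mem_commutator hy (mem_zpowers _))).2 e he).symm
    have : ⁅y, e * f uc⁆ = ⁅y, f uc⁆ := by
      calc ⁅y, e * f uc⁆ = y * e * f uc * y⁻¹ * (f uc)⁻¹ * e⁻¹ := by simp only [commutatorElement_def]; group
        _ = e * (y * f uc * y⁻¹ * (f uc)⁻¹) * e⁻¹ := by rw [hye]; group
        _ = e * ⁅y, f uc⁆ * e⁻¹ := by rw [commutatorElement_def]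
        _ = _ := by rw [← hcy, mul_inv_cancel_right]
    rw [← this]
    exact commutator_mem_commutator hy.1 (hte ▸ conj_mem_cj.2 he)
  have hd1 : d = 1 := X.factor_X hW hQ ⟨(hLD hd.1).1, hd.2⟩ (hLle hd.1)
  subst hd1
  rw [mul_one] at hx ⊢
  exact X.factor_X hW hP hx hφ.1

theorem N_inv {n : G} (hn : n ∈ nq f uc) : f uc * n * (f uc)⁻¹ = n⁻¹ := by
  refine inverts (normalizer_commutator_ge_right _ _ (mem_zpowers _)) (X.sq_sing z_codes.2.2.2.2.2.2.2.2.1)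
    (fun x hx hxu => X.N_inf_X hW hne hx ((X.mem_cq).2 ⟨X.nq_le hx, hxu.symm⟩)) n hn

theorem nq_abelian {c : Fin 128} (hc : Sing c) {x y : G} (hx : x ∈ nq f c) (hy : y ∈ nq f c) :
    x * y = y * x := by
  obtain ⟨m, hm, e⟩ := X.sing_conj hc
  have e' : m⁻¹ * f c * m⁻¹⁻¹ = f uc := by rw [← e]; group
  have hback : ∀ z ∈ nq f c, m⁻¹ * z * m ∈ nq f uc := fun z hz => by
    have := X.cj_nq (inv_mem hm) e' (bc_sing 4) (Or.inl rfl) (conj_mem_cj.2 hz)
    rwa [inv_inv] at this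
  have hab : ∀ a ∈ nq f uc, ∀ b ∈ nq f uc, a * b = b * a := fun a ha b hb => by
    have h1 := X.N_inv hW hne (mul_mem ha hb)
    rw [show f uc * (a * b) * (f uc)⁻¹ = f uc * a * (f uc)⁻¹ * (f uc * b * (f uc)⁻¹) by group,
      X.N_inv hW hne ha, X.N_inv hW hne hb, ← mul_inv_rev] at h1
    exact (inv_injective h1).symm
  have h := hab _ (hback x hx) _ (hback y hy)
  calc x * y = m * (m⁻¹ * x * m * (m⁻¹ * y * m)) * m⁻¹ := by group
    _ = m * (m⁻¹ * y * m * (m⁻¹ * x * m)) * m⁻¹ := by rw [h]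
    _ = y * x := by group

theorem q_N (j : Fin 5) {n : G} (hn : n ∈ nq f uc) : f (bc j) * n * (f (bc j))⁻¹ ∈ nq f uc :=
  X.cj_nq (X.mem_C _) (X.tab.map_conj _ _) (bc_sing 4) (bot_codes.2.2.1 j) (conj_mem_cj.2 hn)

theorem prod_inv {n : G} (hn : n ∈ nq f uc) :
    f (bc 0) * f (bc 1) * f (bc 2) * f (bc 3) * n * (f (bc 0) * f (bc 1) * f (bc 2) * f (bc 3))⁻¹ = n⁻¹ := by
  rw [← X.tab.mul, ← X.tab.mul, ← X.tab.mul, ← X.act_eqz uc_prod (X.nq_le hn), X.N_inv hW hne hn]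

theorem move_comm_N {x n : G} (hx : x ∈ ⁅cq f uc, zpowers (f 1)⁆) (hn : n ∈ nq f uc) : x * n = n * x := by
  suffices ⁅cq f uc, zpowers (f 1)⁆ ≤ centralizer (nq f uc : Set G) from (mem_centralizer_iff.1 (this hx) n hn).symm
  refine commutator_zpowers_le (X.sq_sing (by decide)) fun y hy => mem_centralizer_iff.2 fun n hn => ?_
  set w := ⁅y, f 1⁆
  let e : Fin 4 → Fin 5 := fun k => ⟨k.val, by omega⟩
  have he : ∀ k, e k ≠ 4 := by decide
  have hwk : ∀ k, w ∈ nq f (bc (e k)) := fun k => by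
    have : ⁅y, f (bc (e k))⁆ = w := by
      simp only [w, commutatorElement_def]
      rw [show y * f (bc (e k)) * y⁻¹ * (f (bc (e k)))⁻¹ = y * (f (bc (e k)) * y * (f (bc (e k)))⁻¹)⁻¹ by group,
        X.X_act hW hy _ (he k)]
      group
    exact this ▸ commutator_mem_commutator hy.1 (mem_zpowers _)
  have h := four_steps (N := nq f uc) (D := centralizer ({w} : Set G))
    (Odd.of_dvd_nat (Oc_odd _) (card_dvd_of_le X.nq_le)) (fun a ha b hb => X.nq_abelian hW hne (bc_sing 4) ha hb)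
    (fun k => f (bc (e k))) (fun k n hn => X.q_N hW hne _ hn) (fun n hn => X.prod_inv hW hne hn)
    (Or.inr fun k n hn => mem_centralizer_singleton_iff.2 (X.nq_abelian hW hne (bc_sing (e k)) ?_ (hwk k))) n hn
  · exact mem_centralizer_singleton_iff.1 h
  · show ⁅f (bc (e k)), n⁆ ∈ _
    rw [nq, commutator_comm]
    exact commutator_mem_commutator (mem_zpowers _) (X.nq_le hn)

theorem O_eq : nq f uc ⊔ cq f uc = Oc (f zc) := by
  have h := CoprimeAct.commutator_sup_centralizer (K := Oc (f zc)) (A := zpowers (f uc))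
    (zpowers_le.2 (X.norm_Oc (X.mem_C _)))
    (X.exists_family.coprime (zpowers_le.2 (X.V_le_E X.u_mem)) (Oc_odd _))
    (Or.inl (X.exists_family.solvable (zpowers_le.2 (X.V_le_E X.u_mem))))
  rwa [LocalBalance.centralizer_zpowers_eq] at h

theorem card_cq {c : Fin 128} (hc : Sing c) : Nat.card (cq f c) = Nat.card (cq f uc) := by
  obtain ⟨m, hm, e⟩ := X.sing_conj hc
  have h1 := card_le_of_le (X.cj_cq hm e (Or.inl rfl))
  have h2 := card_le_of_le (X.cj_cq (inv_mem hm) (show m⁻¹ * f c * m⁻¹⁻¹ = f uc by rw [← e]; group) (Or.inl rfl))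
  rw [card_cj] at h1 h2
  omega

/-- If the first involution centralizes the common part, the core of `C(z)` centralizes `A`. -/
theorem A_cent_O (h4 : ⁅cq f uc, zpowers (f 1)⁆ = ⊥) {x a : G} (hx : x ∈ Oc (f zc)) (ha : a ∈ X.subE) :
    x * a = a * x := by
  have hfixX : ∀ y ∈ cq f uc, f 1 * y * (f 1)⁻¹ = y := fun y hy => by
    have h := (eq_bot_iff_forall _).1 h4 _ (commutator_mem_commutator hy (mem_zpowers (f 1)))
    rw [← commutatorElement_eq_one_iff_mul_comm.1 h, mul_inv_cancel_right]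
  have hXq : ∀ j : Fin 5, j ≠ 4 → cq f uc = cq f (bc j) := fun j hj => by
    refine eq_of_le_of_card_ge (fun y hy => (X.mem_cq).2 ⟨hy.1, ?_⟩) (X.card_cq hW hne (bc_sing j)).le
    exact (mul_inv_eq_iff_eq_mul.1 ((X.X_act hW hy j hj).trans (hfixX y hy))).symm
  let e : Fin 4 → Fin 5 := fun k => ⟨k.val, by omega⟩
  have he : ∀ k, e k ≠ 4 := by decide
  have hN : ∀ n ∈ nq f uc, n ∈ (⊥ : Subgroup G) := by
    refine four_steps (Odd.of_dvd_nat (Oc_odd _) (card_dvd_of_le X.nq_le))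
      (fun a ha b hb => X.nq_abelian hW hne (bc_sing 4) ha hb)
      (fun k => f (bc (e k))) (fun k n hn => X.q_N hW hne _ hn) (fun n hn => X.prod_inv hW hne hn)
      (Or.inl fun k n hn => ?_)
    rw [mem_bot, inverts (mem_normalizer_of_conj_mem fun n hn => X.q_N hW hne (e k) hn)
      (X.sq_sing (bc_sing _).2.1) (fun y hy hyc => ?_) n hn, inv_mul_cancel]
    refine X.N_inf_X hW hne hy ?_
    rw [hXq _ (he k)]
    exact (X.mem_cq).2 ⟨X.nq_le hy, hyc.symm⟩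
  have hle : Oc (f zc) ≤ cq f uc := by
    conv_lhs => rw [← X.O_eq hW hne]
    refine sup_le (fun n hn => ?_) le_rfl
    rw [mem_bot.1 (hN n hn)]
    exact one_mem _
  exact X.X_comm_A hW (hle hx) ha

/-- An element of the common part fixed by the first involution commutes with what is moved, as soon as it
commutes with the moved part of the common part. -/
theorem fixed_comm_N {r : G} (hr : r ∈ cq f uc) (hr0 : r * f 1 = f 1 * r)
    (hrM : ∀ w ∈ ⁅cq f uc, zpowers (f 1)⁆, r * w = w * r) {n : G} (hn : n ∈ nq f uc) : r * n = n * r := by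
  have hS : ∀ c, Commute r (f c) := fun c => by
    rcases bot_codes.1 c with h | h
    · exact X.X_comm_T hW hr h
    · have h1 : Commute r (f (mm c 1)) := X.X_comm_T hW hr h
      rw [X.tab.mul] at h1
      have h2 := h1.mul_right (show Commute r (f 1) from hr0)
      rwa [mul_assoc, X.sq_sing (by decide), mul_one] at h2
  have hrO := ((X.mem_cq).1 hr).1
  obtain ⟨g, hgz, hgQ, hgu⟩ := X.moved
  have hgC : g ∈ centralizer ({f zc} : Set G) := mem_centralizer_singleton_iff.2 hgz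
  set r' := g⁻¹ * r * g
  have hr'O : r' ∈ Oc (f zc) := by
    have h := conj_mem_of_normalizer (X.norm_Oc (inv_mem hgC)) hrO
    rwa [inv_inv] at h
  have hr'Q : ∀ c, IQ c → Commute r' (f c) := fun c hc => by
    obtain ⟨d, -, hd⟩ := hgQ c hc
    show g⁻¹ * r * g * f c = f c * (g⁻¹ * r * g)
    calc g⁻¹ * r * g * f c = g⁻¹ * (r * (g * f c * g⁻¹)) * g := by group
      _ = g⁻¹ * (g * f c * g⁻¹ * r) * g := by rw [hd, (hS d).eq]
      _ = _ := by group
  have hr'X : r' ∈ cq f uc := (X.mem_cq).2 ⟨hr'O, hr'Q uc (by decide)⟩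
  have hr'k : r' * f (kc 1) = f (kc 1) * r' := X.X_comm_T hW hr'X (kc_com 1).2.1
  set c0 := g * f (kc 1) * g⁻¹ with hc0
  have hc0r : Commute r c0 := by
    show r * (g * f (kc 1) * g⁻¹) = g * f (kc 1) * g⁻¹ * r
    calc r * (g * f (kc 1) * g⁻¹) = g * (r' * f (kc 1)) * g⁻¹ := by simp only [r']; group
      _ = g * (f (kc 1) * r') * g⁻¹ := by rw [hr'k]
      _ = _ := by simp only [r']; group
  -- the image of `u`
  obtain ⟨a, ha, ega⟩ : ∃ a, Eqz a 1 ∧ g⁻¹ * f uc * g = f a := by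
    rcases hgu with h | h
    · exact ⟨1, Or.inl rfl, by rw [← h]; group⟩
    · refine ⟨mm 1 zc, Or.inr rfl, ?_⟩
      rw [X.tab.mul] at h ⊢
      calc g⁻¹ * f uc * g = g⁻¹ * (g * f 1 * g⁻¹) * (f zc)⁻¹ * g := by rw [h]; group
        _ = f 1 * (g⁻¹ * (f zc)⁻¹ * g) := by group
        _ = f 1 * f zc := by
          rw [inv_eq_of_sq X.tab.z_sq, mul_assoc, ← hgz, inv_mul_cancel_left]
  set a' := mm (mm (kc 1) a) (inv (kc 1))
  have ha' : Eqz a' (bc 1) ∧ IQ a' ∧ JankoSylow.sq a' = 0 ∧ a' ≠ 0 ∧ a' ≠ zc :=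
    (by decide +kernel : ∀ a, Eqz a 1 → Eqz (mm (mm (kc 1) a) (inv (kc 1))) (bc 1) ∧
      IQ (mm (mm (kc 1) a) (inv (kc 1))) ∧ JankoSylow.sq (mm (mm (kc 1) a) (inv (kc 1))) = 0 ∧
      mm (mm (kc 1) a) (inv (kc 1)) ≠ 0 ∧ mm (mm (kc 1) a) (inv (kc 1)) ≠ zc) a ha
  obtain ⟨d, hdQ, hd⟩ := hgQ a' ha'.2.1
  have hk1 : (f (kc 1))⁻¹ = f (kc 1) := inv_eq_of_sq (X.sq_sing (kc_com 1).2.2)
  have hc0inv : c0⁻¹ = c0 := by rw [hc0, mul_inv_rev, mul_inv_rev, inv_inv, hk1, mul_assoc]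
  have hc0u : c0 * f uc * c0⁻¹ = f d := by
    rw [← hd, ← X.tab.map_conj, ← ega, hc0]
    group
  have hd2 : JankoSylow.sq d = 0 := by
    rw [← X.tab.sq_eq_one_iff, ← hd]
    exact SylL34.conj_sq _ _ (X.sq_sing ha'.2.2.1)
  have hdS : Sing d := by
    refine ⟨hdQ, hd2, fun h => ha'.2.2.2.1 (X.tab.inj ?_), fun h => ha'.2.2.2.2 (X.tab.inj ?_)⟩
    · rw [h, X.tab.map_zero] at hd
      rw [X.tab.map_zero]
      exact conj_eq_one_iff.1 hd
    · rw [h] at hd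
      refine (MulAut.conj g).injective ?_
      show g * f a' * g⁻¹ = g * f zc * g⁻¹
      rw [hd, hgz, mul_inv_cancel_right]
  obtain ⟨j, hj⟩ := sing_bc d hdS
  have hj4 : j ≠ 4 := by
    rintro rfl
    have h0 : ∀ a a' : Fin 128, Eqz a 1 → Eqz a' (bc 1) → a' ≠ a ∧ a' ≠ mm a zc := by
      intro a a' ha ha'
      rcases ha with rfl | rfl <;> rcases ha' with rfl | rfl <;> decide +kernel
    obtain ⟨h1, h2⟩ := h0 a a' ha ha'.1
    rcases hj with h | h <;> rw [h] at hd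
    · refine h1 (X.tab.inj ?_)
      rw [← ega, show g⁻¹ * f uc * g = g⁻¹ * (g * f a' * g⁻¹) * g by rw [hd]; rfl]
      group
    · refine h2 (X.tab.inj ?_)
      rw [X.tab.mul a zc, ← ega, show g⁻¹ * f uc * g = g⁻¹ * (g * f a' * g⁻¹) * (f zc)⁻¹ * g by
        rw [hd, X.tab.mul, bot_codes.2.2.2.2.1]; group, inv_eq_of_sq X.tab.z_sq]
      calc f a' = f a' * (f zc * f zc) := by rw [X.tab.z_sq, mul_one]
        _ = g⁻¹ * (g * f a' * g⁻¹) * g * f zc * f zc := by group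
        _ = g⁻¹ * (g * f a' * g⁻¹) * (g * f zc) * f zc := by group
        _ = _ := by rw [hgz]; group
  obtain ⟨i, hi⟩ := bot_codes.2.2.2.2.2.2 j hj4
  set c := f (kc i) * c0
  have hcC : c ∈ centralizer ({f zc} : Set G) :=
    mul_mem (X.mem_C _) (mul_mem (mul_mem hgC (X.mem_C _)) (inv_mem hgC))
  have hcr : Commute r c := (hS (kc i)).mul_right hc0r
  have hku : (f (kc i))⁻¹ * f uc * f (kc i) = f uc := by
    rw [mul_assoc, ← (X.tab.comm_iff _ _).2 (kc_com i).2.1, inv_mul_cancel_left]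
  have hcu : c⁻¹ * f uc * c⁻¹⁻¹ = f d := by
    simp only [c, mul_inv_rev, inv_inv]
    calc c0⁻¹ * (f (kc i))⁻¹ * f uc * (f (kc i) * c0) = c0⁻¹ * ((f (kc i))⁻¹ * f uc * f (kc i)) * c0 := by group
      _ = c0⁻¹ * f uc * c0 := by rw [hku]
      _ = f d := by rw [← hc0u, hc0inv]
  set d' := mm (mm (kc i) d) (inv (kc i))
  have hd' : Eqz d' 1 := by
    exact bot_move i d (hi ▸ hj)
  have hcd : c * f uc * c⁻¹ = f d' := by
    rw [← X.tab.map_conj, ← hc0u]
    simp only [c]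
    group
  -- commuting with the part fixed by the first involution
  have step : ∀ x ∈ nq f uc, x * f 1 = f 1 * x → r * x = x * r := by
    intro x hx hx1
    have hxc : c⁻¹ * x * c ∈ cq f uc := by
      have := X.cj_cq (inv_mem hcC) (show c⁻¹ * f d' * c⁻¹⁻¹ = f uc by rw [← hcd]; group) (Or.inl rfl)
        (conj_mem_cj.2 (X.cq_eqz (bot_codes.2.1 _ _ hd') ((X.mem_cq).2 ⟨X.nq_le hx, hx1⟩)))
      rwa [inv_inv] at this
    have hinv : f 1 * (c⁻¹ * x * c) * (f 1)⁻¹ = (c⁻¹ * x * c)⁻¹ := by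
      rw [← X.X_act hW hxc j hj4, ← X.act_eqz hj hxc.1, ← hcu]
      calc c⁻¹ * f uc * c⁻¹⁻¹ * (c⁻¹ * x * c) * (c⁻¹ * f uc * c⁻¹⁻¹)⁻¹ = c⁻¹ * (f uc * x * (f uc)⁻¹) * c := by group
        _ = c⁻¹ * x⁻¹ * c := by rw [X.N_inv hW hne hx]
        _ = _ := by group
    have hM : c⁻¹ * x * c ∈ ⁅cq f uc, zpowers (f 1)⁆ := by
      refine mem_of_sq_mem (Odd.of_dvd_nat (Oc_odd _) (card_dvd_of_le (inf_le_left))) hxc ?_
      have h := commutator_mem_commutator hxc (mem_zpowers (f 1))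
      rwa [commutatorElement_def, show ∀ y q : G, y * q * y⁻¹ * q⁻¹ = y * (q * y * q⁻¹)⁻¹ from
        fun y q => by group, hinv, inv_inv] at h
    have h1 : Commute r (c⁻¹ * x * c) := hrM _ hM
    have h2 := (hcr.mul_right h1).mul_right hcr.inv_right
    rwa [show c * (c⁻¹ * x * c) * c⁻¹ = x by group] at h2
  let e : Fin 4 → Fin 5 := fun k => ⟨k.val, by omega⟩
  have h := four_steps (N := nq f uc) (D := centralizer ({r} : Set G))
    (Odd.of_dvd_nat (Oc_odd _) (card_dvd_of_le X.nq_le)) (fun a ha b hb => X.nq_abelian hW hne (bc_sing 4) ha hb)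
    (fun k => f (bc (e k))) (fun k n hn => X.q_N hW hne _ hn) (fun n hn => X.prod_inv hW hne hn)
    (Or.inl fun k n hn => ?_) n hn
  · exact (mem_centralizer_singleton_iff.1 h).symm
  rw [mem_centralizer_singleton_iff]
  show f (bc (e k)) * n * (f (bc (e k)))⁻¹ * n * r = r * (f (bc (e k)) * n * (f (bc (e k)))⁻¹ * n)
  set q := f (bc (e k)) with hq
  set m := q * n * q⁻¹ * n
  have hqq : q * q = 1 := X.sq_sing (bc_sing _).2.1
  have hqn := X.q_N hW hne (e k) hn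
  have hm : m ∈ nq f uc := mul_mem hqn hn
  have hmq : q * m * q⁻¹ = m := by
    calc q * m * q⁻¹ = q * q * n * (q * q)⁻¹ * (q * n * q⁻¹) := by simp only [m]; group
      _ = n * (q * n * q⁻¹) := by rw [hqq, one_mul, inv_one, mul_one]
      _ = m := X.nq_abelian hW hne (bc_sing 4) hn hqn
  set κ := f (kc k)
  have hκN : κ * m * κ⁻¹ ∈ nq f uc := by
    refine X.cj_nq (X.mem_C _) (b := uc) ?_ (bc_sing 4) (Or.inl rfl) (conj_mem_cj.2 hm)
    rw [(X.tab.comm_iff _ _).2 (kc_com k).2.1, mul_inv_cancel_right]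
  have hκq : κ * q * κ⁻¹ = f 1 := by
    rw [hq, X.tab.map_conj, kc_bc, show kperm k (e k) = 0 from bot_codes.2.2.2.1 k]
    rfl
  have hfix : κ * m * κ⁻¹ * f 1 = f 1 * (κ * m * κ⁻¹) := by
    rw [← hκq]
    calc κ * m * κ⁻¹ * (κ * q * κ⁻¹) = κ * ((q * m * q⁻¹) * q) * κ⁻¹ := by rw [hmq]; group
      _ = _ := by group
  have h2 := (((hS (kc k)).inv_right).mul_right (show Commute r _ from step _ hκN hfix)).mul_right (hS (kc k))
  rw [show (f (kc k))⁻¹ * (κ * m * κ⁻¹) * f (kc k) = m by simp only [κ]; group] at h2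
  exact h2.eq.symm

theorem kernel_self {x : G} (hx : x ∈ cq f uc)
    (hxM : ∀ w ∈ cq f uc ⊓ centralizer (nq f uc : Set G), x * w = w * x) :
    x ∈ centralizer (nq f uc : Set G) := by
  have hMK : ⁅cq f uc, zpowers (f 1)⁆ ≤ cq f uc ⊓ centralizer (nq f uc : Set G) := fun w hw =>
    ⟨le_normalizer_iff_commutator_le_left.1 (zpowers_le.2 (mem_normalizer_of_conj_mem fun y hy => X.X_conj_one hW hy)) hw,
      mem_centralizer_iff.2 fun n hn => (X.move_comm_N hW hne hw hn).symm⟩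
  have hq2 : f 1 * f 1 = 1 := X.sq_sing (by decide)
  have hnorm : zpowers (f 1) ≤ normalizer (cq f uc : Set G) :=
    zpowers_le.2 (mem_normalizer_of_conj_mem fun y hy => X.X_conj_one hW hy)
  have hXodd : Odd (Nat.card (cq f uc)) := Odd.of_dvd_nat (Oc_odd _) (card_dvd_of_le inf_le_left)
  obtain ⟨p, hp, r, hr, rfl⟩ := CoprimeAct.exists_mul_of_mem hnorm (by
      rw [Nat.card_zpowers, show orderOf (f 1) = 2 from X.ord_two (by decide) (by decide)]
      exact Nat.coprime_two_left.2 hXodd)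
    (Or.inl (Group.isSolvable_of_comm fun a b => mul_comm' a b)) hx
  have hpM : ∀ w ∈ ⁅cq f uc, zpowers (f 1)⁆, p * w = w * p := fun w hw => by
    have hle : ⁅cq f uc, zpowers (f 1)⁆ ≤ nq f 1 := commutator_mono inf_le_left le_rfl
    exact X.nq_abelian hW hne (bc_sing 0) (hle hp) (hle hw)
  have hrM : ∀ w ∈ ⁅cq f uc, zpowers (f 1)⁆, r * w = w * r := fun w hw => by
    have h1 : Commute p w := hpM w hw
    have h2 : Commute (p * r) w := hxM w (hMK hw)
    have h3 := h1.inv_left.mul_left h2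
    rwa [inv_mul_cancel_left] at h3
  refine mul_mem (hMK hp).2 (mem_centralizer_iff.2 fun n hn => ?_)
  refine (X.fixed_comm_N hW hne hr.1 ?_ hrM hn).symm
  exact (mem_centralizer_iff.1 hr.2 (f 1) (mem_zpowers _)).symm

omit hne

/-- The cores of the three centralizers generate a proper subgroup. -/
theorem cores_ne_top :
    Oc (f zc) ⊔ Oc (f uc) ⊔ Oc (f (mm uc zc)) ≠ (⊤ : Subgroup G) := by
  by_cases hne : ∃ P, P ∈ fam X
  swap
  · have h0 : ∀ v ∈ X.subV, v ≠ 1 → Oc v = ⊥ := fun v hv hv1 => (eq_bot_iff_forall _).2 fun x hx => by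
      rw [← mem_bot, ← hW v (X.V_le_E hv) hv1]
      exact mem_theta.2 ⟨hx, fun P hP => absurd ⟨P, hP⟩ hne⟩
    have hne1 : f uc ≠ 1 ∧ f (mm uc zc) ≠ 1 :=
      ⟨fun h => absurd ((X.tab.eq_one_iff _).1 h) (by decide), fun h => z_codes.2.2.2.1 ((X.tab.eq_one_iff _).1 h)⟩
    rw [h0 _ X.z_mem X.tab.z_ne, h0 _ X.u_mem hne1.1, h0 _ X.uz_mem hne1.2]
    simp only [sup_bot_eq]
    exact bot_ne_top
  obtain ⟨⟨n₁, h1E, h1V, h1z⟩, n₂, h2E, h2V, h2z⟩ := X.exists_rot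
  by_cases h4 : ⁅cq f uc, zpowers (f 1)⁆ = ⊥
  · refine fun htop => X.cent_ne_top X.tab.z_ne (eq_top_iff.2 ?_)
    have key : ∀ n : G, cj n X.subE = X.subE → Oc (n * f zc * n⁻¹) ≤ centralizer ({f zc} : Set G) := by
      intro n hn
      rw [← cj_Oc]
      rintro _ ⟨x, hx, rfl⟩
      obtain ⟨a, ha, e⟩ := hn.ge (X.V_le_E X.z_mem)
      rw [mem_centralizer_singleton_iff, ← e]
      show n * x * n⁻¹ * (n * a * n⁻¹) = n * a * n⁻¹ * (n * x * n⁻¹)
      rw [show n * x * n⁻¹ * (n * a * n⁻¹) = n * (x * a) * n⁻¹ by group, X.A_cent_O hW hne h4 hx ha]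
      group
    rw [← htop]
    exact sup_le (sup_le (Oc_le _) (h1z ▸ key n₁ h1E)) (h2z ▸ key n₂ h2E)
  -- a common subgroup normalised by the three cores
  set D := cq f uc with hD
  set K := D ⊓ centralizer (nq f uc : Set G) with hK
  have hDN : D ≤ normalizer (nq f uc : Set G) := inf_le_left.trans (normalizer_commutator_ge_left _ _)
  have hDK : D ≤ normalizer (K : Set G) := fun x hx => inf_normalizer_le_normalizer_inf (mem_inf.2
    ⟨le_normalizer hx, (LocalBalance.normalizer_le_normalizer_centralizer _) (hDN hx)⟩)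
  have hK1 : K ≠ ⊥ := fun h => h4 (le_bot_iff.1 (h ▸ fun w hw =>
    ⟨le_normalizer_iff_commutator_le_left.1 (zpowers_le.2 (mem_normalizer_of_conj_mem fun y hy => X.X_conj_one hW hy)) hw,
      mem_centralizer_iff.2 fun n hn => (X.move_comm_N hW hne hw hn).symm⟩))
  have hrot : ∀ n : G, cj n X.subE = X.subE → cj n X.subV = X.subV → cj n D = D := by
    intro n hnE hnV
    refine cj_eq_of_conj_mem fun x hx => (X.mem_cq).2 ?_
    have hxall : ∀ v ∈ X.subV, v ≠ 1 → n * x * n⁻¹ ∈ Oc v := fun v hv hv1 => by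
      obtain ⟨w, hw, rfl⟩ := hnV.ge hv
      exact conj_mem_Oc (X.cq_le_Oc hw (fun h => hv1 (by simp [h])) hx)
    refine ⟨hxall _ X.z_mem X.tab.z_ne, Oc_comm (hxall _ X.u_mem fun h => ?_)⟩
    exact absurd ((X.tab.eq_one_iff _).1 h) (by decide)
  have hcent : ∀ n : G, cj n D = D → D ≤ normalizer (cj n K : Set G) ∧ cj n K ≤ D ∧ cj n K ≠ ⊥ ∧
      ∀ x ∈ D, (∀ w ∈ cj n K, x * w = w * x) → x ∈ cj n K := by
    intro n hn
    refine ⟨fun x hx => ?_, (map_mono inf_le_left).trans hn.le, fun h => hK1 ?_, fun x hx hxK => ?_⟩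
    · obtain ⟨y, hy, rfl⟩ := hn.ge hx
      exact le_normalizer_map _ (mem_map_of_mem _ (hDK hy))
    · rw [← cj_inv_cj n K, h]
      exact map_bot _
    · obtain ⟨y, hy, rfl⟩ := hn.ge hx
      refine conj_mem_cj.2 ⟨hy, X.kernel_self hW hne hy fun w hw => ?_⟩
      refine (MulAut.conj n).injective ?_
      rw [map_mul, map_mul]
      exact hxK _ (conj_mem_cj.2 hw)
  have c0 := hcent 1 (cj_one D)
  have c1 := hcent n₁ (hrot n₁ h1E h1V)
  have c2 := hcent n₂ (hrot n₂ h2E h2V)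
  rw [cj_one] at c0
  set K' := cj n₁ K
  set K'' := cj n₂ K
  have h12 : K ⊓ K' ≠ ⊥ := fun h => c1.2.2.1 ((eq_bot_iff_forall _).2 fun w hw =>
    (eq_bot_iff_forall _).1 h w ⟨c0.2.2.2 w (c1.2.1 hw) (fun a ha =>
      (comm_of_disjoint c0.2.1 c1.2.1 c0.1 c1.1 h a ha w hw).symm), hw⟩)
  have hn12 : D ≤ normalizer ((K ⊓ K' : Subgroup G) : Set G) := fun x hx =>
    inf_normalizer_le_normalizer_inf (mem_inf.2 ⟨c0.1 hx, c1.1 hx⟩)
  have h123 : K ⊓ K' ⊓ K'' ≠ ⊥ := fun h => h12 ((eq_bot_iff_forall _).2 fun w hw =>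
    (eq_bot_iff_forall _).1 h w ⟨hw, c2.2.2.2 w (c0.2.1 hw.1) (fun a ha =>
      comm_of_disjoint (inf_le_left.trans c0.2.1) c2.2.1 hn12 c2.1 h w hw a ha)⟩)
  set I := K ⊓ K' ⊓ K'' with hI
  have hnI : ∀ n : G, cj n D = D → I ≤ cj n K → cj n (Oc (f zc)) ≤ normalizer (I : Set G) := by
    intro n hn hIn
    rw [← X.O_eq hW hne, cj, Subgroup.map_sup]
    refine sup_le ?_ ?_
    · rintro _ ⟨y, hy, rfl⟩
      refine mem_normalizer_of_conj_mem fun w hw => ?_
      obtain ⟨w', hw', e⟩ := hIn hw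
      have hyw : Commute y w' := mem_centralizer_iff.1 hw'.2 y hy
      have h1 := hyw.map (MulAut.conj n).toMonoidHom
      rw [e] at h1
      rwa [h1.eq, mul_inv_cancel_right]
    · refine hn.le.trans fun x hx => inf_normalizer_le_normalizer_inf (mem_inf.2 ⟨hn12 hx, c2.1 hx⟩)
  intro htop
  have hnorm : normalizer (I : Set G) = ⊤ := eq_top_iff.2 (htop ▸ sup_le (sup_le
    (cj_one (Oc (f zc)) ▸ hnI 1 (cj_one D) (by rw [cj_one]; exact inf_le_left.trans inf_le_left))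
    (h1z ▸ cj_Oc n₁ (f zc) ▸ hnI n₁ (hrot n₁ h1E h1V) (inf_le_left.trans inf_le_right)))
    (h2z ▸ cj_Oc n₂ (f zc) ▸ hnI n₂ (hrot n₂ h2E h2V) inf_le_right))
  rcases IsSimpleGroup.eq_bot_or_eq_top_of_normal I (normalizer_eq_top_iff.1 hnorm) with h | h
  · exact h123 h
  · have hle : I ≤ centralizer ({f zc} : Set G) :=
      ((inf_le_left.trans inf_le_left).trans inf_le_left).trans (inf_le_left.trans (Oc_le _))
    exact X.cent_ne_top X.tab.z_ne (top_le_iff.1 (h ▸ hle))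

end Ctx

end CfsgLib.JankoType
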