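import Cfsg.Agent.JankoType.Family
import Cfsg.Agent.ZStar.Final
import Cfsg.Agent.LocalB.OddSignalizer

/-!
An element of an abelian Sylow 2-subgroup of `C(b)` fixed by its normalizer is central modulo the core.
-/

set_option autoImplicit false
set_option linter.unusedSectionVars false
set_option linter.style.haveILetI false

namespace CfsgLib.JankoType

open Subgroup CfsgLib.SylL34
open scoped commutatorElement

theorem central_of_fixed {X : Type*} [Group X] [Finite X] (hO : Cfsg.oddCore X = ⊥) (S : Sylow 2 X)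
    (hab : ∀ x ∈ (S : Subgroup X), ∀ y ∈ (S : Subgroup X), x * y = y * x) {p : X}
    (hp : p ∈ (S : Subgroup X)) (hpp : p * p = 1)
    (hn : ∀ n ∈ normalizer ((S : Subgroup X) : Set X), n * p * n⁻¹ = p) : ∀ g : X, p * g = g * p := by
  by_cases hp1 : p = 1
  · simp [hp1]
  have hSC : (S : Subgroup X) ≤ centralizer ({p} : Set X) := fun x hx =>
    mem_centralizer_singleton_iff.2 (hab x hx p hp)
  have hiso : ∀ g : X, g * p * g⁻¹ ∈ (S : Subgroup X) → g * p * g⁻¹ = p := by
    intro g hg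
    obtain ⟨k, hk⟩ := exists_cj_le (S.subtype hSC)
      (P := (cj g⁻¹ (S : Subgroup X)).subgroupOf (centralizer ({p} : Set X)))
      ((show IsPGroup 2 (cj g⁻¹ (S : Subgroup X)) from S.2.map _).comap_subtype)
    have hgC : cj g⁻¹ (S : Subgroup X) ≤ centralizer ({p} : Set X) := fun y hy => by
      rw [mem_cj, inv_inv] at hy
      rw [mem_centralizer_singleton_iff]
      have h := hab _ hy _ hg
      calc y * p = g⁻¹ * (g * y * g⁻¹ * (g * p * g⁻¹)) * g := by group
        _ = g⁻¹ * (g * p * g⁻¹ * (g * y * g⁻¹)) * g := by rw [h]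
        _ = p * y := by group
    have hkn : cj ((k : X) * g⁻¹) (S : Subgroup X) ≤ (S : Subgroup X) := by
      rw [← cj_cj]
      intro y hy
      have hyC : y ∈ centralizer ({p} : Set X) := by
        have h0 : (k : X)⁻¹ * y * k ∈ centralizer ({p} : Set X) := hgC (mem_cj.1 hy)
        have := mul_mem (mul_mem k.2 h0) (inv_mem k.2)
        rwa [show (k : X) * ((k : X)⁻¹ * y * k) * (k : X)⁻¹ = y by group] at this
      have h0' := mem_cj.1 hy
      exact hk ((mem_cj (g := k) (x := (⟨y, hyC⟩ : centralizer ({p} : Set X)))).2 h0')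
    have hkn' : (k : X) * g⁻¹ ∈ normalizer ((S : Subgroup X) : Set X) :=
      mem_normalizer_of_cj (eq_of_le_of_card_ge hkn (card_cj _ _).ge)
    have h1 : (k : X) * g⁻¹ * (g * p * g⁻¹) * ((k : X) * g⁻¹)⁻¹ = p := by
      rw [show (k : X) * g⁻¹ * (g * p * g⁻¹) * ((k : X) * g⁻¹)⁻¹ = k * p * (k : X)⁻¹ by group,
        mem_centralizer_singleton_iff.1 k.2, mul_inv_cancel_right]
    exact (MulAut.conj ((k : X) * g⁻¹)).injective (h1.trans (hn _ hkn').symm)
  obtain ⟨N, hN, hNodd, hc⟩ := ZStar.zstar_of_sylow S (Invol.orderOf_eq_two hpp hp1) hiso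
  intro g
  have h1 : p * g * p⁻¹ * g⁻¹ = 1 := by
    have := le_ocore hN hNodd (hc g)
    rwa [hO, mem_bot] at this
  calc p * g = p * g * p⁻¹ * g⁻¹ * (g * p) := by group
    _ = g * p := by rw [h1, one_mul]

variable {G : Type*} [Group G] [Finite G]

/-- `A` is a Sylow subgroup of `C(b)` as soon as no larger 2-subgroup of `C(b)` contains it. -/
theorem exists_sylow {A : Subgroup G} {b : G} (hsq : ∀ x ∈ A, x * x = 1)
    (hA : A ≤ centralizer ({b} : Set G))
    (hmax : ∀ T : Subgroup G, IsPGroup 2 T → T ≤ centralizer ({b} : Set G) → A ≤ T → T = A) :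
    ∃ S : Sylow 2 (centralizer ({b} : Set G)),
      (S : Subgroup (centralizer ({b} : Set G))) = A.subgroupOf (centralizer ({b} : Set G)) := by
  obtain ⟨S, hS⟩ := ((isPGroup_of_sq hsq).comap_subtype (K := centralizer ({b} : Set G))).exists_le_sylow
  refine ⟨S, ?_⟩
  have h := hmax ((S : Subgroup _).map (centralizer ({b} : Set G)).subtype) (S.2.map _) (map_subtype_le _)
    (fun a ha => ⟨⟨a, hA ha⟩, hS ha, rfl⟩)
  refine le_antisymm (fun x hx => ?_) hS
  rw [mem_subgroupOf, ← h]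
  exact mem_map_of_mem _ hx

/-- An element of `A` fixed by `N(A) ∩ C(b)` is central in `C(b)` modulo the core. -/
theorem comm_mem_Oc {A : Subgroup G} {b : G} (hsq : ∀ x ∈ A, x * x = 1)
    (hA : A ≤ centralizer ({b} : Set G))
    (hmax : ∀ T : Subgroup G, IsPGroup 2 T → T ≤ centralizer ({b} : Set G) → A ≤ T → T = A)
    {p : G} (hp : p ∈ A)
    (hfix : ∀ n : G, n * b = b * n → n ∈ normalizer (A : Set G) → n * p = p * n) :
    ∀ c ∈ centralizer ({b} : Set G), ⁅c, p⁆ ∈ Oc b := by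
  obtain ⟨S, hS⟩ := exists_sylow hsq hA hmax
  let C := centralizer ({b} : Set G)
  haveI : (Cfsg.oddCore C).Normal := ocore_normal
  set π := QuotientGroup.mk' (Cfsg.oddCore C)
  have hπ := QuotientGroup.mk'_surjective (Cfsg.oddCore C)
  have key := central_of_fixed (LocalB.oddCore_quotient) (S.mapSurjective hπ) (p := π ⟨p, hA hp⟩) ?_ ?_ ?_ ?_
  · intro c hc
    have h : π ⁅(⟨c, hc⟩ : C), ⟨p, hA hp⟩⁆ = 1 := by
      rw [map_commutatorElement, commutatorElement_eq_one_iff_mul_comm]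
      exact (key _).symm
    exact ⟨_, (QuotientGroup.eq_one_iff _).1 h, rfl⟩
  · rintro _ ⟨x, hx, rfl⟩ _ ⟨y, hy, rfl⟩
    rw [SetLike.mem_coe, hS, mem_subgroupOf] at hx hy
    rw [← map_mul, ← map_mul, show x * y = y * x from Subtype.ext (comm_of_sq hsq hx hy)]
  · exact mem_map_of_mem π (hS ▸ hp)
  · rw [← map_mul, show (⟨p, hA hp⟩ : C) * ⟨p, hA hp⟩ = 1 from Subtype.ext (hsq p hp), map_one]
  · intro n hn
    obtain ⟨m, hm, rfl⟩ := sylow_lift π hπ S hn
    have hmA : (m : G) ∈ normalizer (A : Set G) := mem_normalizer_of_conj_mem fun a ha => by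
      have h := conj_mem_of_normalizer hm (show (⟨a, hA ha⟩ : C) ∈ (S : Subgroup C) from hS ▸ ha)
      rw [hS] at h
      exact h
    rw [← map_inv, ← map_mul, ← map_mul]
    refine congrArg π (Subtype.ext ?_)
    show (m : G) * p * (m : G)⁻¹ = p
    rw [hfix m (mem_centralizer_singleton_iff.1 m.2) hmA, mul_inv_cancel_right]

/-- If all of `A` is central modulo the core, `b` is tame. -/
theorem tame_of_central {A : Subgroup G} {b : G} (hsq : ∀ x ∈ A, x * x = 1)
    (hA : A ≤ centralizer ({b} : Set G))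
    (hmax : ∀ T : Subgroup G, IsPGroup 2 T → T ≤ centralizer ({b} : Set G) → A ≤ T → T = A)
    (hc : ∀ p ∈ A, ∀ c ∈ centralizer ({b} : Set G), ⁅c, p⁆ ∈ Oc b) : Tame A b := by
  intro K hK hodd _ x hx
  obtain ⟨S, hS⟩ := exists_sylow hsq hA hmax
  let C := centralizer ({b} : Set G)
  haveI : (Cfsg.oddCore C).Normal := ocore_normal
  set π := QuotientGroup.mk' (Cfsg.oddCore C)
  have hπ := QuotientGroup.mk'_surjective (Cfsg.oddCore C)
  have hcen : normalizer (((S.mapSurjective hπ : Sylow 2 _) : Subgroup (C ⧸ Cfsg.oddCore C)) : Set (C ⧸ Cfsg.oddCore C)) ≤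
      centralizer (((S.mapSurjective hπ : Sylow 2 _) : Subgroup (C ⧸ Cfsg.oddCore C)) : Set (C ⧸ Cfsg.oddCore C)) := by
    intro g _
    rw [mem_centralizer_iff]
    rintro _ ⟨a, ha, rfl⟩
    obtain ⟨c, rfl⟩ := hπ g
    rw [SetLike.mem_coe, hS, mem_subgroupOf] at ha
    rw [eq_comm, ← commutatorElement_eq_one_iff_mul_comm, ← map_commutatorElement]
    refine (QuotientGroup.eq_one_iff _).2 ?_
    obtain ⟨w, hw, e⟩ := hc a ha c c.2
    rwa [show ⁅c, a⁆ = w from Subtype.ext e.symm]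
  have h := (twoNil _ hcen).2 (π ⟨x, hK hx⟩) (Odd.of_dvd_nat hodd ((orderOf_map_dvd π _).trans
    (by rw [← orderOf_coe]; exact orderOf_dvd_natCard K hx)))
  rw [LocalB.oddCore_quotient, mem_bot] at h
  exact ⟨⟨x, hK hx⟩, (QuotientGroup.eq_one_iff _).1 h, rfl⟩

end CfsgLib.JankoType
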