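import Cfsg.Agent.JankoType.Fusion

/-!
The classes of involutions and the family of four-subgroups of `A`.
-/

set_option autoImplicit false
set_option linter.unusedSectionVars false
set_option linter.style.haveILetI false

namespace CfsgLib.JankoType

open Subgroup CfsgLib.SylL34 CfsgLib.JankoSylow
open scoped commutatorElement

theorem not_iq_iff : ∀ w : Fin 4, ∀ q : Fin 128, IQ q → (IQ (mm (kc w) q) ↔ w = 0) := by decide +kernel

theorem hi_kc : ∀ w : Fin 4, ∀ q : Fin 128, IQ q → (⟨(mm (kc w) q).val / 32 % 4, by omega⟩ : Fin 4) = w := by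
  decide +kernel

variable {G : Type*} [Group G] [Finite G] {S : Sylow 2 G} {f : Fin 128 → G} (X : Ctx S f)

/-- The elements of `C(b)` normalising `A`. -/
def NB (X : Ctx S f) (b : G) (n : G) : Prop := n * b = b * n ∧ n ∈ normalizer (X.subE : Set G)

/-- The elements of `A` fixed by all of them. -/
def fixer (X : Ctx S f) (b : G) : Subgroup G :=
  X.subE ⊓ ⨅ n : {n : G // NB X b n}, centralizer ({(n : G)} : Set G)

namespace Ctx

include X

theorem mem_fixer {b p : G} : p ∈ fixer X b ↔ p ∈ X.subE ∧ ∀ n, NB X b n → n * p = p * n := by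
  simp only [fixer, mem_inf, mem_iInf, mem_centralizer_singleton_iff, Subtype.forall]
  exact and_congr_right fun _ => forall₂_congr fun n _ => eq_comm

/-- Involutions outside the Clifford group are conjugate. -/
theorem out_conj {a b : Fin 128} (ha : Out a) (hb : Out b) : IsConj (f a) (f b) := by
  obtain ⟨η, E⟩ := X.exists_eta
  have rep : ∀ a : Fin 128, Out a → ∀ v : Fin 4, v.val = a.val / 32 → v ≠ 0 ∧ IsConj (f a) (f (kc v)) := by
    intro a ha v hv
    obtain ⟨t, ht⟩ := out_rep a ha.1 ha.2.1 ha.2.2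
    have hv' : (⟨a.val / 32, by omega⟩ : Fin 4) = v := Fin.ext hv.symm
    refine ⟨fun h => ha.2.1 ((out_rep_iq a).2 (by rw [← hv, h]; rfl)),
      isConj_iff.2 ⟨f t, ?_⟩⟩
    rw [X.tab.map_conj, ht, hv']
  obtain ⟨hv, hav⟩ := rep a ha ⟨a.val / 32, by omega⟩ rfl
  obtain ⟨hw, hbw⟩ := rep b hb ⟨b.val / 32, by omega⟩ rfl
  generalize (⟨a.val / 32, by omega⟩ : Fin 4) = v at hv hav
  generalize (⟨b.val / 32, by omega⟩ : Fin 4) = w at hw hbw
  obtain ⟨σ, hs, h4, hσ⟩ := perm_three v w hv hw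
  obtain ⟨c, hc, hu⟩ := X.exists_stab E hs h4
  obtain ⟨o, ho, q, hq, hqA, e⟩ := X.conj_kc E hu (by rw [hc]; exact hσ)
  set d := mm (kc w) q
  have hx2 : o * f d * (o * f d) = 1 := by
    rw [← e]
    exact SylL34.conj_sq _ _ ((X.tab.sq_eq_one_iff _).2 (kc_com v).2.2)
  have hd2 : JankoSylow.sq d = 0 := by
    refine (X.code_eq (o := o * (f d * o * (f d)⁻¹)) (mul_mem ho
      (conj_mem_of_normalizer (X.norm_Oc (X.mem_C d)) ho)) ?_).2
    rw [← X.tab.map_sq, X.tab.map_zero, ← hx2]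
    group
  have hdQ : ¬ IQ d := fun h => hw ((not_iq_iff w q hq).1 h)
  have hdA : IA d := (ia_split w q hq).2 hqA
  have hd0 : d ≠ 0 := fun h => hdQ (h ▸ (by decide))
  have hox : orderOf (o * f d) = 2 := by
    rw [← e, Invol.orderOf_conj_eq]
    exact X.ord_two (kc_com v).2.2 (fun h => hv ((kc_iq v).1 (by rw [h]; decide)))
  obtain ⟨o', -, e'⟩ := exists_conj_mod (Oc_odd (f zc)) (X.ord_two hd2 hd0) hox (by
    rw [mul_assoc, Invol.mul_self_eq_one (X.ord_two hd2 hd0), mul_one]; exact ho)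
  obtain ⟨-, hdw⟩ := rep d ⟨hdA, hdQ, hd2⟩ w (by
    have h1 := congrArg Fin.val (hi_kc w q hq)
    simp only at h1
    rw [← h1]
    omega)
  exact (hav.trans (isConj_iff.2 ⟨c, e.trans e'.symm⟩ : IsConj (f (kc v)) (o' * f d * o'⁻¹))).trans
    ((isConj_iff.2 ⟨o'⁻¹, by group⟩ : IsConj (o' * f d * o'⁻¹) (f d)).trans (hdw.trans hbw.symm))

/-- Every involution is conjugate to `z` or to an involution outside the Clifford group. -/
theorem invol_cases [IsSimpleGroup G] {x : G} (hx : orderOf x = 2) :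
    IsConj x (f zc) ∨ IsConj x (f 32) := by
  obtain ⟨g, hg⟩ := exists_conj_mem S (Invol.mul_self_eq_one hx)
  obtain ⟨c, hc⟩ := X.tab.surj _ hg
  have hxc : IsConj x (f c) := hc ▸ isConj_iff.2 ⟨g, rfl⟩
  have hc2 : JankoSylow.sq c = 0 := by
    rw [← X.tab.sq_eq_one_iff, hc]
    exact SylL34.conj_sq _ _ (Invol.mul_self_eq_one hx)
  have hc0 : c ≠ 0 := by
    rintro rfl
    rw [X.tab.map_zero] at hc
    exact Invol.ne_one hx (conj_eq_one_iff.1 hc.symm)
  by_cases hQ : IQ c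
  · left
    by_cases hz : c = zc
    · exact hz ▸ hxc
    obtain ⟨m, -, hm⟩ := X.sing_conj ⟨hQ, hc2, hc0, hz⟩
    exact (hxc.trans (isConj_iff.2 ⟨m⁻¹, by rw [← hm]; group⟩ : IsConj (f c) (f uc))).trans X.u_conj.symm
  · exact Or.inr (hxc.trans (X.out_conj ⟨by_contra fun h => hQ (invol_out c hc2 h), hQ, hc2⟩ (by decide)))

theorem E_mem_out {x : G} (hx : x ∈ X.subE) (hV : x ∉ X.subV) : ∃ c, Out c ∧ Com c 32 ∧ f c = x := by
  obtain ⟨c, hc, rfl⟩ := hx
  exact ⟨c, com32_out c hc fun h => hV (X.mem_V_code.2 h), hc, rfl⟩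

theorem V_cases {v : G} (hv : v ∈ X.subV) : v = 1 ∨ v = f zc ∨ v = f uc ∨ v = f (mm uc zc) := by
  obtain ⟨c, hc, rfl⟩ := hv
  rcases hc with rfl | rfl | rfl | rfl
  exacts [Or.inl X.tab.map_zero, Or.inr (Or.inl rfl), Or.inr (Or.inr (Or.inl rfl)), Or.inr (Or.inr (Or.inr rfl))]

theorem V_zconj [IsSimpleGroup G] {v : G} (hv : v ∈ X.subV) (hv1 : v ≠ 1) : IsConj (f zc) v := by
  rcases X.V_cases hv with rfl | rfl | rfl | rfl
  · exact absurd rfl hv1
  · exact IsConj.refl _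
  · exact X.u_conj
  · exact X.u_conj.trans (isConj_iff.2 ⟨f 1, X.f1_cj.2.2.2.2⟩)

/-- Odd subgroups of `C(z)` normalised by `A` lie in the core. -/
theorem tame_z : Tame X.subE (f zc) := fun K hK hodd hn => by
  obtain ⟨η, E⟩ := X.exists_eta
  exact X.odd_le E hK hodd fun v =>
    ⟨⟨f (kc v), X.mem_C _⟩, E.four v _, hn (X.mem_E_code.2 (kc_com v).1)⟩

theorem tame_conj [IsSimpleGroup G] {x : G} (hx : x ∈ X.subE) (hc : IsConj (f zc) x) : Tame X.subE x := by
  obtain ⟨n, hnE, hnx⟩ := X.norm_conj hx hc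
  intro K hK hodd hn y hy
  have h1 : cj n⁻¹ K ≤ Oc (f zc) := by
    refine X.tame_z _ ?_ (by rw [card_cj]; exact hodd) ?_
    · refine (map_mono hK).trans (le_of_eq ?_)
      show cj n⁻¹ (centralizer ({x} : Set G)) = _
      rw [cj_centralizer, ← hnx]
      congr 2
      group
    · intro a ha
      refine mem_normalizer_of_cj ?_
      have h : n * a * n⁻¹ ∈ X.subE := hnE ▸ conj_mem_cj.2 ha
      rw [cj_cj, show a * n⁻¹ = n⁻¹ * (n * a * n⁻¹) by group, ← cj_cj, cj_of_mem_normalizer (hn h)]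
  have h2 := conj_mem_Oc (g := n) (h1 (conj_mem_cj.2 hy))
  rw [hnx] at h2
  rwa [show n * (n⁻¹ * y * n⁻¹⁻¹) * n⁻¹ = y by group] at h2

/-- `A` is a Sylow subgroup of the centralizer of an element of `A` not conjugate to `z`. -/
theorem sylow_max [IsSimpleGroup G] {b : G} (hb : b ∈ X.subE) (hb1 : b ≠ 1) (hbz : ¬ IsConj (f zc) b)
    (T : Subgroup G) (hT : IsPGroup 2 T) (hTb : T ≤ centralizer ({b} : Set G)) (hET : X.subE ≤ T) :
    T = X.subE := by
  obtain ⟨g, hg⟩ := exists_cj_le S hT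
  obtain ⟨c, hc⟩ := X.tab.surj _ (hg (conj_mem_cj.2 (hET hb)))
  have hbc : IsConj b (f c) := hc ▸ isConj_iff.2 ⟨g, rfl⟩
  have hc2 : JankoSylow.sq c = 0 := by
    rw [← X.tab.sq_eq_one_iff, hc]
    exact SylL34.conj_sq _ _ (X.E_sq _ hb)
  have hc0 : c ≠ 0 := by
    rintro rfl
    rw [X.tab.map_zero] at hc
    exact hb1 (conj_eq_one_iff.1 hc.symm)
  have hQ : ¬ IQ c := by
    intro hQ
    by_cases hz : c = zc
    · exact hbz (hz ▸ hbc).symm
    obtain ⟨m, -, hm⟩ := X.sing_conj ⟨hQ, hc2, hc0, hz⟩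
    exact hbz ((X.u_conj.trans (isConj_iff.2 ⟨m, hm⟩)).trans hbc.symm)
  have hA : IA c := by_contra fun h => hQ (invol_out c hc2 h)
  have hle : cj g T ≤ X.tab.subC c := by
    intro y hy
    obtain ⟨d, hd⟩ := X.tab.surj y (hg hy)
    refine ⟨d, (X.tab.comm_iff d c).1 ?_, hd⟩
    have h0 := mem_centralizer_singleton_iff.1 (hTb (mem_cj.1 hy))
    rw [hd, hc]
    calc y * (g * b * g⁻¹) = g * (g⁻¹ * y * g * b) * g⁻¹ := by group
      _ = g * (b * (g⁻¹ * y * g)) * g⁻¹ := by rw [h0]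
      _ = g * b * g⁻¹ * y := by group
  have h16 := card_le_of_le hle
  rw [card_cj, X.tab.card_subC_a hA hQ hc2] at h16
  exact (eq_of_le_of_card_ge hET (by rw [X.E_card]; exact h16)).symm

/-- The data in the case of two classes. -/
structure TwoClass (X : Ctx S f) : Prop where
  out : ∀ a : G, a ∈ X.subE → a ∉ X.subV → ¬ IsConj (f zc) a

variable {X}

theorem TwoClass.norm_V [IsSimpleGroup G] (H : TwoClass X) {n : G} (hn : n ∈ normalizer (X.subE : Set G))
    {v : G} (hv : v ∈ X.subV) : n * v * n⁻¹ ∈ X.subV := by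
  by_cases hv1 : v = 1
  · subst hv1; simp
  by_contra h
  exact H.out _ (conj_mem_of_normalizer hn (X.V_le_E hv)) h
    ((X.V_zconj hv hv1).trans (isConj_iff.2 ⟨n, rfl⟩))

theorem TwoClass.odd_power [IsSimpleGroup G] (H : TwoClass X) {b n : G} (hb : b ∈ X.subE) (hbV : b ∉ X.subV)
    (hn : NB X b n) : ∃ m, Odd m ∧ ∀ x ∈ X.subE, n ^ m * x = x * n ^ m := by
  obtain ⟨m, k, hm, hk⟩ := exists_odd_pow n
  refine ⟨m, hm, fun x hx => X.E_comm ?_ hx⟩
  have hT := (isPGroup_zpowers_of hk).to_sup_of_normal_right' (isPGroup_of_sq X.E_sq)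
    (zpowers_le.2 (pow_mem hn.2 m))
  have h := X.sylow_max hb (fun e => hbV (e ▸ one_mem _)) (H.out b hb hbV) _ hT
    (sup_le (zpowers_le.2 (pow_mem (mem_centralizer_singleton_iff.2 hn.1) m)) (X.E_le_cent hb)) le_sup_right
  exact h ▸ mem_sup_left (mem_zpowers _)

theorem TwoClass.coset [IsSimpleGroup G] (H : TwoClass X) {b n x : G} (hb : b ∈ X.subE) (hbV : b ∉ X.subV)
    (hn : NB X b n) (hx : x ∈ X.subE) : n * x * n⁻¹ * x⁻¹ ∈ X.subV := by
  have hnV : ∀ v ∈ X.subV, n * v * n⁻¹ ∈ X.subV := fun v hv => H.norm_V hn.2 hv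
  have hnb : n * b * n⁻¹ = b := by rw [hn.1, mul_inv_cancel_right]
  by_cases hxV : x ∈ X.subV
  · exact mul_mem (hnV x hxV) (inv_mem hxV)
  have hVcomm : ∀ y ∈ X.subE, y⁻¹ = y := fun y hy => inv_eq_of_sq (X.E_sq y hy)
  by_cases hxb : x * b ∈ X.subV
  · have h1 := mul_mem (hnV _ hxb) (inv_mem hxb)
    rwa [show n * (x * b) * n⁻¹ * (x * b)⁻¹ = n * x * n⁻¹ * (n * b * n⁻¹) * b⁻¹ * x⁻¹ by group, hnb,
      mul_inv_cancel_right] at h1
  set y := n * x * n⁻¹
  have hy : y ∈ X.subE := conj_mem_of_normalizer hn.2 hx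
  have hback : ∀ w ∈ X.subE, n * w * n⁻¹ ∈ X.subV → w ∈ X.subV := fun w hw h => by
    by_contra hwV
    exact H.out w hw hwV ((X.V_zconj h (fun e => hwV (conj_eq_one_iff.1 e ▸ one_mem _))).trans
      (isConj_iff.2 ⟨n⁻¹, by group⟩))
  have hyV : y ∉ X.subV := fun h => hxV (hback x hx h)
  have hybV : y * b ∉ X.subV := fun h => hxb (hback _ (mul_mem hx hb) (by
    rwa [show n * (x * b) * n⁻¹ = y * (n * b * n⁻¹) by simp only [y]; group, hnb]))
  obtain ⟨cb, hcb, rfl⟩ := hb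
  obtain ⟨cx, hcx, rfl⟩ := hx
  obtain ⟨cy, hcy, ey⟩ := hy
  have hcod : ∀ c, IZA c ↔ f c ∈ X.subV := fun c => X.mem_V_code.symm
  have key := coset_dichotomy cb cx cy hcb hcx hcy (fun h => hbV ((hcod _).1 h)) (fun h => hxV ((hcod _).1 h))
    (fun h => hxb (X.tab.mul cx cb ▸ (hcod _).1 h)) (fun h => hyV (ey ▸ (hcod _).1 h))
    (fun h => hybV (ey ▸ X.tab.mul cy cb ▸ (hcod _).1 h))
  rw [hcod, hcod, X.tab.mul, X.tab.mul, X.tab.mul, ey] at key
  have hE : ∀ c, Com c 32 → f c ∈ X.subE := fun c hc => X.mem_E_code.2 hc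
  rcases key with h | h
  · rwa [hVcomm _ (hE cx hcx)]
  exfalso
  obtain ⟨m, hm, hmc⟩ := H.odd_power (hE cb hcb) hbV hn
  obtain ⟨j, rfl⟩ := hm
  have hk : ∀ k : ℕ, n ^ k * f cx * (n ^ k)⁻¹ * (f cx * f cb ^ k)⁻¹ ∈ X.subV := by
    intro k
    induction k with
    | zero => simp
    | succ k ih =>
      have h2 := hnV _ ih
      have h3 : y * (f cx * f cb)⁻¹ ∈ X.subV := by rwa [hVcomm _ (mul_mem (hE cx hcx) (hE cb hcb))]
      have h4 := mul_mem h2 h3
      rw [show n * (n ^ k * f cx * (n ^ k)⁻¹ * (f cx * f cb ^ k)⁻¹) * n⁻¹ * (y * (f cx * f cb)⁻¹) =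
        n ^ (k + 1) * f cx * (n ^ (k + 1))⁻¹ * ((n * f cb * n⁻¹) ^ k)⁻¹ * (f cb)⁻¹ * (f cx)⁻¹ by
          rw [conj_pow, pow_succ']; simp only [y]; group, hnb] at h4
      rw [show (f cx * f cb ^ (k + 1))⁻¹ = (f cb ^ k)⁻¹ * (f cb)⁻¹ * (f cx)⁻¹ by rw [pow_succ']; group,
        ← mul_assoc, ← mul_assoc]
      exact h4
  have h1 := hk (2 * j + 1)
  rw [hmc _ (hE cx hcx), mul_inv_cancel_right, pow_succ, pow_mul, pow_two (f cb), X.E_sq _ (hE cb hcb), one_pow,
    one_mul, mul_inv_rev, hVcomm _ (hE cb hcb), hVcomm _ (hE cx hcx), X.E_comm (hE cb hcb) (hE cx hcx),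
    ← mul_assoc, X.E_sq _ (hE cx hcx), one_mul] at h1
  exact hbV h1

/-- An element fixing an involution of `V` acts trivially on `A`. -/
theorem TwoClass.trivial_of_fix [IsSimpleGroup G] (H : TwoClass X) {b n : G} (hb : b ∈ X.subE) (hbV : b ∉ X.subV)
    (hn : NB X b n) {v : G} (hv : v ∈ X.subV) (hv1 : v ≠ 1) (hnv : n * v = v * n) :
    ∀ x ∈ X.subE, n * x = x * n := by
  obtain ⟨m, hm, hmc⟩ := H.odd_power hb hbV hn
  have hnv' : n * v * n⁻¹ = v := by rw [hnv, mul_inv_cancel_right]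
  have hV : ∀ w ∈ X.subV, n * w * n⁻¹ = w := by
    intro w hw
    have hd : n * w * n⁻¹ * w⁻¹ = 1 ∨ n * w * n⁻¹ * w⁻¹ = v := by
      have h4 : ∀ w d e : Fin 128, IZA w → IZA d → IZA e → e ≠ 0 → w ≠ 0 → d ≠ 0 →
          mm d (inv w) = 0 ∨ mm d (inv w) = e ∨ (d = e ∧ w ≠ e) ∨ (w = e ∧ d ≠ e) := by
        intro w d e hw hd he
        rcases hw with rfl | rfl | rfl | rfl <;> rcases hd with rfl | rfl | rfl | rfl <;>
          rcases he with rfl | rfl | rfl | rfl <;> decide +kernel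
      obtain ⟨ce, hce, ee⟩ := hv
      obtain ⟨cw, hcw, ew⟩ := hw
      obtain ⟨cd, hcd, ed⟩ := H.norm_V hn.2 (show w ∈ X.subV from ⟨cw, hcw, ew⟩)
      by_cases hw0 : cw = 0
      · left; subst hw0; rw [← ew, X.tab.map_zero]; group
      have hd0 : cd ≠ 0 := fun h => hw0 (X.tab.inj (by
        rw [h, X.tab.map_zero] at ed
        rw [X.tab.map_zero, ew]
        exact conj_eq_one_iff.1 ed.symm))
      have hce0 : ce ≠ 0 := fun h => hv1 (by rw [← ee, h, X.tab.map_zero])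
      have ha : cd = ce → cw = ce := fun h => X.tab.inj (by
          refine (MulAut.conj n).injective ?_
          show n * f cw * n⁻¹ = n * f ce * n⁻¹
          rw [ew, ee, ← ed, h, ee, hnv'])
      have hb : cw = ce → cd = ce := fun h => X.tab.inj (by rw [ed, ← ew, h, ee, hnv'])
      rcases h4 cw cd ce hcw hcd hce hce0 hw0 hd0 with h | h | ⟨h, h'⟩ | ⟨h, h'⟩
      · left
        rw [← ed, ← ew, ← X.tab.map_inv, ← X.tab.mul, h, X.tab.map_zero]
      · right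
        rw [← ed, ← ew, ← X.tab.map_inv, ← X.tab.mul, h, ee]
      · exact absurd (ha h) h'
      · exact absurd (hb h) h'
    rcases hd with h | h
    · exact mul_inv_eq_one.1 h
    exfalso
    refine hv1 (odd_shift (n := n) (x := w) (d := v) ?_ hnv' (X.E_sq v (X.V_le_E hv)) hm (hmc w (X.V_le_E hw)))
    rw [X.E_comm (X.V_le_E hw) (X.V_le_E hv), ← h]; group
  intro x hx
  have hd := H.coset hb hbV hn hx
  have h1 := odd_shift (n := n) (x := x) (d := n * x * n⁻¹ * x⁻¹) ?_ (hV _ hd) (X.E_sq _ (X.V_le_E hd)) hm (hmc x hx)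
  · exact mul_inv_eq_iff_eq_mul.1 (mul_inv_eq_one.1 h1)
  · rw [X.E_comm hx (X.V_le_E hd)]; group

/-- The fixed four-group. -/
theorem TwoClass.fixed_four [IsSimpleGroup G] (H : TwoClass X) {b n : G} (hb : b ∈ X.subE) (hbV : b ∉ X.subV)
    (hn : NB X b n) (hne : ∃ x ∈ X.subE, n * x ≠ x * n) :
    fixer X b = X.subE ⊓ centralizer ({n} : Set G) ∧ Nat.card (fixer X b) = 4 ∧
      ∀ e ∈ fixer X b, e ∈ X.subV → e = 1 := by
  obtain ⟨x₀, hx₀, hx₀n⟩ := hne
  have hfree : ∀ v ∈ X.subV, n * v = v * n → v = 1 := fun v hv h => by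
    by_contra h1
    exact hx₀n (H.trivial_of_fix hb hbV hn hv h1 h x₀ hx₀)
  have hFeq : fixer X b = X.subE ⊓ centralizer ({n} : Set G) := by
    refine le_antisymm (fun p hp => ?_) (fun p hp => X.mem_fixer.2 ⟨hp.1, fun k hk => ?_⟩)
    · obtain ⟨h1, h2⟩ := X.mem_fixer.1 hp
      exact ⟨h1, mem_centralizer_singleton_iff.2 (h2 n hn).symm⟩
    obtain ⟨hpE, hpn⟩ := hp
    have hpn' := (mem_centralizer_singleton_iff.1 hpn).symm
    by_cases hk0 : k * f zc = f zc * k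
    · exact H.trivial_of_fix hb hbV hk X.z_mem X.tab.z_ne hk0 p hpE
    have hz3 : ∀ a c d w : G, a ∈ X.subV → c ∈ X.subV → d ∈ X.subV → a ≠ 1 → c ≠ 1 → d ≠ 1 → a ≠ f zc →
        c ≠ f zc → d ≠ f zc → w = a → a = c ∨ a = d ∨ c = d := by
      intro a c d w ha hc hd ha1 hc1 hd1 haz hcz hdz _
      rcases X.V_cases ha with h | h | h | h <;> rcases X.V_cases hc with h' | h' | h' | h' <;>
        rcases X.V_cases hd with h'' | h'' | h'' | h'' <;>
        first
          | exact absurd h ha1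
          | exact absurd h' hc1
          | exact absurd h'' hd1
          | exact absurd h haz
          | exact absurd h' hcz
          | exact absurd h'' hdz
          | exact Or.inl (h.trans h'.symm)
          | exact Or.inr (Or.inl (h.trans h''.symm))
          | exact Or.inr (Or.inr (h'.trans h''.symm))
    set s := n * f zc * n⁻¹ with hs
    set t := n * s * n⁻¹ with ht
    set w := k * f zc * k⁻¹ with hw
    have hsV : s ∈ X.subV := H.norm_V hn.2 X.z_mem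
    have htV : t ∈ X.subV := H.norm_V hn.2 hsV
    have hwV : w ∈ X.subV := H.norm_V hk.2 X.z_mem
    have hs1 : s ≠ 1 := fun h => X.tab.z_ne (conj_eq_one_iff.1 h)
    have ht1 : t ≠ 1 := fun h => hs1 (conj_eq_one_iff.1 h)
    have hw1 : w ≠ 1 := fun h => X.tab.z_ne (conj_eq_one_iff.1 h)
    have hsz : s ≠ f zc := fun h => X.tab.z_ne (hfree _ X.z_mem (mul_inv_eq_iff_eq_mul.1 h))
    have hwz : w ≠ f zc := fun h => hk0 (mul_inv_eq_iff_eq_mul.1 h)
    have hts : t ≠ s := fun h => hs1 (hfree _ hsV (mul_inv_eq_iff_eq_mul.1 h))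
    have htz : t ≠ f zc := by
      intro h
      -- otherwise the third involution of `V` is fixed
      have hzs : n * (f zc * s) * n⁻¹ = s * f zc := by
        rw [show n * (f zc * s) * n⁻¹ = n * f zc * n⁻¹ * t by rw [ht]; group, h, ← hs]
      rw [X.E_comm (X.V_le_E hsV) (X.V_le_E X.z_mem)] at hzs
      have h3 := hfree _ (mul_mem X.z_mem hsV) (mul_inv_eq_iff_eq_mul.1 hzs)
      exact hsz ((eq_inv_of_mul_eq_one_right h3).trans (inv_eq_of_sq X.tab.z_sq))
    obtain ⟨i, hi⟩ : ∃ i : ℕ, n ^ i * f zc * (n ^ i)⁻¹ = w := by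
      rcases hz3 w s t w hwV hsV htV hw1 hs1 ht1 hwz hsz htz rfl with h | h | h
      · exact ⟨1, by rw [pow_one, h]⟩
      · exact ⟨2, by rw [pow_two, h, ht, hs]; group⟩
      · exact absurd h.symm hts
    set k' := (n ^ i)⁻¹ * k
    have hNi : NB X b (n ^ i) := ⟨(show Commute n b from hn.1).pow_left i, pow_mem hn.2 i⟩
    have hk' : NB X b k' := ⟨((show Commute (n ^ i) b from hNi.1).inv_left).mul_left (show Commute k b from hk.1),
      mul_mem (inv_mem hNi.2) hk.2⟩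
    have hk'z : k' * f zc = f zc * k' := by
      refine mul_inv_eq_iff_eq_mul.1 ?_
      rw [show k' * f zc * k'⁻¹ = (n ^ i)⁻¹ * (k * f zc * k⁻¹) * n ^ i by simp only [k']; group, ← hw, ← hi]
      group
    have h1 := H.trivial_of_fix hb hbV hk' X.z_mem X.tab.z_ne hk'z p hpE
    have h2 : Commute k p := by
      rw [show k = n ^ i * k' by simp only [k']; group]
      exact ((show Commute n p from hpn').pow_left i).mul_left h1
    exact h2.eq
  set F := X.subE ⊓ centralizer ({n} : Set G)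
  have hFV : F ⊓ X.subV = ⊥ := (eq_bot_iff_forall _).2 fun v hv =>
    hfree v hv.2 (mem_centralizer_singleton_iff.1 hv.1.2).symm
  have hn' : F ≤ normalizer (X.subV : Set G) := fun g hg => centralizer_le_normalizer _
    (mem_centralizer_iff.2 fun y hy => X.E_comm (X.V_le_E hy) hg.1)
  have htop : F ⊔ X.subV = X.subE := by
    refine le_antisymm (sup_le inf_le_left X.V_le_E) fun x hx => ?_
    let δ : X.subV → X.subV := fun v => ⟨n * v * n⁻¹ * (v : G)⁻¹, mul_mem (H.norm_V hn.2 v.2) (inv_mem v.2)⟩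
    have hinj : Function.Injective δ := by
      rintro ⟨a, ha⟩ ⟨c, hc⟩ e
      have e' : n * a * n⁻¹ * a⁻¹ = n * c * n⁻¹ * c⁻¹ := congrArg Subtype.val e
      have h1 : n * (c⁻¹ * a) * n⁻¹ = c⁻¹ * a := by
        calc n * (c⁻¹ * a) * n⁻¹ = (n * c * n⁻¹)⁻¹ * (n * a * n⁻¹ * a⁻¹) * a := by group
          _ = (n * c * n⁻¹)⁻¹ * (n * c * n⁻¹ * c⁻¹) * a := by rw [e']
          _ = c⁻¹ * a := by group
      exact Subtype.ext (inv_mul_eq_one.1 (hfree _ (mul_mem (inv_mem hc) ha) (mul_inv_eq_iff_eq_mul.1 h1))).symm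
    obtain ⟨⟨v, hv⟩, e⟩ := Finite.surjective_of_injective hinj ⟨_, H.coset hb hbV hn hx⟩
    have e' : n * v * n⁻¹ * v⁻¹ = n * x * n⁻¹ * x⁻¹ := congrArg Subtype.val e
    have hvE := X.V_le_E hv
    rw [show x = x * v⁻¹ * v by group]
    have hxv : x * v⁻¹ ∈ X.subE := mul_mem hx (inv_mem hvE)
    refine mul_mem (mem_sup_left ⟨hxv, mem_centralizer_singleton_iff.2
      (mul_inv_eq_iff_eq_mul.1 ?_).symm⟩) (mem_sup_right hv)
    calc n * (x * v⁻¹) * n⁻¹ = (n * x * n⁻¹ * x⁻¹) * x * (n * v * n⁻¹)⁻¹ := by group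
      _ = (n * v * n⁻¹ * v⁻¹) * x * (n * v * n⁻¹)⁻¹ := by rw [e']
      _ = x * v⁻¹ := by
        have hd : n * v * n⁻¹ * v⁻¹ ∈ X.subE := X.V_le_E (mul_mem (H.norm_V hn.2 hv) (inv_mem hv))
        rw [X.E_comm hd hx, X.E_comm (X.V_le_E (H.norm_V hn.2 hv)) (inv_mem hvE)]
        group
  refine ⟨hFeq, ?_, fun e he heV => ?_⟩
  · rw [hFeq]
    have h := Solvable.card_sup_of_disjoint hn' hFV
    rw [htop, X.E_card, X.tab.card_subZA] at h
    omega
  · rw [hFeq] at he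
    exact ((eq_bot_iff_forall _).1 hFV) e ⟨he, heV⟩

variable (X)

/-- The family. -/
def fam (X : Ctx S f) : Set (Subgroup G) :=
  {P | P ≤ X.subE ∧ Nat.card P = 4 ∧ ∀ e ∈ P, e ≠ 1 → e ∉ X.subV ∧ ¬ IsConj (f zc) e ∧ fixer X e = P}

theorem exists_family [IsSimpleGroup G] : Family X.subE (fam X) := by
  refine ⟨X.E_sq, X.E_card, fun P hP => hP.1, fun P hP => hP.2.1, fun P hP e he he1 c hc p hp => ?_,
    fun b hb hb1 => ?_, fun t ht P hP => ?_⟩
  · obtain ⟨-, hez, hfix⟩ := hP.2.2 e he he1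
    have heE := hP.1 he
    refine comm_mem_Oc X.E_sq (X.E_le_cent heE) (X.sylow_max heE he1 hez) (hP.1 hp) (fun n hne hnE => ?_) c hc
    exact (X.mem_fixer.1 (hfix.ge hp)).2 n ⟨hne, hnE⟩
  · by_cases hz : IsConj (f zc) b
    · exact Or.inl (X.tame_conj hb hz)
    have hbV : b ∉ X.subV := fun h => hz (X.V_zconj h hb1)
    have H : TwoClass X := by
      refine ⟨fun a ha haV hza => hz ?_⟩
      obtain ⟨ca, hca, -, rfl⟩ := X.E_mem_out ha haV
      obtain ⟨cb, hcb, -, rfl⟩ := X.E_mem_out hb hbV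
      exact hza.trans (X.out_conj hca hcb)
    by_cases hne : ∃ n, NB X b n ∧ ∃ x ∈ X.subE, n * x ≠ x * n
    · obtain ⟨n, hn, hne⟩ := hne
      obtain ⟨hF, h4, hFV⟩ := H.fixed_four hb hbV hn hne
      refine Or.inr ⟨fixer X b, ⟨fun p hp => (X.mem_fixer.1 hp).1, h4, fun e he he1 => ?_⟩,
        X.mem_fixer.2 ⟨hb, fun k hk => hk.1⟩⟩
      have heE := (X.mem_fixer.1 he).1
      have heV : e ∉ X.subV := fun h => he1 (hFV e he h)
      refine ⟨heV, H.out e heE heV, ?_⟩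
      have hne' : NB X e n := ⟨(X.mem_fixer.1 he).2 n hn, hn.2⟩
      rw [(H.fixed_four heE heV hne' hne).1, hF]
    · push Not at hne
      left
      refine tame_of_central X.E_sq (X.E_le_cent hb) (X.sylow_max hb hb1 hz) fun p hp c hc => ?_
      exact comm_mem_Oc X.E_sq (X.E_le_cent hb) (X.sylow_max hb hb1 hz) hp
        (fun n h1 h2 => hne n ⟨h1, h2⟩ p hp) c hc
  · have htE : t ∈ normalizer (X.subE : Set G) := mem_normalizer_of_cj ht
    refine ⟨(map_mono hP.1).trans ht.le, by rw [card_cj]; exact hP.2.1, ?_⟩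
    rintro _ ⟨e, he, rfl⟩ he1
    show t * e * t⁻¹ ∉ X.subV ∧ ¬ IsConj (f zc) (t * e * t⁻¹) ∧ fixer X (t * e * t⁻¹) = cj t P
    have he1' : e ≠ 1 := fun h => he1 (by simp [h])
    obtain ⟨-, hez, hfix⟩ := hP.2.2 e he he1'
    have hez' : ¬ IsConj (f zc) (t * e * t⁻¹) := fun h => hez (h.trans (isConj_iff.2 ⟨t⁻¹, by group⟩))
    refine ⟨fun h => hez' (X.V_zconj h (fun h' => he1' (conj_eq_one_iff.1 h'))), hez', ?_⟩
    have key : ∀ (t e : G), t ∈ normalizer (X.subE : Set G) → cj t (fixer X e) ≤ fixer X (t * e * t⁻¹) := by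
      rintro t e ht _ ⟨p, hp, rfl⟩
      obtain ⟨hpE, hpn⟩ := X.mem_fixer.1 hp
      refine X.mem_fixer.2 ⟨conj_mem_of_normalizer ht hpE, fun k hk => ?_⟩
      show k * (t * p * t⁻¹) = t * p * t⁻¹ * k
      have hk' : NB X e (t⁻¹ * k * t) := by
        refine ⟨?_, mul_mem (mul_mem (inv_mem ht) hk.2) ht⟩
        calc t⁻¹ * k * t * e = t⁻¹ * (k * (t * e * t⁻¹)) * t := by group
          _ = t⁻¹ * ((t * e * t⁻¹) * k) * t := by rw [hk.1]
          _ = e * (t⁻¹ * k * t) := by group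
      calc k * (t * p * t⁻¹) = t * ((t⁻¹ * k * t) * p) * t⁻¹ := by group
        _ = t * (p * (t⁻¹ * k * t)) * t⁻¹ := by rw [hpn _ hk']
        _ = _ := by group
    refine le_antisymm ?_ (hfix ▸ key t e htE)
    have h := key t⁻¹ (t * e * t⁻¹) (inv_mem htE)
    rw [show t⁻¹ * (t * e * t⁻¹) * t⁻¹⁻¹ = e by group, hfix] at h
    have h' := map_mono (f := (MulAut.conj t).toMonoidHom) h
    change cj t (cj t⁻¹ _) ≤ cj t P at h'
    rwa [cj_cj, mul_inv_cancel, cj_one] at h'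

end Ctx

end CfsgLib.JankoType
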