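import Cfsg.Agent.JankoSylow.Split

/-!
Facts on the codes of a Sylow 2-subgroup of the type of that of the Hall–Janko group.
-/

set_option autoImplicit false
set_option maxRecDepth 100000

namespace CfsgLib.JankoType

open CfsgLib.JankoSylow

theorem ia_ab : ∀ c : Fin 128, IA c → ∃ a b, Com a 32 ∧ Com b 35 ∧ mm a b = c := by decide +kernel

theorem iaq_sq : ∀ c : Fin 128, IQ c → IA c → ∃ a b, mm (JankoSylow.sq a) (JankoSylow.sq b) = c := by decide +kernel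

theorem out_rep : ∀ a : Fin 128, IA a → ¬ IQ a → JankoSylow.sq a = 0 →
    ∃ t, mm (mm t a) (inv t) = kc ⟨a.val / 32, by omega⟩ := by decide +kernel

theorem out_rep_iq : ∀ a : Fin 128, IQ a ↔ a.val / 32 = 0 := by decide +kernel

theorem iq_word : ∀ c : Fin 128, IQ c → c = mm (mm (mm (mm (cp zc (c.val.testBit 4)) (cp (bc 0) (c.val.testBit 0)))
    (cp (bc 1) (c.val.testBit 1))) (cp (bc 2) (c.val.testBit 2))) (cp (bc 3) (c.val.testBit 3)) := by
  decide +kernel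

theorem uc_prod : Eqz uc (mm (mm (mm (bc 0) (bc 1)) (bc 2)) (bc 3)) := by decide +kernel

theorem bc_pairs : ∀ j : Fin 5, j ≠ 4 → IA (mm 1 (bc j)) := by decide +kernel

theorem iq_elem : ∀ a b : Fin 128, IQ a → IQ b → JankoSylow.sq a = 0 → JankoSylow.sq b = 0 → Com a b → a ≠ 0 → a ≠ zc →
    b ≠ 0 → b ≠ zc → Eqz a b := by decide +kernel

theorem kc_com : ∀ v : Fin 4, Com (kc v) 32 ∧ IA (kc v) ∧ JankoSylow.sq (kc v) = 0 := by decide +kernel

theorem kc_iq : ∀ v : Fin 4, (IQ (kc v) ↔ v = 0) := by decide +kernel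

theorem ia_split : ∀ v : Fin 4, ∀ q : Fin 128, IQ q → (IA (mm (kc v) q) ↔ IA q) := by decide +kernel

theorem hi_split : ∀ a : Fin 128, IQ (mm (kc ⟨a.val / 32, by omega⟩) a) ∧
    mm (kc ⟨a.val / 32, by omega⟩) (mm (kc ⟨a.val / 32, by omega⟩) a) = a := by decide +kernel

theorem com32_split : ∀ e : Fin 128, Com e 32 → ∃ w, IZA w ∧ mm (kc ⟨e.val / 32, by omega⟩) w = e := by
  decide +kernel

theorem com32_iza : ∀ e : Fin 128, IZA e → Com e 32 ∧ Com e 35 := by decide +kernel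

theorem com32_iq : ∀ e : Fin 128, Com e 32 → IQ e → IZA e := by decide +kernel

theorem com32_sq : ∀ e : Fin 128, Com e 32 → JankoSylow.sq e = 0 ∧ IA e := by decide +kernel

theorem kperm_facts : (∀ i : Fin 4, kperm i ⟨i.val, by omega⟩ = 0) ∧ kperm 1 0 = 1 ∧
    (∀ v : Fin 4, ∀ k : Fin 5, kperm v k = 4 → k = 4) := by decide +kernel

theorem flip_u : mm (mm 1 uc) (inv 1) = mm uc zc ∧ mm (mm 1 zc) (inv 1) = zc := by decide +kernel

theorem z_codes : IZA zc ∧ IZA uc ∧ IZA (mm uc zc) ∧ mm uc zc ≠ 0 ∧ mm uc zc ≠ uc ∧ mm uc zc ≠ zc ∧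
    uc ≠ zc ∧ JankoSylow.sq (mm uc zc) = 0 ∧ JankoSylow.sq uc = 0 ∧ JankoSylow.sq zc = 0 := by decide +kernel

/-- The permutations attached to the four group, as permutations. -/
theorem fpf : ∀ σ : Equiv.Perm (Fin 5), σ ^ 15 = 1 →
    (∀ v : Fin 4, v ≠ 0 → kp v * σ * kp v = σ → σ = 1) ∧
    ((∀ v : Fin 4, v ≠ 0 → kp v * σ * kp v = σ⁻¹) → σ = 1) := by decide +kernel

theorem perm_three : ∀ v w : Fin 4, v ≠ 0 → w ≠ 0 → ∃ σ : Equiv.Perm (Fin 5),
    Equiv.Perm.sign σ = 1 ∧ σ 4 = 4 ∧ σ * kp v * σ⁻¹ = kp w := by decide +kernel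

end CfsgLib.JankoType
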