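import Cfsg.Agent.JankoType.Bot
import Cfsg.Agent.JankoSylow.Fusion

/-!
The subgroup generated by the cores of the three centralizers and its normalizer.
-/

set_option autoImplicit false
set_option linter.unusedSectionVars false
set_option linter.style.haveILetI false

namespace CfsgLib.JankoType

open Subgroup CfsgLib.SylL34 CfsgLib.JankoSylow
open scoped commutatorElement

/-- Generation by the fixed points of the involutions of a four group. -/
theorem four_gen {G : Type*} [Group G] [Finite G] {B K J : Subgroup G} (hsq : ∀ b ∈ B, b * b = 1)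
    (h4 : Nat.card B = 4) (hBK : B ≤ normalizer (K : Set G)) (hK : Odd (Nat.card K))
    (h : ∀ b ∈ B, b ≠ 1 → K ⊓ centralizer ({b} : Set G) ≤ J) : K ≤ J := by
  haveI : Fact (Nat.Prime 2) := ⟨Nat.prime_two⟩
  have hel : Cfsg.IsElementaryAbelian 2 B :=
    ⟨⟨⟨fun a b => Subtype.ext (comm_of_sq hsq a.2 b.2)⟩⟩, fun a ha => by rw [pow_two]; exact hsq a ha⟩
  refine Signalizer.le_of_forall_hyperplane hel hBK hK.not_two_dvd_nat fun B' hB' hi => ?_
  obtain ⟨b, hb, hb1⟩ : ∃ b ∈ B', b ≠ 1 := by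
    by_contra! hcon
    rw [show B' = ⊥ from (eq_bot_iff_forall _).2 hcon, relIndex_bot_left, h4] at hi
    omega
  exact (inf_le_inf_left _ (centralizer_le (by simpa using hb))).trans (h b (hB' hb) hb1)

theorem core_codes : (∀ c : Fin 128, mm (mm c uc) (inv c) = uc ∨ mm (mm c uc) (inv c) = mm uc zc) ∧
    (∀ c : Fin 128, IQ c → JankoSylow.sq c = 0 ∨ JankoSylow.sq c = zc) ∧
    (∀ c : Fin 128, Com c 1 → Com c (mm 1 zc)) ∧ Sing (mm 1 zc) ∧ Sing (1 : Fin 128) ∧
    (∀ c : Fin 128, Sing c → Sing (mm zc c)) ∧ mm (kc 1) (kc 2) = kc 3 := by decide +kernel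

theorem root_three : ∃ a b : Fin 128, Com a 1 ∧ Com b 1 ∧ JankoSylow.sq a = zc ∧ JankoSylow.sq b = zc ∧
    JankoSylow.sq (mm a b) = zc :=
  ⟨mm 2 4, mm 4 8, by decide +kernel⟩

theorem hi_four : ∀ a b : Fin 128, ¬ IQ a → ¬ IQ b → ¬ IQ (mm a b) → ∀ v : Fin 4,
    v = 0 ∨ v.val = a.val / 32 ∨ v.val = b.val / 32 ∨ v.val = (mm a b).val / 32 := by decide +kernel

theorem hi_mem : ∀ c : Fin 128, ∀ v : Fin 4, v.val = c.val / 32 →
    IQ (mm (kc v) c) ∧ mm (kc v) (mm (kc v) c) = c := by decide +kernel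

variable {G : Type*} [Group G] [Finite G] {S : Sylow 2 G} {f : Fin 128 → G} (X : Ctx S f)

/-- The subgroup generated by the cores of the three centralizers. -/
def omega (f : Fin 128 → G) : Subgroup G := Oc (f zc) ⊔ Oc (f uc) ⊔ Oc (f (mm uc zc))

/-- Its normalizer. -/
abbrev loc (f : Fin 128 → G) : Subgroup G := normalizer (omega f : Set G)

namespace Ctx

include X

theorem Oc_le_omega {v : G} (hv : v ∈ X.subV) (hv1 : v ≠ 1) : Oc v ≤ omega f := by
  rcases X.V_cases hv with rfl | rfl | rfl | rfl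
  · exact absurd rfl hv1
  · exact le_sup_left.trans le_sup_left
  · exact le_sup_right.trans le_sup_left
  · exact le_sup_right

theorem V_ne : f uc ≠ 1 ∧ f (mm uc zc) ≠ 1 :=
  ⟨fun h => absurd ((X.tab.eq_one_iff _).1 h) (by decide), fun h => z_codes.2.2.2.1 ((X.tab.eq_one_iff _).1 h)⟩

theorem norm_V_loc {n : G} (hn : cj n X.subV = X.subV) : n ∈ loc f := by
  refine mem_normalizer_of_cj (eq_of_le_of_card_ge ?_ (card_cj n _).ge)
  have key : ∀ v ∈ X.subV, v ≠ 1 → cj n (Oc v) ≤ omega f := fun v hv hv1 => by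
    rw [cj_Oc]
    exact X.Oc_le_omega (hn.le (conj_mem_cj.2 hv)) fun h => hv1 (conj_eq_one_iff.1 h)
  rw [omega, cj, Subgroup.map_sup, Subgroup.map_sup]
  exact sup_le (sup_le (key _ X.z_mem X.tab.z_ne) (key _ X.u_mem X.V_ne.1)) (key _ X.uz_mem X.V_ne.2)

theorem S_le_loc : (S : Subgroup G) ≤ loc f := fun s hs => by
  obtain ⟨c, rfl⟩ := X.tab.surj s hs
  refine X.norm_V_loc (cj_eq_of_conj_mem fun x hx => ?_)
  rcases X.V_cases hx with rfl | rfl | rfl | rfl
  · simp
  · rw [X.zcentral, mul_inv_cancel_right]; exact X.z_mem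
  · rw [X.tab.map_conj]
    rcases core_codes.1 c with h | h <;> rw [h]
    exacts [X.u_mem, X.uz_mem]
  · rw [X.tab.mul, show f c * (f uc * f zc) * (f c)⁻¹ = f c * f uc * (f c)⁻¹ * (f c * f zc * (f c)⁻¹) by group,
      X.tab.map_conj c uc, X.zcentral, mul_inv_cancel_right]
    rcases core_codes.1 c with h | h <;> rw [h]
    exacts [mul_mem X.u_mem X.z_mem, mul_mem X.uz_mem X.z_mem]

theorem Oc_le_loc {v : G} (hv : v ∈ X.subV) (hv1 : v ≠ 1) : Oc v ≤ loc f :=
  (X.Oc_le_omega hv hv1).trans le_normalizer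

/-- An odd subgroup of the centralizer of the first involution normalised by the centralizer of that
involution in the Sylow subgroup lies in the core. -/
theorem cent_core [IsSimpleGroup G] {d : Fin 128} (hd : d = 1 ∨ d = mm 1 zc) {K : Subgroup G}
    (hK : K ≤ centralizer ({f d} : Set G)) (hodd : Odd (Nat.card K))
    (hn : ∀ c, Com c 1 → f c ∈ normalizer (K : Set G)) : K ≤ Oc (f d) := by
  obtain ⟨η, E⟩ := X.exists_eta
  have hdS : Sing d := by rcases hd with rfl | rfl <;> [exact core_codes.2.2.2.2.1; exact core_codes.2.2.2.1]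
  have hcd : ∀ c, Com c 1 → Com c d := fun c hc => by
    rcases hd with rfl | rfl
    · exact hc
    · exact core_codes.2.2.1 c hc
  obtain ⟨m, -, hm⟩ := X.sing_conj hdS
  obtain ⟨h, hh⟩ := isConj_iff.1 (X.u_conj.trans (isConj_iff.2 ⟨m, hm⟩)).symm
  set P := Fus.subC X.tab
  have hPC : cj h P ≤ centralizer ({f zc} : Set G) := by
    rw [← hh, ← cj_centralizer]
    refine map_mono ?_
    rintro _ ⟨c, hc, rfl⟩
    exact mem_centralizer_singleton_iff.2 ((X.tab.comm_iff _ _).2 (hcd c hc))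
  obtain ⟨k, hk, hkS⟩ := Fus.move_into S X.S_le_cent ((Fus.isPGroup_sub X.tab).map _) hPC
  set n := k * h
  have hkS : cj n P ≤ (S : Subgroup G) := cj_cj k h P ▸ hkS
  have hnd : n * f d * n⁻¹ = f zc := by
    rw [show n * f d * n⁻¹ = k * (h * f d * h⁻¹) * k⁻¹ by simp only [n]; group, hh,
      mem_centralizer_singleton_iff.1 hk, mul_inv_cancel_right]
  have himg : ∀ c, Com c 1 → ∃ c', f c' = n * f c * n⁻¹ := fun c hc =>
    X.tab.surj _ (hkS (conj_mem_cj.2 ⟨c, hc, rfl⟩))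
  have hout : ∀ c c', f c' = n * f c * n⁻¹ → JankoSylow.sq c = zc → ¬ IQ c' := by
    intro c c' e hs hQ
    have e2 : f (JankoSylow.sq c') = n * f zc * n⁻¹ := by
      rw [← X.tab.map_sq, e, ← hs, ← X.tab.map_sq]; group
    rcases core_codes.2.1 c' hQ with h | h <;> rw [h] at e2
    · rw [X.tab.map_zero] at e2
      exact X.tab.z_ne (conj_eq_one_iff.1 e2.symm)
    · refine hdS.2.2.2 (X.tab.inj ((MulAut.conj n).injective ?_))
      show n * f d * n⁻¹ = n * f zc * n⁻¹
      rw [hnd, ← e2]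
  obtain ⟨a, b, ha, hb, hsa, hsb, hsab⟩ := root_three
  obtain ⟨a', ea⟩ := himg a ha
  obtain ⟨b', eb⟩ := himg b hb
  have eab : f (mm a' b') = n * f (mm a b) * n⁻¹ := by rw [X.tab.mul, ea, eb, X.tab.mul]; group
  have hn' : ∀ c c', Com c 1 → f c' = n * f c * n⁻¹ → f c' ∈ normalizer (cj n K : Set G) := fun c c' hc e => by
    rw [e]
    exact le_normalizer_map _ (mem_map_of_mem _ (hn c hc))
  have hle : cj n K ≤ Oc (f zc) := by
    refine X.odd_le E ((map_mono hK).trans (le_of_eq ?_)) (by rw [card_cj]; exact hodd) fun v => ?_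
    · show cj n (centralizer ({f d} : Set G)) = _
      rw [cj_centralizer, hnd]
    obtain ⟨c, hcv, hcn⟩ : ∃ c : Fin 128, v.val = c.val / 32 ∧ f c ∈ normalizer (cj n K : Set G) := by
      rcases hi_four a' b' (hout a a' ea hsa) (hout b b' eb hsb) (hout _ _ eab hsab) v with h | h | h | h
      · exact ⟨0, by rw [h]; rfl, by rw [X.tab.map_zero]; exact one_mem _⟩
      · exact ⟨a', h, hn' a a' ha ea⟩
      · exact ⟨b', h, hn' b b' hb eb⟩
      · exact ⟨mm a' b', h, hn' _ _ (Fus.com_mm a b ha hb) eab⟩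
    obtain ⟨hq, e⟩ := hi_mem c v hcv
    refine ⟨⟨f c, X.mem_C c⟩, ?_, hcn⟩
    have h1 : η ⟨f (mm (kc v) c), X.mem_C _⟩ = 1 := (E.ker _).2 ⟨1, one_mem _, _, hq, by simp⟩
    rw [show (⟨f c, X.mem_C c⟩ : ↥(centralizer ({f zc} : Set G))) = ⟨f (kc v), X.mem_C _⟩ * ⟨f (mm (kc v) c), X.mem_C _⟩ from
      Subtype.ext (by
        show f c = f (kc v) * f (mm (kc v) c)
        rw [← X.tab.mul, e]), map_mul, E.four, h1, mul_one]
  intro x hx
  have h1 := conj_mem_Oc (g := n⁻¹) (hle (conj_mem_cj.2 hx))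
  rwa [show n⁻¹ * f zc * n⁻¹⁻¹ = f d by rw [← hnd]; group,
    show n⁻¹ * (n * x * n⁻¹) * n⁻¹⁻¹ = x by group] at h1

/-- If the generated subgroup is odd, the mover normalises it. -/
theorem mover_mem [IsSimpleGroup G] (hodd : Odd (Nat.card (omega f))) {g : G} (hg : IsMover f g) :
    g ∈ loc f := by
  obtain ⟨η, E⟩ := X.exists_eta
  have hS := X.S_le_loc
  set K := omega f
  let B : Subgroup G := X.tab.sub (fun c => c = 0 ∨ c = zc ∨ c = 1 ∨ c = mm 1 zc) (Or.inl rfl) (by decide +kernel)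
  have hB4 : Nat.card B = 4 := by rw [X.tab.card_sub]; decide +kernel
  have hBsq : ∀ b ∈ B, b * b = 1 := by
    rintro _ ⟨c, hc, rfl⟩
    rcases hc with rfl | rfl | rfl | rfl <;> exact (X.tab.sq_eq_one_iff _).2 (by decide +kernel)
  have hle : K ≤ K.comap (MulAut.conj g).toMonoidHom := by
    refine four_gen hBsq hB4 (X.tab.sub_le.trans hS) hodd ?_
    rintro _ ⟨c, hc, rfl⟩ hb1
    have hgen : ∀ v ∈ X.subV, v ≠ 1 → g * f c * g⁻¹ = v → K ⊓ centralizer ({f c} : Set G) ≤ Oc (f c) →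
        K ⊓ centralizer ({f c} : Set G) ≤ K.comap (MulAut.conj g).toMonoidHom := by
      intro v hv hv1 e h x hx
      exact X.Oc_le_omega hv hv1 (e ▸ conj_mem_Oc (h hx))
    have hd : ∀ c, (c = 1 ∨ c = mm 1 zc) → K ⊓ centralizer ({f c} : Set G) ≤ Oc (f c) := by
      intro c hc
      refine X.cent_core hc inf_le_right (Odd.of_dvd_nat hodd (card_dvd_of_le inf_le_left)) fun e he => ?_
      refine inf_normalizer_le_normalizer_inf (mem_inf.2 ⟨hS (X.tab.mem e), le_normalizer ?_⟩)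
      rw [mem_centralizer_singleton_iff]
      rcases hc with rfl | rfl
      · exact (X.tab.comm_iff _ _).2 he
      · exact (X.tab.comm_iff _ _).2 (core_codes.2.2.1 e he)
    rcases hc with rfl | rfl | rfl | rfl
    · exact absurd X.tab.map_zero hb1
    · refine hgen _ X.z_mem X.tab.z_ne (by rw [hg.1, mul_inv_cancel_right]) ?_
      refine X.odd_le E inf_le_right (Odd.of_dvd_nat hodd (card_dvd_of_le inf_le_left)) fun v =>
        ⟨⟨f (kc v), X.mem_C _⟩, E.four v _, inf_normalizer_le_normalizer_inf (mem_inf.2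
          ⟨hS (X.tab.mem _), le_normalizer (X.mem_C _)⟩)⟩
    · rcases hg.2.2 with h | h
      · exact hgen _ X.u_mem X.V_ne.1 h (hd 1 (Or.inl rfl))
      · exact hgen _ X.uz_mem X.V_ne.2 h (hd 1 (Or.inl rfl))
    · have hz : g * f zc * g⁻¹ = f zc := by rw [hg.1, mul_inv_cancel_right]
      have e : g * f (mm 1 zc) * g⁻¹ = g * f 1 * g⁻¹ * (g * f zc * g⁻¹) := by rw [X.tab.mul]; group
      rcases hg.2.2 with h | h <;> rw [h, hz, ← X.tab.mul] at e
      · exact hgen _ X.uz_mem X.V_ne.2 e (hd _ (Or.inr rfl))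
      · rw [show mm (mm uc zc) zc = uc by decide] at e
        exact hgen _ X.u_mem X.V_ne.1 e (hd _ (Or.inr rfl))
  refine mem_normalizer_of_cj (eq_of_le_of_card_ge ?_ (card_cj g _).ge)
  rintro _ ⟨x, hx, rfl⟩
  exact hle hx

/-- The subgroup generated by the three cores is proper. -/
theorem omega_ne_top [IsSimpleGroup G] : omega f ≠ (⊤ : Subgroup G) := by
  have F := X.exists_family
  obtain ⟨W, hWodd, hle, -, -, hOc⟩ := F.exists_closure
  by_cases hW : W = ⊥
  · exact X.cores_ne_top fun a ha ha1 => le_bot_iff.1 (hW ▸ hle a ha ha1)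
  intro htop
  have hN : normalizer (W : Set G) = ⊤ := by
    rw [eq_top_iff, ← htop, omega]
    exact sup_le (sup_le (hOc _ (X.V_le_E X.z_mem) X.tab.z_ne) (hOc _ (X.V_le_E X.u_mem) X.V_ne.1))
      (hOc _ (X.V_le_E X.uz_mem) X.V_ne.2)
  rcases IsSimpleGroup.eq_bot_or_eq_top_of_normal W (normalizer_eq_top_iff.1 hN) with h | h
  · exact hW h
  · refine X.tab.z_ne (eq_one_of_sq_odd X.tab.z_sq (Odd.of_dvd_nat hWodd ?_))
    rw [h, Subgroup.card_top]
    exact orderOf_dvd_natCard _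

theorem omega_ne_bot (hO : Oc (f zc) ≠ ⊥) : omega f ≠ (⊥ : Subgroup G) := fun h =>
  hO (le_bot_iff.1 (h ▸ X.Oc_le_omega X.z_mem X.tab.z_ne))

theorem loc_ne_top [IsSimpleGroup G] (hO : Oc (f zc) ≠ ⊥) : loc f ≠ (⊤ : Subgroup G) := fun h => by
  rcases IsSimpleGroup.eq_bot_or_eq_top_of_normal (omega f) (normalizer_eq_top_iff.1 h) with h1 | h1
  · exact X.omega_ne_bot hO h1
  · exact X.omega_ne_top h1

theorem omega_le_core (hodd : Odd (Nat.card (omega f))) :
    omega f ≤ (Cfsg.oddCore (loc f)).map (loc f).subtype := by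
  intro x hx
  have h := le_ocore (G := loc f) (N := (omega f).subgroupOf (loc f)) inferInstance
    (by rw [Nat.card_congr (subgroupOfEquivOfLe (le_normalizer : omega f ≤ loc f)).toEquiv]; exact hodd)
  exact ⟨⟨x, le_normalizer hx⟩, h (by simpa [mem_subgroupOf] using hx), rfl⟩

end Ctx

end CfsgLib.JankoType
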