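import Cfsg.Agent.Kinf.LocalBalance
import Cfsg.Agent.Coprime.FourGroupFixed
import Cfsg.Agent.SylL34.Tools
import Cfsg.Agent.S0217
import Cfsg.Agent.S0205

/-!
A signalizer functor on an elementary abelian group `A` of order 16 attached to a family of four-subgroups
`P`, each of which is central in `C(e) / O(C(e))` for its involutions `e`.
-/

set_option autoImplicit false
set_option linter.unusedSectionVars false
set_option linter.style.haveILetI false

namespace CfsgLib.JankoType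

open Subgroup CfsgLib.SylL34
open scoped commutatorElement

variable {G : Type*} [Group G] [Finite G]

/-- The odd core of the centralizer of a subgroup. -/
def cor (P : Subgroup G) : Subgroup G := LocalBalance.core 2 (centralizer (P : Set G))

/-- Every odd subgroup of `C(b)` normalised by `A` lies in the core. -/
def Tame (A : Subgroup G) (b : G) : Prop :=
  ∀ K : Subgroup G, K ≤ centralizer ({b} : Set G) → Odd (Nat.card K) → A ≤ normalizer (K : Set G) → K ≤ Oc b

/-- A family of four-subgroups, central modulo the cores, covering the involutions which are not tame. -/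
structure Family (A : Subgroup G) (F : Set (Subgroup G)) : Prop where
  sq : ∀ a ∈ A, a * a = 1
  card : Nat.card A = 16
  le : ∀ P ∈ F, P ≤ A
  four : ∀ P ∈ F, Nat.card P = 4
  triv : ∀ P ∈ F, ∀ e ∈ P, e ≠ 1 → ∀ c ∈ centralizer ({e} : Set G), ∀ p ∈ P, ⁅c, p⁆ ∈ Oc e
  cover : ∀ b ∈ A, b ≠ 1 → Tame A b ∨ ∃ P ∈ F, b ∈ P
  equiv : ∀ t : G, cj t A = A → ∀ P ∈ F, cj t P ∈ F

/-- The factor attached to `P`. -/
def factor (P : Subgroup G) (a : G) : Subgroup G := ⁅Oc a, P⁆ ⊔ (Oc a ⊓ cor P)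

/-- The functor. -/
def theta (F : Set (Subgroup G)) (a : G) : Subgroup G := Oc a ⊓ ⨅ P : F, factor (P : Subgroup G) a

theorem mem_theta {F : Set (Subgroup G)} {a x : G} :
    x ∈ theta F a ↔ x ∈ Oc a ∧ ∀ P ∈ F, x ∈ factor P a := by
  simp [theta, mem_iInf]

theorem cor_odd (P : Subgroup G) : Odd (Nat.card (cor P)) :=
  Nat.coprime_two_right.1 (LocalBalance.coprime_core (p := 2) _)

theorem le_cor {P N : Subgroup G} (hN : N ≤ centralizer (P : Set G))
    (hn : centralizer (P : Set G) ≤ normalizer (N : Set G)) (hodd : Odd (Nat.card N)) : N ≤ cor P :=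
  LocalBalance.le_core hN hn (Nat.coprime_two_right.2 hodd)

theorem cent_le_cent_singleton {P : Subgroup G} {e : G} (he : e ∈ P) :
    centralizer (P : Set G) ≤ centralizer ({e} : Set G) := fun _ hx =>
  mem_centralizer_singleton_iff.2 (mem_centralizer_iff.1 hx e he).symm

/-- The core of `C(e)` meets `C(P)` in its core, for `e ∈ P`. -/
theorem Oc_inf_cent_le {P : Subgroup G} {e : G} (he : e ∈ P) :
    Oc e ⊓ centralizer (P : Set G) ≤ cor P :=
  le_cor inf_le_right (fun _ hg => inf_normalizer_le_normalizer_inf (mem_inf.2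
    ⟨cent_le_normalizer_Oc e (cent_le_cent_singleton he hg), le_normalizer hg⟩))
    (Odd.of_dvd_nat (Oc_odd e) (card_dvd_of_le inf_le_left))

/-- The elements of a four-group. -/
theorem four_elems {P : Subgroup G} (hsq : ∀ x ∈ P, x * x = 1) (h4 : Nat.card P = 4) :
    ∃ s t : G, s ∈ P ∧ t ∈ P ∧ s ≠ 1 ∧ t ≠ 1 ∧ s * t ≠ 1 ∧ ∀ x ∈ P, x = 1 ∨ x = s ∨ x = t ∨ x = s * t := by
  classical
  obtain ⟨s, hs, hs1⟩ : ∃ s ∈ P, s ≠ 1 := by
    by_contra! h
    have : P = ⊥ := (eq_bot_iff_forall _).2 h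
    rw [this, card_bot] at h4
    omega
  obtain ⟨t, ht, ht1, hts⟩ : ∃ t ∈ P, t ≠ 1 ∧ t ≠ s := by
    by_contra! h
    have hsub : (P : Set G) ⊆ {1, s} := fun x hx => by
      by_cases h1 : x = 1
      · exact Or.inl h1
      · exact Or.inr (h x hx h1)
    have h1 := Set.ncard_le_ncard hsub (Set.toFinite _)
    have h2 : ({1, s} : Set G).ncard ≤ 2 := (Set.ncard_insert_le _ _).trans (by simp)
    rw [← Nat.card_coe_set_eq] at h1
    change Nat.card P ≤ _ at h1
    omega
  have hst : s * t ≠ 1 := fun h => hts (mul_left_cancel (h.trans (hsq s hs).symm))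
  refine ⟨s, t, hs, ht, hs1, ht1, hst, fun x hx => ?_⟩
  by_contra! h
  have h5 : ({1, s, t, s * t, x} : Finset G).card = 5 := by
    have e1 : s ≠ s * t := fun e => ht1 (left_eq_mul.1 e)
    have e2 : t ≠ s * t := fun e => hs1 (right_eq_mul.1 e)
    rw [Finset.card_insert_of_notMem, Finset.card_insert_of_notMem, Finset.card_insert_of_notMem,
      Finset.card_insert_of_notMem, Finset.card_singleton] <;>
      simp [hs1.symm, ht1.symm, hts.symm, hst.symm, e1, e2, h.1.symm, h.2.1.symm, h.2.2.1.symm, h.2.2.2.symm]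
  have h6 : (({1, s, t, s * t, x} : Finset G) : Set G) ⊆ (P : Set G) := by
    intro y hy
    simp only [Finset.coe_insert, Finset.coe_singleton, Set.mem_insert_iff, Set.mem_singleton_iff] at hy
    rcases hy with rfl | rfl | rfl | rfl | rfl
    exacts [one_mem _, hs, ht, mul_mem hs ht, hx]
  have h7 := Set.ncard_le_ncard h6 (Set.toFinite _)
  rw [Set.ncard_coe_finset, h5, ← Nat.card_coe_set_eq] at h7
  change 5 ≤ Nat.card P at h7
  omega

namespace Family

variable {A : Subgroup G} {F : Set (Subgroup G)} (h : Family A F)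
include h

theorem comm {a b : G} (ha : a ∈ A) (hb : b ∈ A) : a * b = b * a := comm_of_sq h.sq ha hb

theorem mem_cent {a b : G} (ha : a ∈ A) (hb : b ∈ A) : b ∈ centralizer ({a} : Set G) :=
  mem_centralizer_singleton_iff.2 (h.comm hb ha)

theorem le_cent {a : G} (ha : a ∈ A) : A ≤ centralizer ({a} : Set G) := fun _ hb => h.mem_cent ha hb

theorem le_norm_Oc {a : G} (ha : a ∈ A) : A ≤ normalizer (Oc a : Set G) :=
  (h.le_cent ha).trans (cent_le_normalizer_Oc a)

theorem elem : Cfsg.IsElementaryAbelian 2 A :=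
  ⟨⟨⟨fun a b => Subtype.ext (h.comm a.2 b.2)⟩⟩, fun a ha => by rw [pow_two]; exact h.sq a ha⟩

theorem coprime {R U : Subgroup G} (hR : R ≤ A) (hU : Odd (Nat.card U)) :
    (Nat.card R).Coprime (Nat.card U) := by
  haveI : Fact (Nat.Prime 2) := ⟨Nat.prime_two⟩
  exact Signalizer.coprime_card_of_le h.elem hR hU.not_two_dvd_nat

theorem solvable {R : Subgroup G} (hR : R ≤ A) : Group.IsSolvable R :=
  Group.isSolvable_of_comm fun x y => Subtype.ext (h.comm (hR x.2) (hR y.2))

theorem comm_P {P : Subgroup G} (hP : P ∈ F) : A ≤ centralizer (P : Set G) := fun _ ha =>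
  mem_centralizer_iff.2 fun _ hp => h.comm (h.le P hP hp) ha

theorem le_norm_cor {P : Subgroup G} (hP : P ∈ F) : A ≤ normalizer (cor P : Set G) :=
  (h.comm_P hP).trans (le_normalizer.trans (LocalBalance.normalizer_le_normalizer_core _))

theorem le_norm_piece {P : Subgroup G} (hP : P ∈ F) {a : G} (ha : a ∈ A) :
    A ≤ normalizer ((⁅Oc a, P⁆ : Subgroup G) : Set G) := fun g hg => by
  refine mem_normalizer_iff_map_conj_eq.2 ?_
  rw [map_commutator, mem_normalizer_iff_map_conj_eq.1 (h.le_norm_Oc ha hg),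
    mem_normalizer_iff_map_conj_eq.1 (centralizer_le_normalizer _ (h.comm_P hP hg))]

theorem le_norm_inter {P : Subgroup G} (hP : P ∈ F) {a : G} (ha : a ∈ A) :
    A ≤ normalizer ((Oc a ⊓ cor P : Subgroup G) : Set G) := fun _ hg =>
  inf_normalizer_le_normalizer_inf (mem_inf.2 ⟨h.le_norm_Oc ha hg, h.le_norm_cor hP hg⟩)

theorem le_norm_factor {P : Subgroup G} (hP : P ∈ F) {a : G} (ha : a ∈ A) :
    A ≤ normalizer (factor P a : Set G) := fun _ hg =>
  (normalizer_inf_normalizer_le_normalizer_sup _ _)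
    (mem_inf.2 ⟨h.le_norm_piece hP ha hg, h.le_norm_inter hP ha hg⟩)

theorem piece_le {P : Subgroup G} (hP : P ∈ F) {a : G} (ha : a ∈ A) : ⁅Oc a, P⁆ ≤ Oc a :=
  le_normalizer_iff_commutator_le_left.1 ((h.le P hP).trans (h.le_norm_Oc ha))

theorem factor_le {P : Subgroup G} (hP : P ∈ F) {a : G} (ha : a ∈ A) : factor P a ≤ Oc a :=
  sup_le (h.piece_le hP ha) inf_le_left

/-- `C(P)` meets `[O(C(a)), P]` in its core. -/
theorem key {P : Subgroup G} (hP : P ∈ F) {a : G} (ha : a ∈ A) :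
    ⁅Oc a, P⁆ ⊓ centralizer (P : Set G) ≤ cor P := by
  have hPA := h.le P hP
  have hsqP : ∀ x ∈ P, x * x = 1 := fun x hx => h.sq x (hPA hx)
  obtain ⟨s, t, hs, ht, hs1, ht1, hst1, hall⟩ := four_elems hsqP (h.four P hP)
  set O := Oc a
  have hPO : P ≤ normalizer (O : Set G) := hPA.trans (h.le_norm_Oc ha)
  have hXX := CoprimeAct.commutator_commutator hPO (h.coprime hPA (Oc_odd a)) (Or.inl (h.solvable hPA))
  have hfour := FourFixed.four (Odd.of_dvd_nat (Oc_odd a) (card_dvd_of_le (h.piece_le hP ha)))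
    (isPGroup_of_sq hsqP) ⟨⟨fun x y => Subtype.ext (h.comm (hPA x.2) (hPA y.2))⟩⟩
    (normalizer_commutator_ge_right _ _) hXX hs ht
    (fun y _ => by rw [hsqP s hs, one_mul, mul_one]) (fun y _ => by rw [hsqP t ht, one_mul, mul_one])
  have hCP : ∀ x : G, x * s = s * x → x * t = t * x → x ∈ centralizer (P : Set G) := by
    intro x h1 h2
    refine mem_centralizer_iff.2 fun p hp => ?_
    rcases hall p hp with rfl | rfl | rfl | rfl
    · simp
    · exact h1.symm
    · exact h2.symm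
    · rw [mul_assoc, ← h2, ← mul_assoc, ← h1, mul_assoc]
  have hpiece : ∀ e ∈ P, e ≠ 1 → ⁅⁅O, P⁆ ⊓ centralizer ({e} : Set G), P⁆ ≤ Oc e := fun e he he1 =>
    commutator_le.2 fun c hc p hp => h.triv P hP e he he1 c hc.2 p hp
  refine le_trans ?_ (hfour.trans (sup_le (sup_le ?_ ?_) ?_))
  · exact fun x hx => ⟨⟨hx.1, mem_centralizer_singleton_iff.2 (mem_centralizer_iff.1 hx.2 s hs).symm⟩,
      mem_centralizer_singleton_iff.2 (mem_centralizer_iff.1 hx.2 t ht).symm⟩
  all_goals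
    intro x hx
    have hxP : x ∈ centralizer (P : Set G) :=
      hCP x (mem_centralizer_singleton_iff.1 hx.1.1.2) (mem_centralizer_singleton_iff.1 hx.1.2)
  · exact Oc_inf_cent_le hs ⟨hpiece s hs hs1 hx.2, hxP⟩
  · exact Oc_inf_cent_le ht ⟨hpiece t ht ht1 hx.2, hxP⟩
  · exact Oc_inf_cent_le (mul_mem hs ht) ⟨hpiece _ (mul_mem hs ht) hst1 hx.2, hxP⟩

theorem factor_mul {P : Subgroup G} (hP : P ∈ F) {a : G} (ha : a ∈ A) :
    ∀ x ∈ factor P a, ∃ u ∈ ⁅Oc a, P⁆, ∃ v ∈ Oc a ⊓ cor P, x = u * v := by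
  intro x hx
  have hn : Oc a ⊓ cor P ≤ normalizer ((⁅Oc a, P⁆ : Subgroup G) : Set G) :=
    inf_le_left.trans (normalizer_commutator_ge_left _ _)
  rw [factor, sup_comm, ← SetLike.mem_coe, coe_mul_of_left_le_normalizer_right _ _ hn,
    set_mul_normalizer_comm _ _ hn, Set.mem_mul] at hx
  obtain ⟨u, hu, v, hv, rfl⟩ := hx
  exact ⟨u, hu, v, hv, rfl⟩

/-- For `b ∈ P`, the core of `C(P)` lies in that of `C(b)`. -/
theorem cor_le_Oc {P : Subgroup G} (hP : P ∈ F) {b : G} (hb : b ∈ P) (hb1 : b ≠ 1) : cor P ≤ Oc b := by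
  have hbA := h.le P hP hb
  have hcb : cor P ≤ centralizer ({b} : Set G) := (LocalBalance.core_le _).trans (cent_le_cent_singleton hb)
  have hnO : cor P ≤ normalizer (Oc b : Set G) := hcb.trans (cent_le_normalizer_Oc b)
  set N := cor P ⊔ Oc b
  suffices N ≤ Oc b from le_sup_left.trans this
  have hNodd : Odd (Nat.card N) := by
    haveI : ((Oc b).subgroupOf N).Normal :=
      (normal_subgroupOf_iff_le_normalizer le_sup_right).2 (sup_le hnO le_normalizer)
    have h1 := Solvable.card_sup_mul_card_inf (A := cor P) (K := Oc b) hnO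
    exact Odd.of_dvd_nat ((cor_odd P).mul (Oc_odd b)) (h1 ▸ Dvd.intro _ rfl)
  refine SylL34.le_Oc (sup_le hcb (Oc_le b)) (fun g hg => ?_) hNodd
  haveI := h.solvable (h.le P hP)
  obtain ⟨c, hc, hcg⟩ := Coprime.exists_commute_mem_coset P (Oc b) ((h.le P hP).trans (h.le_norm_Oc hbA))
    (h.coprime (h.le P hP) (Oc_odd b)) g fun p hp => by
      rw [show g⁻¹ * (p * g * p⁻¹) = ⁅g⁻¹, p⁆ by rw [commutatorElement_def]; group]
      exact h.triv P hP b hb hb1 _ (inv_mem hg) p hp
  have hcN : c ∈ normalizer (N : Set G) := by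
    refine (normalizer_inf_normalizer_le_normalizer_sup _ _) (mem_inf.2 ⟨?_, ?_⟩)
    · exact (le_normalizer.trans (LocalBalance.normalizer_le_normalizer_core _)) (mem_centralizer_iff.2 hc)
    · exact cent_le_normalizer_Oc b (cent_le_cent_singleton hb (mem_centralizer_iff.2 hc))
  rw [show g = c * (g⁻¹ * c)⁻¹ by group]
  exact mul_mem hcN (inv_mem (le_normalizer (mem_sup_right hcg : g⁻¹ * c ∈ N)))

theorem mem_factor_of_mem_Oc {P : Subgroup G} (hP : P ∈ F) {a b x : G} (ha : a ∈ A)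
    (hb : b ∈ A) (hx : x ∈ factor P a) (hxb : x ∈ Oc b) : x ∈ factor P b := by
  set J := Oc a ⊓ Oc b
  have hPA := h.le P hP
  have hPJ : P ≤ normalizer (J : Set G) := fun g hg => inf_normalizer_le_normalizer_inf
    (mem_inf.2 ⟨h.le_norm_Oc ha (hPA hg), h.le_norm_Oc hb (hPA hg)⟩)
  obtain ⟨k, hk, c, hc, rfl⟩ := CoprimeAct.exists_mul_of_mem hPJ
    (h.coprime hPA (Odd.of_dvd_nat (Oc_odd a) (card_dvd_of_le inf_le_left)))
    (Or.inl (h.solvable hPA)) (show x ∈ J from ⟨h.factor_le hP ha hx, hxb⟩)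
  have hka : k ∈ ⁅Oc a, P⁆ := commutator_mono inf_le_left le_rfl hk
  have hcR : c ∈ factor P a := by
    have := mul_mem (inv_mem (mem_sup_left hka : k ∈ factor P a)) hx
    rwa [inv_mul_cancel_left] at this
  obtain ⟨u, hu, v, hv, huv⟩ := CoprimeAct.fixed_factor (A := P) (K := factor P a)
    (hPA.trans (h.le_norm_factor hP ha))
    (h.coprime hPA (Odd.of_dvd_nat (Oc_odd a) (card_dvd_of_le (h.factor_le hP ha))))
    (Or.inl (h.solvable hPA)) (X := ⁅Oc a, P⁆) (Y := Oc a ⊓ cor P) le_sup_left le_sup_right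
    (normalizer_commutator_ge_right _ _) (hPA.trans (h.le_norm_inter hP ha)) (h.factor_mul hP ha)
    (show c ∈ factor P a ⊓ centralizer (P : Set G) from ⟨hcR, hc.2⟩)
  exact mul_mem (mem_sup_left (commutator_mono inf_le_right le_rfl hk))
    (mem_sup_right ⟨hc.1.2, huv ▸ mul_mem (h.key hP ha hu) hv.1.2⟩)

theorem theta_le_normalizer {a : G} (ha : a ∈ A) : A ≤ normalizer (theta F a : Set G) := fun g hg => by
  refine mem_normalizer_of_conj_mem fun x hx => ?_
  rw [mem_theta] at hx ⊢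
  exact ⟨conj_mem_of_normalizer (h.le_norm_Oc ha hg) hx.1,
    fun P hP => conj_mem_of_normalizer (h.le_norm_factor hP ha hg) (hx.2 P hP)⟩

/-- Balance. -/
theorem bal {a b x : G} (ha : a ∈ A) (hb : b ∈ A) (hb1 : b ≠ 1) (hx : x ∈ theta F a)
    (hxb : x * b = b * x) : x ∈ theta F b := by
  obtain ⟨hxa, hxF⟩ := mem_theta.1 hx
  have hxC : x ∈ centralizer ({b} : Set G) := mem_centralizer_singleton_iff.2 hxb
  suffices hxO : x ∈ Oc b from mem_theta.2 ⟨hxO, fun P hP => h.mem_factor_of_mem_Oc hP ha hb (hxF P hP) hxO⟩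
  rcases h.cover b hb hb1 with ht | ⟨P, hP, hbP⟩
  · refine ht (theta F a ⊓ centralizer ({b} : Set G)) inf_le_right
      (Odd.of_dvd_nat (Oc_odd a) (card_dvd_of_le (inf_le_left.trans inf_le_left))) ?_ ⟨hx, hxC⟩
    exact fun g hg => inf_normalizer_le_normalizer_inf
      (mem_inf.2 ⟨h.theta_le_normalizer ha hg, le_normalizer (h.mem_cent hb hg)⟩)
  have hPA := h.le P hP
  have hR : zpowers b ≤ A := zpowers_le.2 hb
  obtain ⟨u, hu, v, hv, rfl⟩ := CoprimeAct.fixed_factor (A := zpowers b) (K := factor P a)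
    (hR.trans (h.le_norm_factor hP ha))
    (h.coprime hR (Odd.of_dvd_nat (Oc_odd a) (card_dvd_of_le (h.factor_le hP ha))))
    (Or.inl (h.solvable hR)) (X := ⁅Oc a, P⁆) (Y := Oc a ⊓ cor P) le_sup_left le_sup_right
    (hR.trans (h.le_norm_piece hP ha)) (hR.trans (h.le_norm_inter hP ha)) (h.factor_mul hP ha)
    (show x ∈ factor P a ⊓ centralizer (zpowers b : Set G) from
      ⟨hxF P hP, by rw [LocalBalance.centralizer_zpowers_eq]; exact hxC⟩)
  refine mul_mem ?_ (h.cor_le_Oc hP hbP hb1 hv.1.2)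
  rw [mem_inf, LocalBalance.centralizer_zpowers_eq] at hu
  set X := ⁅Oc a, P⁆ ⊓ centralizer ({b} : Set G)
  have hPX : P ≤ normalizer (X : Set G) := fun g hg => inf_normalizer_le_normalizer_inf
    (mem_inf.2 ⟨h.le_norm_piece hP ha (hPA hg), le_normalizer (h.mem_cent hb (hPA hg))⟩)
  obtain ⟨p, hp, c, hc, rfl⟩ := CoprimeAct.exists_mul_of_mem hPX
    (h.coprime hPA (Odd.of_dvd_nat (Oc_odd a) (card_dvd_of_le (inf_le_left.trans (h.piece_le hP ha)))))
    (Or.inl (h.solvable hPA)) (show u ∈ X from hu)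
  refine mul_mem ?_ (h.cor_le_Oc hP hbP hb1 (h.key hP ha ⟨hc.1.1, hc.2⟩))
  exact (commutator_le.2 fun d hd q hq => h.triv P hP b hbP hb1 d hd.2 q hq : ⁅X, P⁆ ≤ Oc b) hp

/-- Commutators of elements of all the cores of a four-group lie in the functor. -/
theorem comm_mem_theta {B : Subgroup G} (hBA : B ≤ A) (h4 : Nat.card B = 4) {b : G} (hb : b ∈ B)
    (hb1 : b ≠ 1) {x a : G} (hx : ∀ e ∈ B, e ≠ 1 → x ∈ Oc e) (ha : a ∈ A) : ⁅x, a⁆ ∈ theta F b := by
  set D : Subgroup G := ⨅ e : {e : G // e ∈ B ∧ e ≠ 1}, Oc (e : G) with hD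
  have hDle : ∀ e ∈ B, e ≠ 1 → D ≤ Oc e := fun e he he1 => iInf_le (fun e : {e : G // e ∈ B ∧ e ≠ 1} => Oc (e : G)) ⟨e, he, he1⟩
  have hxD : x ∈ D := mem_iInf.2 fun e => hx _ e.2.1 e.2.2
  have hAD : A ≤ normalizer (D : Set G) := fun g hg => mem_normalizer_of_conj_mem fun y hy =>
    mem_iInf.2 fun e => conj_mem_of_normalizer (h.le_norm_Oc (hBA e.2.1) hg) (hDle _ e.2.1 e.2.2 hy)
  have hDodd : Odd (Nat.card D) := Odd.of_dvd_nat (Oc_odd b) (card_dvd_of_le (hDle b hb hb1))
  refine mem_theta.2 ⟨hDle b hb hb1 (le_normalizer_iff_commutator_le_left.1 hAD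
    (commutator_mem_commutator hxD ha)), fun P hP => ?_⟩
  have hPA := h.le P hP
  by_cases hbp : ∃ b₀ ∈ B, b₀ ∈ P ∧ b₀ ≠ 1
  · obtain ⟨b₀, hb0, hb0P, hb01⟩ := hbp
    have hDP : D ≤ factor P b := by
      rw [← CoprimeAct.commutator_sup_centralizer (hPA.trans hAD) (h.coprime hPA hDodd)
        (Or.inl (h.solvable hPA))]
      refine sup_le ((commutator_mono (hDle b hb hb1) le_rfl).trans le_sup_left) fun y hy => ?_
      exact mem_sup_right ⟨hDle b hb hb1 hy.1, Oc_inf_cent_le hb0P ⟨hDle b₀ hb0 hb01 hy.1, hy.2⟩⟩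
    rw [commutatorElement_def, show x * a * x⁻¹ * a⁻¹ = x * (a * x⁻¹ * a⁻¹) by group]
    exact hDP (mul_mem hxD (conj_mem_of_normalizer (hAD ha) (inv_mem hxD)))
  push Not at hbp
  have hdisj : P ⊓ B = ⊥ := (eq_bot_iff_forall _).2 fun y hy => hbp y hy.2 hy.1
  have hn : P ≤ normalizer (B : Set G) := fun g hg => centralizer_le_normalizer _
    (mem_centralizer_iff.2 fun y hy => h.comm (hBA hy) (hPA hg))
  have hPB : P ⊔ B = A := eq_of_le_of_card_ge (sup_le hPA hBA) (by
    rw [Solvable.card_sup_of_disjoint hn hdisj, h.four P hP, h4, h.card])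
  obtain ⟨p, hp, e, he, rfl⟩ : ∃ p ∈ P, ∃ e ∈ B, a = p * e := by
    rw [← hPB, ← SetLike.mem_coe, coe_mul_of_left_le_normalizer_right _ _ hn, Set.mem_mul] at ha
    obtain ⟨p, hp, e, he, rfl⟩ := ha
    exact ⟨p, hp, e, he, rfl⟩
  have hxe : x * e = e * x := by
    by_cases he1 : e = 1
    · simp [he1]
    · exact Oc_comm (hDle e he he1 hxD)
  rw [show ⁅x, p * e⁆ = ⁅x, p⁆ by
    rw [commutatorElement_def, commutatorElement_def, mul_inv_rev]
    calc x * (p * e) * x⁻¹ * (e⁻¹ * p⁻¹) = x * p * (e * x⁻¹) * e⁻¹ * p⁻¹ := by group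
      _ = x * p * (x⁻¹ * e) * e⁻¹ * p⁻¹ := by
        rw [show e * x⁻¹ = x⁻¹ * e from ((show Commute x e from hxe).inv_left).eq.symm]
      _ = x * p * x⁻¹ * p⁻¹ := by group]
  exact mem_sup_left (commutator_mem_commutator (hDle b hb hb1 hxD) hp)

/-- The core normalises the functor. -/
theorem Oc_le_normalizer_theta {a : G} (ha : a ∈ A) : Oc a ≤ normalizer (theta F a : Set G) := by
  intro o ho
  refine mem_normalizer_of_conj_mem fun x hx => ?_
  rw [mem_theta] at hx ⊢
  refine ⟨conj_mem_of_normalizer (le_normalizer ho) hx.1, fun P hP => conj_mem_of_normalizer ?_ (hx.2 P hP)⟩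
  have hPO : P ≤ normalizer (Oc a : Set G) := (h.le P hP).trans (h.le_norm_Oc ha)
  suffices Oc a ≤ normalizer (factor P a : Set G) from this ho
  conv_lhs => rw [← CoprimeAct.commutator_sup_centralizer hPO (h.coprime (h.le P hP) (Oc_odd a))
    (Or.inl (h.solvable (h.le P hP)))]
  refine sup_le (le_sup_left.trans le_normalizer) fun g hg => (normalizer_inf_normalizer_le_normalizer_sup _ _)
    (mem_inf.2 ⟨normalizer_commutator_ge_left _ _ hg.1, inf_normalizer_le_normalizer_inf (mem_inf.2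
      ⟨le_normalizer hg.1, (le_normalizer.trans (LocalBalance.normalizer_le_normalizer_core _)) hg.2⟩)⟩)

theorem conj_theta {t : G} (ht : cj t A = A) {a x : G} (hx : x ∈ theta F a) :
    t * x * t⁻¹ ∈ theta F (t * a * t⁻¹) := by
  rw [mem_theta] at hx ⊢
  refine ⟨conj_mem_Oc hx.1, fun P hP => ?_⟩
  have ht' : cj t⁻¹ A = A := by conv_lhs => rw [← ht, cj_inv_cj]
  have hQ := h.equiv t⁻¹ ht' P hP
  have e : cj t (factor (cj t⁻¹ P) a) = factor P (t * a * t⁻¹) := by
    have hcP : cj t (cj t⁻¹ P) = P := by rw [cj_cj, mul_inv_cancel, cj_one]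
    have hcC : cj t (centralizer ((cj t⁻¹ P : Subgroup G) : Set G)) = centralizer (P : Set G) := by
      ext y
      rw [mem_cj, mem_centralizer_iff, mem_centralizer_iff]
      constructor
      · intro hy p hp
        have h1 := hy (t⁻¹ * p * t) (by rw [SetLike.mem_coe, mem_cj]; simpa [mul_assoc] using hp)
        calc p * y = t * ((t⁻¹ * p * t) * (t⁻¹ * y * t)) * t⁻¹ := by group
          _ = t * ((t⁻¹ * y * t) * (t⁻¹ * p * t)) * t⁻¹ := by rw [h1]
          _ = y * p := by group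
      · intro hy p hp
        rw [SetLike.mem_coe, mem_cj, inv_inv] at hp
        calc p * (t⁻¹ * y * t) = t⁻¹ * ((t * p * t⁻¹) * y) * t := by group
          _ = t⁻¹ * (y * (t * p * t⁻¹)) * t := by rw [hy _ hp]
          _ = t⁻¹ * y * t * p := by group
    have hcc : cj t (cor (cj t⁻¹ P)) = cor P := by
      refine eq_of_le_of_card_ge (le_cor ?_ ?_ ?_) ?_
      · rw [← hcC]; exact map_mono (LocalBalance.core_le _)
      · intro g hg
        rw [← hcC, mem_cj] at hg
        refine mem_normalizer_of_cj ?_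
        rw [cj_cj, show g * t = t * (t⁻¹ * g * t) by group, ← cj_cj,
          cj_of_mem_normalizer (show t⁻¹ * g * t ∈ normalizer (cor (cj t⁻¹ P) : Set G) from
            (le_normalizer.trans (LocalBalance.normalizer_le_normalizer_core _)) hg)]
      · rw [card_cj]; exact cor_odd _
      · rw [card_cj, ← card_cj t⁻¹ (cor P)]
        refine card_le_of_le (le_cor ?_ ?_ ?_)
        · rw [← cj_inv_cj t (centralizer ((cj t⁻¹ P : Subgroup G) : Set G)), hcC]
          exact map_mono (LocalBalance.core_le _)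
        · intro g hg
          rw [← cj_inv_cj t (centralizer ((cj t⁻¹ P : Subgroup G) : Set G)), hcC, mem_cj, inv_inv] at hg
          refine mem_normalizer_of_cj ?_
          rw [cj_cj, show g * t⁻¹ = t⁻¹ * (t * g * t⁻¹) by group, ← cj_cj,
            cj_of_mem_normalizer (show t * g * t⁻¹ ∈ normalizer (cor P : Set G) from
              (le_normalizer.trans (LocalBalance.normalizer_le_normalizer_core _)) hg)]
        · rw [card_cj]; exact cor_odd _
    show (⁅Oc a, cj t⁻¹ P⁆ ⊔ (Oc a ⊓ cor (cj t⁻¹ P))).map (MulAut.conj t).toMonoidHom = _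
    rw [Subgroup.map_sup, map_commutator, Subgroup.map_inf _ _ _ (MulAut.conj t).injective]
    change ⁅cj t (Oc a), cj t (cj t⁻¹ P)⁆ ⊔ (cj t (Oc a) ⊓ cj t (cor (cj t⁻¹ P))) = _
    rw [cj_Oc, hcP, hcc]
    rfl
  rw [← e, conj_mem_cj]
  exact hx.2 _ hQ

/-- The closure of the functor. -/
theorem exists_closure : ∃ W : Subgroup G, Odd (Nat.card W) ∧
    (∀ a ∈ A, a ≠ 1 → theta F a ≤ W) ∧
    (∀ a ∈ A, a ≠ 1 → ∀ x ∈ W, x * a = a * x → x ∈ theta F a) ∧
    normalizer (A : Set G) ≤ normalizer (W : Set G) ∧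
    ∀ v ∈ A, v ≠ 1 → Oc v ≤ normalizer (W : Set G) := by
  classical
  haveI : Fact (Nat.Prime 2) := ⟨Nat.prime_two⟩
  obtain ⟨hW, hWeq⟩ := Cfsg.Agent.S0217.result (p := 2) A (fun a ha b hb => h.comm ha hb)
    (fun a ha => by rw [pow_two]; exact h.sq a ha) (by rw [h.card]; norm_num) (theta F)
    (fun a _ _ => inf_le_left.trans (Oc_le a))
    (fun a _ _ => (Odd.of_dvd_nat (Oc_odd a) (card_dvd_of_le inf_le_left)).not_two_dvd_nat)
    (fun a ha _ b hb x hx => conj_mem_of_normalizer (h.theta_le_normalizer ha hb) hx)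
    (fun a _ _ => Cfsg.Agent.S0205.result (Odd.of_dvd_nat (Oc_odd a) (card_dvd_of_le inf_le_left)))
    (fun a ha _ b hb hb1 x hx => h.bal ha hb hb1 hx.1 (mem_centralizer_singleton_iff.1 hx.2))
  set W := ⨆ a : {a : G // a ∈ A ∧ a ≠ 1}, theta F (a : G) with hWdef
  have hle : ∀ a ∈ A, a ≠ 1 → theta F a ≤ W := fun a ha ha1 =>
    le_iSup (fun a : {a : G // a ∈ A ∧ a ≠ 1} => theta F (a : G)) ⟨a, ha, ha1⟩
  have hWc : ∀ a ∈ A, a ≠ 1 → ∀ x ∈ W, x * a = a * x → x ∈ theta F a := fun a ha ha1 x hx hxa =>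
    (hWeq a ha ha1).le ⟨hx, mem_centralizer_singleton_iff.2 hxa⟩
  have hAW : normalizer (A : Set G) ≤ normalizer (W : Set G) := by
    intro g hg
    refine mem_normalizer_of_cj (eq_of_le_of_card_ge ?_ (card_cj g W).ge)
    rw [cj, hWdef, Subgroup.map_iSup]
    refine iSup_le fun a => ?_
    rintro _ ⟨x, hx, rfl⟩
    exact hle _ (conj_mem_of_normalizer hg a.2.1) (fun e => a.2.2 (conj_eq_one_iff.1 e))
      (h.conj_theta (cj_of_mem_normalizer hg) hx)
  have hel := h.elem
  refine ⟨W, Nat.not_even_iff_odd.1 fun he => hW (even_iff_two_dvd.1 he), hle, hWc, hAW,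
    fun v hv hv1 => ?_⟩
  -- elements of the core centralising a subgroup of order eight through `v`
  have piece : ∀ f g : G, f ∈ A → g ∈ A → f ≠ 1 → g ∉ zpowers f → ∀ x ∈ Oc v, x * f = f * x → x * g = g * x →
      ∀ y ∈ W, y * f = f * y → y * g = g * y → x * y * x⁻¹ ∈ W := by
    intro f g hf hg hf1 hgf x hx hxf hxg y hy hyf hyg
    set B := zpowers g ⊔ zpowers f
    have hBA : B ≤ A := sup_le (zpowers_le.2 hg) (zpowers_le.2 hf)
    have hB4 : Nat.card B = 4 := by
      rw [Signalizer.card_sup_zpowers hel (zpowers_le.2 hf) hg hgf, Signalizer.card_zpowers_eq hel hf hf1]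
    have hBc : ∀ z : G, z * f = f * z → z * g = g * z → ∀ e ∈ B, z * e = e * z := by
      intro z h1 h2 e he
      have hle2 : B ≤ centralizer ({z} : Set G) := sup_le
        (zpowers_le.2 (mem_centralizer_singleton_iff.2 h2.symm))
        (zpowers_le.2 (mem_centralizer_singleton_iff.2 h1.symm))
      exact (mem_centralizer_singleton_iff.1 (hle2 he)).symm
    have hfB : f ∈ B := mem_sup_right (mem_zpowers f)
    set E := zpowers v ⊔ B
    have hEA : E ≤ A := sup_le (zpowers_le.2 hv) hBA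
    set D := W ⊓ centralizer ({f} : Set G) ⊓ centralizer ({g} : Set G)
    have hED : E ≤ normalizer (D : Set G) := fun e he => inf_normalizer_le_normalizer_inf (mem_inf.2
      ⟨inf_normalizer_le_normalizer_inf (mem_inf.2 ⟨hAW (le_normalizer (hEA he)),
        le_normalizer (h.mem_cent hf (hEA he))⟩), le_normalizer (h.mem_cent hg (hEA he))⟩)
    have hDodd : Odd (Nat.card D) := Nat.not_even_iff_odd.1 fun he =>
      hW (even_iff_two_dvd.1 he |>.trans (card_dvd_of_le (inf_le_left.trans inf_le_left)))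
    have hxE : ∀ e ∈ E, x * e = e * x := by
      intro e he
      have hle2 : E ≤ centralizer ({x} : Set G) := sup_le
        (zpowers_le.2 (mem_centralizer_singleton_iff.2 (Oc_comm hx).symm))
        (fun b hb => mem_centralizer_singleton_iff.2 (hBc x hxf hxg b hb).symm)
      exact (mem_centralizer_singleton_iff.1 (hle2 he)).symm
    obtain ⟨p, hp, c, hc, rfl⟩ := CoprimeAct.exists_mul_of_mem hED (h.coprime hEA hDodd)
      (Or.inl (h.solvable hEA)) (show y ∈ D from
        ⟨⟨hy, mem_centralizer_singleton_iff.2 hyf⟩, mem_centralizer_singleton_iff.2 hyg⟩)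
    have hpW : x * p * x⁻¹ ∈ W := by
      have hle2 : ⁅D, E⁆ ≤ W.comap (MulAut.conj x).toMonoidHom := commutator_le.2 fun d hd a ha => by
        show x * ⁅d, a⁆ * x⁻¹ ∈ W
        rw [conjugate_commutatorElement, show x * a * x⁻¹ = a by rw [hxE a ha, mul_inv_cancel_right]]
        refine hle f hf hf1 (h.comm_mem_theta hBA hB4 hfB hf1 (fun e he he1 => ?_) (hEA ha))
        have hde : d * e = e * d := hBc d (mem_centralizer_singleton_iff.1 hd.1.2)
          (mem_centralizer_singleton_iff.1 hd.2) e he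
        have := conj_mem_Oc (g := x) ((mem_theta.1 (hWc e (hBA he) he1 d hd.1.1 hde)).1)
        rwa [show x * e * x⁻¹ = e by rw [hBc x hxf hxg e he, mul_inv_cancel_right]] at this
      exact hle2 hp
    have hcW : x * c * x⁻¹ ∈ W := hle v hv hv1 (conj_mem_of_normalizer (h.Oc_le_normalizer_theta hv hx)
      (hWc v hv hv1 c hc.1.1.1 (mem_centralizer_iff.1 hc.2 v (mem_sup_left (mem_zpowers v))).symm))
    rw [show x * (p * c) * x⁻¹ = x * p * x⁻¹ * (x * c * x⁻¹) by group]
    exact mul_mem hpW hcW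
  -- generation
  intro x₀ hx₀
  refine Signalizer.le_of_forall_hyperplane hel (h.le_norm_Oc hv) (Oc_odd v).not_two_dvd_nat ?_ hx₀
  intro B hB hBi x hx
  have hB8 : 8 ≤ Nat.card B := by
    have := relIndex_mul_relIndex ⊥ B A bot_le hB
    rw [relIndex_bot_left, relIndex_bot_left, h.card] at this
    nlinarith [Nat.card_pos (α := B)]
  refine mem_normalizer_of_cj (eq_of_le_of_card_ge ?_ (card_cj x W).ge)
  have hWle : W ≤ W.comap (MulAut.conj x).toMonoidHom := by
    refine Signalizer.le_of_forall_hyperplane (Signalizer.of_le hel hB) ?_ hW ?_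
    · exact hB.trans (le_normalizer.trans hAW)
    intro B' hB' hB'i y hy
    have hB'4 : 4 ≤ Nat.card B' := by
      have := relIndex_mul_relIndex ⊥ B' B bot_le hB'
      rw [relIndex_bot_left, relIndex_bot_left] at this
      nlinarith [Nat.card_pos (α := B')]
    obtain ⟨f, hf, hf1⟩ : ∃ f ∈ B', f ≠ 1 := by
      by_contra! hcon
      rw [show B' = ⊥ from (eq_bot_iff_forall _).2 hcon, card_bot] at hB'4
      omega
    obtain ⟨g, hg, hgf⟩ : ∃ g ∈ B', g ∉ zpowers f := by
      by_contra! hcon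
      have := card_le_of_le (show B' ≤ zpowers f from hcon)
      rw [Signalizer.card_zpowers_eq hel (hB (hB' hf)) hf1] at this
      omega
    show x * y * x⁻¹ ∈ W
    exact piece f g (hB (hB' hf)) (hB (hB' hg)) hf1 hgf x hx.1
      (mem_centralizer_iff.1 hx.2 f (hB' hf)).symm (mem_centralizer_iff.1 hx.2 g (hB' hg)).symm y hy.1
      (mem_centralizer_iff.1 hy.2 f hf).symm (mem_centralizer_iff.1 hy.2 g hg).symm
  rintro _ ⟨y, hy, rfl⟩
  exact hWle hy

end Family

end CfsgLib.JankoType
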