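import Cfsg.Agent.JankoType.Local
import Cfsg.Agent.JankoType.Central
import Cfsg.Agent.SylL34.Normal
import Mathlib.Algebra.BigOperators.Group.Finset.Basic

/-!
Fusion of involutions in a simple group with a Sylow 2-subgroup of the type of that of the Hall–Janko group
and the family of four-subgroups for the signalizer functor.
-/

set_option autoImplicit false
set_option linter.unusedSectionVars false
set_option linter.style.haveILetI false

namespace CfsgLib.JankoType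

open Subgroup CfsgLib.SylL34 CfsgLib.JankoSylow
open scoped commutatorElement

/-- The codes of the involutions of `A` outside the Clifford group. -/
abbrev Out (a : Fin 128) : Prop := IA a ∧ ¬ IQ a ∧ JankoSylow.sq a = 0

theorem com32_out : ∀ e : Fin 128, Com e 32 → ¬ IZA e → Out e := by decide +kernel

theorem out_side : ∀ a : Fin 128, Out a → Com a 32 ∨ Com a 35 := by decide +kernel

theorem ia_mul_iza : ∀ e : Fin 128, Com e 32 → ∀ w : Fin 128, IZA w → (IZA (mm e w) ↔ IZA e) := by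
  decide +kernel

theorem coset_dichotomy : ∀ b x y : Fin 128, Com b 32 → Com x 32 → Com y 32 → ¬ IZA b →
    ¬ IZA x → ¬ IZA (mm x b) → ¬ IZA y → ¬ IZA (mm y b) → IZA (mm y x) ∨ IZA (mm y (mm x b)) := by
  intro b x y hb hx hy
  obtain ⟨wb, hwb, eb⟩ := com32_split b hb
  obtain ⟨wx, hwx, ex⟩ := com32_split x hx
  obtain ⟨wy, hwy, ey⟩ := com32_split y hy
  have key : ∀ a c d : Fin 4, ∀ p q r : Fin 128, IZA p → IZA q → IZA r → ¬ IZA (mm (kc a) p) →
      ¬ IZA (mm (kc c) q) → ¬ IZA (mm (mm (kc c) q) (mm (kc a) p)) → ¬ IZA (mm (kc d) r) →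
      ¬ IZA (mm (mm (kc d) r) (mm (kc a) p)) → IZA (mm (mm (kc d) r) (mm (kc c) q)) ∨
        IZA (mm (mm (kc d) r) (mm (mm (kc c) q) (mm (kc a) p))) := by
    have red : ∀ a c d : Fin 4, a ≠ 0 → c ≠ 0 → c ≠ a → d ≠ 0 → d ≠ a → d = c ∨ d = c ^^^ a := by
      decide +kernel
    have h1 : ∀ a : Fin 4, ∀ p : Fin 128, IZA p → (IZA (mm (kc a) p) ↔ a = 0) := by decide +kernel
    have h2 : ∀ a c : Fin 4, ∀ p q : Fin 128, IZA p → IZA q → ∃ r, IZA r ∧
        mm (mm (kc c) q) (mm (kc a) p) = mm (kc (c ^^^ a)) r := by decide +kernel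
    intro a c d p q r hp hq hr n1 n2 n3 n4 n5
    rw [h1 a p hp] at n1
    rw [h1 c q hq] at n2
    obtain ⟨s, hs, es⟩ := h2 a c p q hp hq
    rw [es, h1 _ s hs] at n3
    obtain ⟨s', hs', es'⟩ := h2 a d p r hp hr
    rw [es', h1 _ s' hs'] at n5
    rw [h1 d r hr] at n4
    have hne : ∀ a c : Fin 4, c ^^^ a ≠ 0 → c ≠ a := by decide +kernel
    have hself : ∀ a : Fin 4, a ^^^ a = 0 := by decide +kernel
    rcases red a c d n1 n2 (hne a c n3) n4 (hne a d n5) with rfl | rfl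
    · left
      obtain ⟨t, ht, et⟩ := h2 d d q r hq hr
      rw [et, h1 _ t ht, hself]
    · right
      rw [es]
      obtain ⟨t, ht, et⟩ := h2 (c ^^^ a) (c ^^^ a) s r hs hr
      rw [et, h1 _ t ht, hself]
  intro h1 h2 h3 h4 h5
  rw [← eb] at h1 h3 h5
  rw [← ex] at h2 h3
  rw [← ey] at h4 h5
  rw [← eb, ← ex, ← ey]
  exact key _ _ _ _ _ _ hwb hwx hwy h1 h2 h3 h4 h5

variable {G : Type*} [Group G] [Finite G] {S : Sylow 2 G} {f : Fin 128 → G} (X : Ctx S f)

theorem cj_injective {g : G} {D D' : Subgroup G} (h : cj g D = cj g D') : D = D' := by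
  rw [← cj_inv_cj g D, h, cj_inv_cj]

/-- A relation forcing a commutator to be trivial. -/
theorem odd_shift {n x d : G} (h : n * x * n⁻¹ = x * d) (hd : n * d * n⁻¹ = d) (hdd : d * d = 1)
    {m : ℕ} (hm : Odd m) (hx : n ^ m * x = x * n ^ m) : d = 1 := by
  have hk : ∀ k : ℕ, n ^ k * x * (n ^ k)⁻¹ = x * d ^ k := by
    intro k
    induction k with
    | zero => simp
    | succ k ih =>
      calc n ^ (k + 1) * x * (n ^ (k + 1))⁻¹ = n * (n ^ k * x * (n ^ k)⁻¹) * n⁻¹ := by rw [pow_succ']; group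
        _ = n * x * n⁻¹ * (n * d * n⁻¹) ^ k := by rw [ih, conj_pow]; group
        _ = _ := by rw [h, hd, pow_succ']; group
  have h1 := hk m
  rw [hx, mul_inv_cancel_right, left_eq_mul] at h1
  obtain ⟨j, rfl⟩ := hm
  rwa [pow_succ, pow_mul, pow_two, hdd, one_pow, one_mul] at h1

namespace Ctx

include X

/-- `A`, an elementary abelian subgroup of order 16. -/
abbrev subE (X : Ctx S f) : Subgroup G := X.tab.subC 32

/-- `V`, the centre of `C_S(u)`. -/
abbrev subV (X : Ctx S f) : Subgroup G := X.tab.subZA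

theorem E_sq : ∀ x ∈ X.subE, x * x = 1 := by
  rintro _ ⟨c, hc, rfl⟩
  exact (X.tab.sq_eq_one_iff c).2 (com32_sq c hc).1

theorem E_card : Nat.card X.subE = 16 :=
  X.tab.card_subC_a (com32_sq 32 (by decide)).2 (by decide) (com32_sq 32 (by decide)).1

theorem V_le_E : X.subV ≤ X.subE := by
  rintro _ ⟨c, hc, rfl⟩
  exact ⟨c, (com32_iza c hc).1, rfl⟩

theorem E_le_S : X.subE ≤ (S : Subgroup G) := X.tab.sub_le

theorem E_comm {x y : G} (hx : x ∈ X.subE) (hy : y ∈ X.subE) : x * y = y * x := comm_of_sq X.E_sq hx hy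

theorem mem_E_code {c : Fin 128} : f c ∈ X.subE ↔ Com c 32 :=
  ⟨fun ⟨d, hd, e⟩ => X.tab.inj e ▸ hd, fun h => ⟨c, h, rfl⟩⟩

theorem mem_V_code {c : Fin 128} : f c ∈ X.subV ↔ IZA c :=
  ⟨fun ⟨d, hd, e⟩ => X.tab.inj e ▸ hd, fun h => ⟨c, h, rfl⟩⟩

theorem z_mem : f zc ∈ X.subV := X.mem_V_code.2 z_codes.1

theorem u_mem : f uc ∈ X.subV := X.mem_V_code.2 z_codes.2.1

theorem uz_mem : f (mm uc zc) ∈ X.subV := X.mem_V_code.2 z_codes.2.2.1

theorem ord_two {c : Fin 128} (hc : JankoSylow.sq c = 0) (h0 : c ≠ 0) : orderOf (f c) = 2 :=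
  Invol.orderOf_eq_two ((X.tab.sq_eq_one_iff c).2 hc) (fun h => h0 ((X.tab.eq_one_iff c).1 h))

theorem E_le_cent {x : G} (hx : x ∈ X.subE) : X.subE ≤ centralizer ({x} : Set G) := fun _ hy =>
  mem_centralizer_singleton_iff.2 (X.E_comm hy hx)

theorem f1_cj : cj (f 1) X.subE = X.tab.subC 35 ∧ cj (f 1) (X.tab.subC 35) = X.subE ∧
    cj (f 1) X.subV = X.subV ∧ f 1 * f zc * (f 1)⁻¹ = f zc ∧ f 1 * f uc * (f 1)⁻¹ = f (mm uc zc) := by
  have h := X.tab.cj_subC (f 1) rfl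
  refine ⟨?_, h, ?_, ?_, ?_⟩
  · show cj (f 1) (X.tab.subC 32) = _
    rw [← h, cj_cj, (X.tab.sq_eq_one_iff 1).2 (by decide), cj_one]
  · refine cj_eq_of_conj_mem ?_
    rintro _ ⟨c, hc, rfl⟩
    exact ⟨_, (by decide +kernel : ∀ c, IZA c → IZA (mm (mm 1 c) (inv 1))) c hc, (X.tab.map_conj 1 c).symm⟩
  · rw [X.tab.map_conj, flip_u.2]
  · rw [X.tab.map_conj, flip_u.1]

/-- An elementary abelian subgroup of order 16 of `C(z)` is conjugate to `A` in `C(z)`. -/
theorem cj_into {D : Subgroup G} (hD : D ≤ centralizer ({f zc} : Set G)) (hsq : ∀ x ∈ D, x * x = 1)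
    (hc : Nat.card D = 16) : ∃ c ∈ centralizer ({f zc} : Set G), cj c D = X.subE := by
  obtain ⟨k, hk⟩ := exists_cj_le (S.subtype X.S_le_cent) (P := D.subgroupOf _)
    ((isPGroup_of_sq hsq).comap_subtype)
  have hle : cj (k : G) D ≤ (S : Subgroup G) := by
    intro y hy
    have h0 := mem_cj.1 hy
    have hyC : y ∈ centralizer ({f zc} : Set G) := by
      have := mul_mem (mul_mem k.2 (hD h0)) (inv_mem k.2)
      rwa [show (k : G) * ((k : G)⁻¹ * y * k) * (k : G)⁻¹ = y by group] at this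
    exact hk ((mem_cj (g := k) (x := (⟨y, hyC⟩ : ↥(centralizer ({f zc} : Set G))))).2 h0)
  obtain ⟨a, hA, hQ, hs, hE⟩ := X.tab.sixteen hle (cj_sq hsq) (by rw [card_cj, hc])
  rcases X.tab.subC_class hA hQ hs with h | h
  · exact ⟨k, k.2, hE.trans h⟩
  · refine ⟨f 1 * k, mul_mem (X.mem_C 1) k.2, ?_⟩
    rw [← cj_cj, hE, h, X.f1_cj.2.1]

/-- An element of `A` conjugate to `z` is conjugate to it in `N(A)`. -/
theorem norm_conj {x : G} (hx : x ∈ X.subE) (hc : IsConj (f zc) x) :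
    ∃ n, cj n X.subE = X.subE ∧ n * f zc * n⁻¹ = x := by
  obtain ⟨g, hg⟩ := isConj_iff.1 hc.symm
  have hle : cj g X.subE ≤ centralizer ({f zc} : Set G) := by
    rw [← hg, ← cj_centralizer]
    exact map_mono (X.E_le_cent hx)
  obtain ⟨c, hcC, hcE⟩ := X.cj_into hle (cj_sq X.E_sq) (by rw [card_cj, X.E_card])
  refine ⟨(c * g)⁻¹, ?_, ?_⟩
  · calc cj (c * g)⁻¹ X.subE = cj (c * g)⁻¹ (cj (c * g) X.subE) := by rw [← cj_cj c g, hcE]
      _ = X.subE := cj_inv_cj _ _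
  · rw [← hg]
    have h1 : c⁻¹ * f zc = f zc * c⁻¹ := mem_centralizer_singleton_iff.1 (inv_mem hcC)
    calc (c * g)⁻¹ * (g * x * g⁻¹) * (c * g)⁻¹⁻¹ = g⁻¹ * (c⁻¹ * (g * x * g⁻¹)) * c * g := by group
      _ = g⁻¹ * ((g * x * g⁻¹) * c⁻¹) * c * g := by rw [hg, h1]
      _ = x := by group

/-- The involutions of the Clifford group are conjugate in `C(z)` to `u`. -/
theorem sing_conj {c : Fin 128} (hc : Sing c) :
    ∃ m ∈ centralizer ({f zc} : Set G), m * f uc * m⁻¹ = f c := by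
  rcases sing_orbit c hc with rfl | rfl | ⟨t, ht⟩
  · exact ⟨1, one_mem _, by group⟩
  · exact ⟨f 1, X.mem_C 1, X.f1_cj.2.2.2.2⟩
  obtain ⟨g, hgz, -, hgu⟩ := X.moved
  have hgC : g⁻¹ ∈ centralizer ({f zc} : Set G) := inv_mem (mem_centralizer_singleton_iff.2 hgz)
  rcases hgu with h | h
  · refine ⟨f t * g⁻¹, mul_mem (X.mem_C t) hgC, ?_⟩
    rw [← ht, ← X.tab.map_conj, ← h]
    group
  · refine ⟨f t * g⁻¹ * f 1, mul_mem (mul_mem (X.mem_C t) hgC) (X.mem_C 1), ?_⟩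
    rw [show f t * g⁻¹ * f 1 * f uc * (f t * g⁻¹ * f 1)⁻¹ =
        f t * g⁻¹ * (f 1 * f uc * (f 1)⁻¹) * g * (f t)⁻¹ by group, X.f1_cj.2.2.2.2,
      ← ht, ← X.tab.map_conj, ← h]
    group

theorem not_comm : ¬ IsMulCommutative G := fun h => by
  have h1 : ¬ ∀ b : Fin 128, Com 32 b := by decide +kernel
  exact h1 fun b => (X.tab.comm_iff 32 b).1 (h.is_comm.comm _ _)

theorem oddCore_eq_bot [IsSimpleGroup G] : Cfsg.oddCore G = ⊥ := by
  refine (IsSimpleGroup.eq_bot_or_eq_top_of_normal _ ocore_normal).resolve_right fun h => ?_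
  have h1 : Odd (Nat.card G) := by rw [← Subgroup.card_top, ← h]; exact ocore_odd
  exact absurd ((X.tab.eq_one_iff zc).1 (eq_one_of_sq_odd X.tab.z_sq
    (Odd.of_dvd_nat h1 (orderOf_dvd_natCard _)))) (by decide)

theorem cent_ne_top [IsSimpleGroup G] {x : G} (hx : x ≠ 1) : centralizer ({x} : Set G) ≠ ⊤ := fun h => by
  have hx' : x ∈ center G := mem_center_iff.2 fun g =>
    mem_centralizer_singleton_iff.1 (h ▸ mem_top g)
  rcases IsSimpleGroup.eq_bot_or_eq_top_of_normal (center G) inferInstance with h1 | h1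
  · exact hx (by rwa [h1, mem_bot] at hx')
  · exact X.not_comm ⟨⟨fun a b => (mem_center_iff.1 (h1 ▸ mem_top b) a)⟩⟩

/-- `z` is conjugate to `u`. -/
theorem u_conj [IsSimpleGroup G] : IsConj (f zc) (f uc) := by
  classical
  by_contra hu
  have huz : ¬ IsConj (f zc) (f (mm uc zc)) := fun h => hu (h.trans (isConj_iff.2
    ⟨(f 1)⁻¹, by rw [← X.f1_cj.2.2.2.2]; group⟩))
  -- `z` is not isolated
  obtain ⟨a, haE, haV, hza⟩ : ∃ a ∈ X.subE, a ∉ X.subV ∧ IsConj (f zc) a := by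
    by_contra! hno
    have hiso : ∀ g : G, g * f zc * g⁻¹ ∈ (S : Subgroup G) → g * f zc * g⁻¹ = f zc := by
      intro g hg
      obtain ⟨c, hc⟩ := X.tab.surj _ hg
      have hconj : IsConj (f zc) (f c) := hc ▸ isConj_iff.2 ⟨g, rfl⟩
      have hc2 : JankoSylow.sq c = 0 := by
        rw [← X.tab.sq_eq_one_iff, hc]; exact SylL34.conj_sq _ _ X.tab.z_sq
      have hc0 : c ≠ 0 := by
        rintro rfl
        rw [X.tab.map_zero] at hc
        exact X.tab.z_ne (conj_eq_one_iff.1 hc.symm)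
      by_cases hz : c = zc
      · rw [← hc, hz]
      exfalso
      by_cases hQ : IQ c
      · obtain ⟨m, -, hm⟩ := X.sing_conj ⟨hQ, hc2, hc0, hz⟩
        exact hu (hconj.trans (isConj_iff.2 ⟨m⁻¹, by rw [← hm]; group⟩))
      have hA : IA c := by_contra fun h => hQ (invol_out c hc2 h)
      rcases out_side c ⟨hA, hQ, hc2⟩ with h | h
      · exact hno _ (X.mem_E_code.2 h) (fun hV => hQ ((by decide +kernel : ∀ c, IZA c → IQ c) c (X.mem_V_code.1 hV))) hconj
      · refine hno _ (show f 1 * f c * (f 1)⁻¹ ∈ X.subE from X.f1_cj.2.1 ▸ conj_mem_cj.2 ⟨c, h, rfl⟩)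
          (fun hV => hQ ((by decide +kernel : ∀ c, IZA c → IQ c) c (X.mem_V_code.1 ?_)))
          (hconj.trans (isConj_iff.2 ⟨f 1, rfl⟩))
        rw [← X.f1_cj.2.2.1] at hV
        exact conj_mem_cj.1 hV
    obtain ⟨N, hN, hNodd, hc⟩ := ZStar.zstar_of_sylow S (X.ord_two z_codes.2.2.2.2.2.2.2.2.2 (by decide)) hiso
    refine X.cent_ne_top X.tab.z_ne (eq_top_iff.2 fun g _ => mem_centralizer_singleton_iff.2 ?_)
    have h1 := le_ocore hN hNodd (hc g)
    rw [X.oddCore_eq_bot, mem_bot] at h1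
    calc g * f zc = (f zc * g * (f zc)⁻¹ * g⁻¹)⁻¹ * (f zc * g) := by group
      _ = f zc * g := by rw [h1]; group
  obtain ⟨n, hn, hna⟩ := X.norm_conj haE hza
  letI : CommGroup X.subE :=
    { (inferInstance : Group X.subE) with mul_comm := fun x y => Subtype.ext (X.E_comm x.2 y.2) }
  haveI : Fintype X.subE := Fintype.ofFinite _
  set O : Finset X.subE := Finset.univ.filter fun x => ∃ m, cj m X.subE = X.subE ∧ m * f zc * m⁻¹ = (x : G)
  have hO : ∀ x : X.subE, x ∈ O ↔ ∃ m, cj m X.subE = X.subE ∧ m * f zc * m⁻¹ = (x : G) := fun x => by simp [O]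
  set zE : X.subE := ⟨f zc, X.V_le_E X.z_mem⟩
  have hzO : zE ∈ O := (hO _).2 ⟨1, cj_one _, by simp [zE]⟩
  set R := O.erase zE
  have hRV : ∀ x ∈ R, (x : G) ∉ X.subV := by
    intro x hx hV
    obtain ⟨hne, hxO⟩ := Finset.mem_erase.1 hx
    obtain ⟨m, -, hm⟩ := (hO x).1 hxO
    obtain ⟨c, hc, e⟩ := hV
    have hxc : IsConj (f zc) (f c) := e ▸ hm ▸ isConj_iff.2 ⟨m, rfl⟩
    rcases hc with rfl | rfl | rfl | rfl
    · rw [X.tab.map_zero] at hxc
      exact X.tab.z_ne (isConj_one_left.1 hxc)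
    · exact hne (Subtype.ext e.symm)
    · exact hu hxc
    · exact huz hxc
  set Vs : Subgroup X.subE := X.subV.subgroupOf X.subE
  have hRinv : ∀ x ∈ R, ∀ w ∈ Vs, x * w ∈ R := by
    intro x hx w hw
    have hxV := hRV x hx
    obtain ⟨cx, hcx, ex⟩ := x.2
    obtain ⟨cw, hcw, ew⟩ := (show (w : G) ∈ X.subV from hw)
    have hout := com32_out cx hcx (fun h => hxV (ex ▸ X.mem_V_code.2 h))
    obtain ⟨t, htA, ht⟩ := cent_a_coset cx cw hout.1 hout.2.1 hout.2.2 hcw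
    have htn : cj (f t) X.subE = X.subE :=
      cj_of_mem_normalizer (X.tab.subA_normalizes (com32_sq 32 (by decide)).2 (by decide)
        (com32_sq 32 (by decide)).1 ⟨t, htA, rfl⟩)
    obtain ⟨m, hmE, hm⟩ := (hO x).1 (Finset.mem_erase.1 hx).2
    refine Finset.mem_erase.2 ⟨fun e => hxV ?_, (hO _).2 ⟨f t * m, by rw [← cj_cj, hmE, htn], ?_⟩⟩
    · have : (x : G) = f zc * (w : G)⁻¹ := by
        rw [eq_mul_inv_iff_mul_eq]
        exact congrArg Subtype.val e
      rw [this]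
      exact mul_mem X.z_mem (inv_mem hw)
    · rw [Subgroup.coe_mul, ← ex, ← ew, ← X.tab.mul, ← ht, ← X.tab.map_conj]
      rw [show f t * m * f zc * (f t * m)⁻¹ = f t * (m * f zc * m⁻¹) * (f t)⁻¹ by group, hm, ex]
  have hprod : ∏ x ∈ R, x = 1 := by
    rw [← Finset.prod_fiberwise R (fun x : X.subE => (QuotientGroup.mk x : X.subE ⧸ Vs)) fun x => x]
    refine Finset.prod_eq_one fun q _ => ?_
    by_cases hne : (R.filter fun x : X.subE => (QuotientGroup.mk x : X.subE ⧸ Vs) = q).Nonempty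
    swap
    · rw [Finset.not_nonempty_iff_eq_empty.1 hne, Finset.prod_empty]
    obtain ⟨x, hx⟩ := hne
    rw [Finset.mem_filter] at hx
    haveI : Fintype Vs := Fintype.ofFinite _
    have heq : (R.filter fun y : X.subE => (QuotientGroup.mk y : X.subE ⧸ Vs) = q) =
        (Finset.univ : Finset Vs).image (fun w : Vs => x * (w : X.subE)) := by
      ext y
      simp only [Finset.mem_filter, Finset.mem_image, Finset.mem_univ, true_and]
      constructor
      · rintro ⟨-, hy⟩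
        exact ⟨⟨x⁻¹ * y, QuotientGroup.eq.1 (hx.2.trans hy.symm)⟩, by simp⟩
      · rintro ⟨w, rfl⟩
        exact ⟨hRinv x hx.1 w w.2, by rw [QuotientGroup.mk_mul_of_mem x w.2, hx.2]⟩
    rw [heq, Finset.prod_image (fun a _ b _ h => Subtype.ext (mul_left_cancel h)), Finset.prod_mul_distrib,
      Finset.prod_const, Finset.card_univ, ← Nat.card_eq_fintype_card]
    have hc4 : Nat.card Vs = 4 :=
      (Nat.card_congr (subgroupOfEquivOfLe X.V_le_E).toEquiv).trans X.tab.card_subZA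
    rw [hc4, show x ^ 4 = 1 from Subtype.ext (by
      rw [SubgroupClass.coe_pow, show (4 : ℕ) = 2 * 2 from rfl, pow_mul, pow_two (x : G), X.E_sq _ x.2, one_pow]
      rfl), one_mul]
    set z' : Vs := ⟨zE, X.z_mem⟩
    set u' : Vs := ⟨⟨f uc, X.V_le_E X.u_mem⟩, X.u_mem⟩
    have huniv : (Finset.univ : Finset Vs) = {1, z', u', u' * z'} := by
      ext w
      simp only [Finset.mem_univ, true_iff, Finset.mem_insert, Finset.mem_singleton]
      obtain ⟨c, hc, e⟩ := (show ((w : X.subE) : G) ∈ X.subV from w.2)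
      rcases hc with rfl | rfl | rfl | rfl
      · exact Or.inl (Subtype.ext (Subtype.ext (e.symm.trans X.tab.map_zero)))
      · exact Or.inr (Or.inl (Subtype.ext (Subtype.ext e.symm)))
      · exact Or.inr (Or.inr (Or.inl (Subtype.ext (Subtype.ext e.symm))))
      · refine Or.inr (Or.inr (Or.inr (Subtype.ext (Subtype.ext (e.symm.trans ?_)))))
        show f (mm uc zc) = f uc * f zc
        rw [X.tab.mul]
    have hinj : ∀ {c d : Fin 128}, c ≠ d → f c ≠ f d := fun h e => h (X.tab.inj e)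
    have e1 : (1 : Vs) ≠ z' := fun e => X.tab.z_ne (congrArg (fun w : Vs => ((w : X.subE) : G)) e).symm
    have e2 : (1 : Vs) ≠ u' := fun e => hinj (c := uc) (d := 0) (by decide)
      ((congrArg (fun w : Vs => ((w : X.subE) : G)) e).symm.trans X.tab.map_zero.symm)
    have e3 : z' ≠ u' := fun e => hinj (c := zc) (d := uc) (by decide) (congrArg (fun w : Vs => ((w : X.subE) : G)) e)
    have e4 : (1 : Vs) ≠ u' * z' := fun e => e3 (by
      have h := eq_inv_of_mul_eq_one_left e.symm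
      rw [h]
      exact Subtype.ext (Subtype.ext (inv_eq_of_sq X.tab.z_sq).symm))
    have e5 : z' ≠ u' * z' := fun e => e2 (right_eq_mul.1 e).symm
    have e6 : u' ≠ u' * z' := fun e => e1 (left_eq_mul.1 e).symm
    rw [huniv, Finset.prod_insert (by simp [e1, e2, e4]), Finset.prod_insert (by simp [e3, e5]),
      Finset.prod_insert (by simp [e6]), Finset.prod_singleton]
    refine Subtype.ext ?_
    show (1 : G) * (f zc * (f uc * (f uc * f zc))) = 1
    rw [← mul_assoc (f uc), (X.tab.sq_eq_one_iff uc).2 z_codes.2.2.2.2.2.2.2.2.1, one_mul, one_mul, X.tab.z_sq]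
  have hprodO : ∏ x ∈ O, x = zE := by
    rw [← Finset.mul_prod_erase O (fun x => x) hzO]
    show zE * ∏ x ∈ R, x = zE
    rw [hprod, mul_one]
  -- the conjugation by `n` fixes the product
  have hmem : ∀ x : X.subE, n * (x : G) * n⁻¹ ∈ X.subE := fun x => hn.le (conj_mem_cj.2 x.2)
  let φ : X.subE →* X.subE :=
    { toFun := fun x => ⟨n * (x : G) * n⁻¹, hmem x⟩
      map_one' := Subtype.ext (by simp)
      map_mul' := fun x y => Subtype.ext (by
        show n * ((x : G) * y) * n⁻¹ = n * x * n⁻¹ * (n * y * n⁻¹)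
        group) }
  have hφinj : Function.Injective φ := fun x y e => Subtype.ext
    ((MulAut.conj n).injective (congrArg Subtype.val e))
  have himg : O.image φ = O := by
    refine Finset.eq_of_subset_of_card_le ?_ (by rw [Finset.card_image_of_injective _ hφinj])
    intro y hy
    obtain ⟨x, hx, rfl⟩ := Finset.mem_image.1 hy
    obtain ⟨m, hmE, hm⟩ := (hO x).1 hx
    refine (hO _).2 ⟨n * m, by rw [← cj_cj, hmE, hn], ?_⟩
    show n * m * f zc * (n * m)⁻¹ = n * (x : G) * n⁻¹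
    rw [← hm]; group
  have hfix : φ zE = zE := by
    conv_lhs => rw [← hprodO]
    rw [map_prod, ← Finset.prod_image (s := O) (g := φ) (f := fun x => x) (fun a _ b _ h => hφinj h), himg, hprodO]
  refine haV ?_
  rw [← hna, show n * f zc * n⁻¹ = f zc from congrArg Subtype.val hfix]
  exact X.z_mem

/-- An element moving `z` to `u` and normalising `A`, `V`. -/
theorem exists_rot [IsSimpleGroup G] : (∃ n, cj n X.subE = X.subE ∧ cj n X.subV = X.subV ∧ n * f zc * n⁻¹ = f uc) ∧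
    ∃ n, cj n X.subE = X.subE ∧ cj n X.subV = X.subV ∧ n * f zc * n⁻¹ = f (mm uc zc) := by
  obtain ⟨g, hg⟩ := isConj_iff.1 X.u_conj.symm
  set B := X.tab.subC 35
  set T := X.tab.subA
  have hTu : T ≤ centralizer ({f uc} : Set G) := by
    rintro _ ⟨c, hc, rfl⟩
    exact mem_centralizer_singleton_iff.2 ((X.tab.comm_iff c uc).2 hc)
  have hgT : cj g T ≤ centralizer ({f zc} : Set G) := by
    rw [← hg, ← cj_centralizer]; exact map_mono hTu
  obtain ⟨k, hk⟩ := exists_cj_le (S.subtype X.S_le_cent) (P := (cj g T).subgroupOf _)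
    (((show IsPGroup 2 T from S.2.to_le X.tab.sub_le).map _).comap_subtype)
  set h := (k : G) * g
  have hle : cj h T ≤ (S : Subgroup G) := by
    rw [← cj_cj]
    intro y hy
    have h0 := mem_cj.1 hy
    have hyC : y ∈ centralizer ({f zc} : Set G) := by
      have := mul_mem (mul_mem k.2 (hgT h0)) (inv_mem k.2)
      rwa [show (k : G) * ((k : G)⁻¹ * y * k) * (k : G)⁻¹ = y by group] at this
    exact hk ((mem_cj (g := k) (x := (⟨y, hyC⟩ : ↥(centralizer ({f zc} : Set G))))).2 h0)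
  have hB35 : B ≤ T := by rintro _ ⟨c, hc, rfl⟩; exact ⟨c, dat_facts.2.1 c hc, rfl⟩
  have hE32 : X.subE ≤ T := by rintro _ ⟨c, hc, rfl⟩; exact ⟨c, dat_facts.1 c hc, rfl⟩
  have hBsq : ∀ x ∈ B, x * x = 1 := by
    rintro _ ⟨c, hc, rfl⟩; exact (X.tab.sq_eq_one_iff c).2 (dat_facts.2.2.2.1 c hc)
  have hB16 : Nat.card B = 16 := by
    rw [X.tab.card_sub]; decide +kernel
  have hclass : ∀ D : Subgroup G, D ≤ T → (∀ x ∈ D, x * x = 1) → Nat.card D = 16 →
      cj h D = X.subE ∨ cj h D = B := by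
    intro D hD hsq h16
    obtain ⟨a, hA, hQ, hs, hE⟩ := X.tab.sixteen ((map_mono hD).trans hle) (cj_sq hsq) ((card_cj h D).trans h16)
    exact (X.tab.subC_class hA hQ hs).imp (fun e => hE.trans e) (fun e => hE.trans e)
  have hne : X.subE ≠ B := fun e => by
    have h1 := (X.mem_E_code (c := 35)).1 (e.ge ⟨35, by decide, rfl⟩)
    exact absurd h1 (by decide)
  have hTeq : cj h T = T := by
    refine (eq_of_le_of_card_ge ?_ (card_cj h T).le).symm
    rintro _ ⟨c, hc, rfl⟩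
    obtain ⟨a, b, ha, hb, rfl⟩ := ia_ab c hc
    rw [X.tab.mul]
    have hmap : ∀ {D : Subgroup G}, D ≤ T → cj h D ≤ cj h T := fun hD => map_mono hD
    have hE' := hclass X.subE hE32 X.E_sq X.E_card
    have hB' := hclass B hB35 hBsq hB16
    have hne' : cj h X.subE ≠ cj h B := fun e => hne (cj_injective e)
    rcases hE' with e | e <;> rcases hB' with e' | e'
    · exact absurd (e.trans e'.symm) hne'
    · exact mul_mem (hmap hE32 (e.ge ⟨a, ha, rfl⟩)) (hmap hB35 (e'.ge ⟨b, hb, rfl⟩))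
    · exact mul_mem (hmap hB35 (e'.ge ⟨a, ha, rfl⟩)) (hmap hE32 (e.ge ⟨b, hb, rfl⟩))
    · exact absurd (e.trans e'.symm) hne'
  have hV : cj h X.subV = X.subV := by
    refine cj_eq_of_conj_mem ?_
    rintro _ ⟨c, hc, rfl⟩
    obtain ⟨d, hd, e⟩ := hTeq.le (conj_mem_cj.2 (show f c ∈ T from ⟨c, (dat_facts.2.2.2.2.2.2 c hc uc (by decide)), rfl⟩))
    refine ⟨d, (iza_iff d).2 ⟨hd, fun b hb => (X.tab.comm_iff d b).1 ?_⟩, e⟩
    obtain ⟨-, ⟨b', hb', rfl⟩, eb⟩ := hTeq.ge (show f b ∈ T from ⟨b, hb, rfl⟩)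
    change h * f b' * h⁻¹ = f b at eb
    rw [e, ← eb]
    calc h * f c * h⁻¹ * (h * f b' * h⁻¹) = h * (f c * f b') * h⁻¹ := by group
      _ = _ := by rw [(X.tab.comm_iff c b').2 (dat_facts.2.2.2.2.2.2 c hc b' hb')]; group
  have hhz : h * f uc * h⁻¹ = f zc := by
    rw [show h * f uc * h⁻¹ = (k : G) * (g * f uc * g⁻¹) * (k : G)⁻¹ by simp only [h, mul_inv_rev, mul_assoc], hg,
      mem_centralizer_singleton_iff.1 k.2, mul_inv_cancel_right]
  obtain ⟨h', hh'E, hh'B, hh'V, hh'z⟩ : ∃ h', cj h' X.subE = X.subE ∧ cj h' B = B ∧ cj h' X.subV = X.subV ∧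
      h' * f uc * h'⁻¹ = f zc := by
    obtain ⟨hf1, hf1', hfV, hfz, -⟩ := X.f1_cj
    rcases hclass X.subE hE32 X.E_sq X.E_card with e | e <;> rcases hclass B hB35 hBsq hB16 with e' | e'
    · exact absurd (cj_injective (e.trans e'.symm)) hne
    · exact ⟨h, e, e', hV, hhz⟩
    · refine ⟨f 1 * h, by rw [← cj_cj, e, hf1'], by rw [← cj_cj, e', hf1], by rw [← cj_cj, hV, hfV], ?_⟩
      rw [show f 1 * h * f uc * (f 1 * h)⁻¹ = f 1 * (h * f uc * h⁻¹) * (f 1)⁻¹ by group, hhz, hfz]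
    · exact absurd (cj_injective (e.trans e'.symm)) hne
  have hn : h'⁻¹ * f zc * h'⁻¹⁻¹ = f uc := by rw [← hh'z]; group
  refine ⟨⟨h'⁻¹, ?_, ?_, hn⟩, f 1 * h'⁻¹ * f 1, ?_, ?_, ?_⟩
  · conv_lhs => rw [← hh'E, cj_inv_cj]
  · conv_lhs => rw [← hh'V, cj_inv_cj]
  · rw [← cj_cj, ← cj_cj, X.f1_cj.1, show cj h'⁻¹ (X.tab.subC 35) = X.tab.subC 35 by
      conv_lhs => rw [show X.tab.subC 35 = cj h' B from hh'B.symm, cj_inv_cj], X.f1_cj.2.1]
  · rw [← cj_cj, ← cj_cj, X.f1_cj.2.2.1, show cj h'⁻¹ X.subV = X.subV by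
      conv_lhs => rw [← hh'V, cj_inv_cj], X.f1_cj.2.2.1]
  · rw [show f 1 * h'⁻¹ * f 1 * f zc * (f 1 * h'⁻¹ * f 1)⁻¹ =
      f 1 * (h'⁻¹ * (f 1 * f zc * (f 1)⁻¹) * h'⁻¹⁻¹) * (f 1)⁻¹ by group, X.f1_cj.2.2.2.1, hn, X.f1_cj.2.2.2.2]

end Ctx

end CfsgLib.JankoType
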