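import Cfsg.Agent.JankoType.Local
import Cfsg.Agent.SylL34.CaseI
import Cfsg.Agent.LocalB.OddSignalizer

/-!
A subgroup containing the Sylow 2-subgroup with a normal subgroup of index two containing `A` and no fusion
of `A` into its centre: the odd core of an involution of the centre of `A` lies in the odd core.
-/

set_option autoImplicit false
set_option linter.unusedSectionVars false
set_option linter.style.haveILetI false
set_option linter.unusedVariables false
set_option maxRecDepth 100000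

namespace CfsgLib.JankoType

open Subgroup CfsgLib.SylL34 CfsgLib.JankoSylow

theorem side_codes : (∀ e : Fin 128, Com e 32 → ¬ Com e 35 → ¬ IQ e) ∧
    (∀ e : Fin 128, Com e 35 → ¬ Com e 32 → ¬ IQ e) := by decide +kernel

variable {G : Type*} [Group G] [Finite G]

/-- The odd core of a normal subgroup lies in the odd core. -/
theorem ocore_map_le (N : Subgroup G) [hN : N.Normal] : (Cfsg.oddCore N).map N.subtype ≤ Cfsg.oddCore G := by
  refine le_ocore (normalizer_eq_top_iff.1 (top_le_iff.1 ?_))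
    (by rw [card_map_of_injective N.subtype_injective]; exact ocore_odd)
  exact (normalizer_eq_top_iff.2 hN).ge.trans (LocalBalance.normalizer_le_normalizer_core (p := 2) N)

/-- An odd subgroup normalised by a normal Sylow 2-subgroup lies in the odd core. -/
theorem le_ocore_of_normal_sylow (P : Sylow 2 G) (hP : (P : Subgroup G).Normal) {K : Subgroup G}
    (hK : Odd (Nat.card K)) (hn : (P : Subgroup G) ≤ normalizer (K : Set G)) : K ≤ Cfsg.oddCore G := by
  haveI : Fact (Nat.Prime 2) := ⟨Nat.prime_two⟩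
  set C := centralizer ((P : Subgroup G) : Set G) with hC
  haveI hCn : C.Normal := normalizer_eq_top_iff.1 (eq_top_iff.2 fun g _ => by
    refine mem_normalizer_of_conj_mem fun c hc => ?_
    rw [hC, mem_centralizer_iff] at hc ⊢
    intro y hy
    have h := hc (g⁻¹ * y * g⁻¹⁻¹) (hP.conj_mem y hy g⁻¹)
    rw [inv_inv] at h
    calc y * (g * c * g⁻¹) = g * (g⁻¹ * y * g * c) * g⁻¹ := by group
      _ = g * (c * (g⁻¹ * y * g)) * g⁻¹ := by rw [h]
      _ = _ := by group)
  have hKC : K ≤ C := by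
    intro k hk
    rw [hC, mem_centralizer_iff]
    intro y hy
    have h1 : y * k * y⁻¹ * k⁻¹ ∈ K := mul_mem (conj_mem_of_normalizer (hn hy) hk) (inv_mem hk)
    have h2 : y * k * y⁻¹ * k⁻¹ ∈ (P : Subgroup G) := by
      rw [show y * k * y⁻¹ * k⁻¹ = y * (k * y⁻¹ * k⁻¹) by group]
      exact mul_mem hy (hP.conj_mem _ (inv_mem hy) k)
    have h3 := inf_eq_bot_of_odd hK P.2 h1 h2
    rwa [mul_inv_eq_one, mul_inv_eq_iff_eq_mul] at h3
  obtain ⟨Q⟩ : Nonempty (Sylow 2 C) := inferInstance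
  have hQP : ∀ q ∈ (Q : Subgroup C), ((q : C) : G) ∈ (P : Subgroup G) := fun q hq => by
    obtain ⟨k, hk⟩ := Q.2 ⟨q, hq⟩
    refine mem_of_two (k := k) ?_ (normalizer_eq_top_iff.2 hP ▸ mem_top _)
    exact congrArg (fun t : (Q : Subgroup C) => ((t : C) : G)) hk
  obtain ⟨-, h2⟩ := twoNil Q fun n _ => mem_centralizer_iff.2 fun q hq => Subtype.ext
    (mem_centralizer_iff.1 n.2 _ (hQP q hq))
  intro k hk
  refine ocore_map_le C ⟨⟨k, hKC hk⟩, h2 _ ?_, rfl⟩
  rw [← orderOf_coe]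
  exact odd_orderOf_of_mem hK hk

/-- The odd core of an involution of the centre of `A` lies in the odd core. -/
theorem Oc_inf_le_core {S : Sylow 2 G} {f : Fin 128 → G} (X : Ctx S f) {M : Subgroup G}
    (hS : (S : Subgroup G) ≤ M) (H : Subgroup M) [H.Normal] (hH : H.index = 2)
    (hT : ∀ c, IA c → ∀ h : f c ∈ M, (⟨f c, h⟩ : M) ∈ H)
    (hfus : ∀ a v : Fin 128, IA a → ¬ IQ a → JankoSylow.sq a = 0 → IZA v → v ≠ 0 → ¬ IsConj (f a) (f v))
    {v : Fin 128} (hv : IZA v) (hv0 : v ≠ 0) : Oc (f v) ⊓ M ≤ (Cfsg.oddCore M).map M.subtype := by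
  haveI : Fact (Nat.Prime 2) := ⟨Nat.prime_two⟩
  set ι : H →* G := M.subtype.comp H.subtype with hι
  have hιinj : Function.Injective ι := M.subtype_injective.comp H.subtype_injective
  have hlift : ∀ c, IA c → ∃ x : H, ι x = f c := fun c hc =>
    ⟨⟨⟨f c, hS (X.tab.mem c)⟩, hT c hc _⟩, rfl⟩
  have hcard : ∀ Y : Subgroup G, Y ≤ X.tab.subA → Nat.card (Y.comap ι) = Nat.card Y := by
    intro Y hY
    rw [← card_map_of_injective (K := Y.comap ι) hιinj, map_comap_eq_self]
    intro y hy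
    obtain ⟨c, hc, rfl⟩ := hY hy
    exact hlift c hc
  have hAle : X.tab.subC 32 ≤ X.tab.subA := by
    rintro _ ⟨c, hc, rfl⟩; exact ⟨c, dat_facts.1 c hc, rfl⟩
  have hBle : X.tab.subC 35 ≤ X.tab.subA := by
    rintro _ ⟨c, hc, rfl⟩; exact ⟨c, dat_facts.2.1 c hc, rfl⟩
  -- `A` is a Sylow subgroup of `H`
  obtain ⟨P, hP⟩ := ((S.2.to_le X.tab.sub_le).comap_of_injective ι hιinj (H := X.tab.subA)).exists_le_sylow
  have hPeq : (P : Subgroup H) = X.tab.subA.comap ι := by
    refine (eq_of_le_of_card_ge hP (le_of_eq ?_)).symm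
    rw [hcard _ le_rfl, X.tab.card_subA]
    have h1 : Nat.card (S.subtype hS : Subgroup M) = 128 := by
      rw [Sylow.coe_subtype, Nat.card_congr (subgroupOfEquivOfLe hS).toEquiv, X.tab.card_eq]
    rw [Sylow.card_eq_multiplicity, ← H.card_mul_index, hH,
      Nat.factorization_mul Nat.card_pos.ne' (by norm_num)] at h1
    rw [P.card_eq_multiplicity]
    simp [Nat.prime_two.factorization, pow_succ] at h1
    omega
  set A' := (X.tab.subC 32).comap ι
  set B' := (X.tab.subC 35).comap ι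
  have hmem : ∀ x : H, x ∈ A' ⊓ B' → ∃ c, IZA c ∧ f c = ι x := by
    rintro x ⟨⟨c, hc, e⟩, ⟨d, hd, e'⟩⟩
    obtain rfl := X.tab.inj (e.trans e'.symm)
    exact ⟨c, (dat_facts.2.2.2.2.1 c).1 ⟨hc, hd⟩, e⟩
  have D : SylL34.Dat P A' B' := by
    refine ⟨?_, ?_, fun x hx => hιinj ?_, fun x hx => hιinj ?_, ?_, ?_, ?_, ?_, ?_, ?_, ?_⟩
    · rw [hPeq]; exact comap_mono hAle
    · rw [hPeq]; exact comap_mono hBle
    · rw [map_mul, map_one]
      exact X.tab.subC_elem (a := 32) (by decide +kernel) (by decide) (by decide +kernel) _ hx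
    · rw [map_mul, map_one]
      exact X.tab.subC_elem (a := 35) (by decide +kernel) (by decide) (by decide +kernel) _ hx
    · rw [hcard _ hAle, X.tab.card_subC_a (a := 32) (by decide +kernel) (by decide) (by decide +kernel)]
    · rw [hcard _ hBle, X.tab.card_subC_a (a := 35) (by decide +kernel) (by decide) (by decide +kernel)]
    · rw [show A' ⊓ B' = (X.tab.subC 32 ⊓ X.tab.subC 35).comap ι from rfl,
        hcard _ (inf_le_left.trans hAle), show X.tab.subC 32 ⊓ X.tab.subC 35 = X.tab.subZA from ?_,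
        X.tab.card_subZA]
      ext x
      constructor
      · rintro ⟨⟨c, hc, rfl⟩, ⟨d, hd, e⟩⟩
        obtain rfl := X.tab.inj e
        exact ⟨d, (dat_facts.2.2.2.2.1 d).1 ⟨hc, hd⟩, rfl⟩
      · rintro ⟨c, hc, rfl⟩
        exact ⟨⟨c, ((dat_facts.2.2.2.2.1 c).2 hc).1, rfl⟩, ⟨c, ((dat_facts.2.2.2.2.1 c).2 hc).2, rfl⟩⟩
    · rw [hPeq, hcard _ le_rfl, X.tab.card_subA]
    · intro x hx h
      rw [hPeq] at hx
      obtain ⟨c, hc, e⟩ := hx
      have hc0 : JankoSylow.sq c = 0 := (X.tab.sq_eq_one_iff c).1 (by rw [e, ← map_mul, h, map_one])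
      exact (dat_facts.2.2.2.2.2.1 c hc hc0).imp (fun h => ⟨c, h, e⟩) (fun h => ⟨c, h, e⟩)
    · intro w hw x hx
      obtain ⟨c, hc, e⟩ := hmem w hw
      rw [hPeq] at hx
      obtain ⟨d, hd, e'⟩ := hx
      refine hιinj ?_
      rw [map_mul, map_mul, ← e, ← e']
      exact (X.tab.comm_iff c d).2 (dat_facts.2.2.2.2.2.2 c hc d hd)
    · rintro a ⟨c, hc, e⟩ haB b ⟨d, hd, e'⟩ hab
      refine ⟨d, dat_self c hc (fun h => haB ⟨c, h, e⟩) d hd ((X.tab.comm_iff c d).1 ?_), e'⟩
      rw [e, e', ← map_mul, ← map_mul, hab]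
  have hne : ∀ {E F : Fin 128}, (∀ e, Com e E → ¬ Com e F → ¬ IQ e) → (∀ e, Com e E → IA e) →
      (∀ e, Com e E → JankoSylow.sq e = 0) → (∀ e, Com e E ∧ Com e F → IZA e) →
      ¬ Fus ((X.tab.subC E).comap ι) ((X.tab.subC F).comap ι) := by
    rintro E F hq hia hsq hz ⟨a, ⟨c, hc, e⟩, haB, w, ⟨⟨d, hd, e'⟩, ⟨d', hd', e''⟩⟩, hconj⟩
    obtain rfl := X.tab.inj (e'.trans e''.symm)
    have hcF : ¬ Com c F := fun h => haB ⟨c, h, e⟩
    refine hfus c d (hia c hc) (hq c hc hcF) (hsq c hc) (hz d ⟨hd, hd'⟩) (fun h0 => ?_)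
      (by rw [e, e']; exact ι.map_isConj hconj)
    have hw1 : w = 1 := hιinj (by rw [← e', h0, X.tab.map_zero, map_one])
    rw [hw1, isConj_one_left] at hconj
    exact haB (hconj ▸ one_mem _)
  have hA : ¬ Fus A' B' := hne side_codes.1 dat_facts.1 dat_facts.2.2.1 fun e h => (dat_facts.2.2.2.2.1 e).1 h
  have hB : ¬ Fus B' A' := hne side_codes.2 dat_facts.2.1 dat_facts.2.2.2.1
    fun e h => (dat_facts.2.2.2.2.1 e).1 h.symm
  -- the quotient by the odd core of `H`
  haveI : (Cfsg.oddCore H).Normal := ocore_normal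
  set π := QuotientGroup.mk' (Cfsg.oddCore H) with hπ
  have hπs : Function.Surjective π := QuotientGroup.mk'_surjective _
  have hker : Odd (Nat.card π.ker) := by rw [QuotientGroup.ker_mk']; exact ocore_odd
  have hnorm := (D.map hπs hker).caseI (D.not_fus_map hπs hker hA) (D.symm.not_fus_map hπs hker hB)
    LocalB.oddCore_quotient
  -- the odd subgroup
  intro y hy
  have hyodd : Odd (orderOf y) := odd_orderOf_of_mem (Oc_odd _) hy.1
  have hyH : (⟨y, hy.2⟩ : M) ∈ H := by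
    have hodd : Odd (orderOf (⟨y, hy.2⟩ : M)) := by rw [← orderOf_coe]; exact hyodd
    obtain ⟨j, hj⟩ := hodd
    set m : M := ⟨y, hy.2⟩
    have h1 : m = ((m * m) ^ j)⁻¹ :=
      eq_inv_of_mul_eq_one_left (by rw [← pow_two, ← pow_mul, ← pow_succ', ← hj, pow_orderOf_eq_one])
    exact h1.symm ▸ inv_mem (pow_mem (mul_self_mem_of_index_two hH _) j)
  set K := (Oc (f v)).comap ι
  have hKodd : Odd (Nat.card K) := by
    refine (Oc_odd (f v)).of_dvd_nat ?_
    rw [← card_map_of_injective (K := K) hιinj]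
    exact card_dvd_of_le (map_comap_le _ _)
  have hKn : (P : Subgroup H) ≤ normalizer (K : Set H) := by
    rw [hPeq]
    rintro x ⟨c, hc, e⟩
    refine mem_normalizer_of_conj_mem fun k hk => ?_
    show ι (x * k * x⁻¹) ∈ Oc (f v)
    rw [map_mul, map_mul, map_inv, ← e]
    exact conj_mem_of_normalizer (cent_le_normalizer_Oc _ (mem_centralizer_singleton_iff.2
      ((X.tab.comm_iff c v).2 (((iza_iff v).1 hv).2 c hc).symm))) hk
  have hle : K.map π ≤ Cfsg.oddCore (H ⧸ Cfsg.oddCore H) :=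
    le_ocore_of_normal_sylow (P.mapSurjective hπs) (normalizer_eq_top_iff.1 hnorm)
      (hKodd.of_dvd_nat (card_map_dvd _ π))
      ((map_mono hKn).trans (le_normalizer_map π))
  have hcore : (⟨⟨y, hy.2⟩, hyH⟩ : H) ∈ Cfsg.oddCore H := by
    rw [LocalB.oddCore_quotient, le_bot_iff, Subgroup.map_eq_bot_iff, QuotientGroup.ker_mk'] at hle
    exact hle hy.1
  exact ⟨⟨y, hy.2⟩, ocore_map_le H ⟨_, hcore, rfl⟩, rfl⟩

end CfsgLib.JankoType
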