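import Cfsg.Agent.JankoType.Local
import Cfsg.Agent.Monster.ExtraBasics
import Cfsg.Agent.S1658
import Cfsg.Agent.S1665

/-!
The identification when the centralizer of the central involution has trivial core.
-/

set_option autoImplicit false
set_option linter.unusedSectionVars false
set_option linter.style.haveILetI false
set_option maxRecDepth 100000

namespace CfsgLib.JankoType

open Subgroup CfsgLib.SylL34 CfsgLib.JankoSylow

theorem iso_codes : (∀ a b : Fin 128, IQ a → IQ b → Eqz (mm (mm (mm a b) (inv a)) (inv b)) 0) ∧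
    (∀ a : Fin 128, IQ a → Eqz (mm a a) 0) ∧ mm 1 2 ≠ mm 2 1 ∧
    (∀ i j : Fin 5, ∀ d : Fin 128, Eqz d (bc j) → d = bc i → j = i) ∧ Eqz zc 0 ∧ IQ zc ∧ zc ≠ 0 := by
  decide +kernel

/-- With trivial core the centralizer is that of the Hall–Janko group and the third Janko group. -/
theorem iso_of_core_trivial {G : Type*} [Group G] [Finite G] [IsSimpleGroup G] {S : Sylow 2 G}
    {f : Fin 128 → G} (X : Ctx S f) (hO : Oc (f zc) = ⊥)
    (hcl : (∀ x y : G, orderOf x = 2 → orderOf y = 2 → IsConj x y) ∨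
      ∃ x y : G, orderOf x = 2 ∧ orderOf y = 2 ∧ ¬ IsConj x y ∧
        ∀ w : G, orderOf w = 2 → IsConj w x ∨ IsConj w y) :
    Cfsg.Spor.IsoJ2 G ∨ Cfsg.Spor.IsoJ3 G := by
  classical
  haveI : Fact (Nat.Prime 2) := ⟨Nat.prime_two⟩
  set C := centralizer ({f zc} : Set G)
  obtain ⟨η, E⟩ : ∃ η : C →* Equiv.Perm (Fin 5), EtaSpec f η := X.exists_eta
  have hT := X.tab
  have hker : ∀ c : C, c ∈ η.ker ↔ ∃ q, IQ q ∧ f q = (c : G) := fun c => by
    rw [MonoidHom.mem_ker, E.ker]
    constructor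
    · rintro ⟨o, ho, q, hq, e⟩
      rw [hO, mem_bot] at ho
      exact ⟨q, hq, by rw [e, ho, one_mul]⟩
    · rintro ⟨q, hq, e⟩
      exact ⟨1, one_mem _, q, hq, by rw [e, one_mul]⟩
  set Q := η.ker
  let mk : ∀ q, IQ q → Q := fun q hq => ⟨⟨f q, X.mem_C q⟩, (hker _).2 ⟨q, hq, rfl⟩⟩
  have hsurj : ∀ a : Q, ∃ q, IQ q ∧ f q = ((a : C) : G) := fun a => (hker a).1 a.2
  have hcard : Nat.card Q = 32 := by
    rw [← hT.card_subQ]
    exact Nat.card_congr
      { toFun := fun a => ⟨((a : C) : G), hsurj a⟩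
        invFun := fun a => ⟨⟨(a : G), by obtain ⟨q, -, e⟩ := a.2; exact e ▸ X.mem_C q⟩, (hker _).2 a.2⟩
        left_inv := fun _ => rfl
        right_inv := fun _ => rfl }
  have hz : f zc ≠ 1 := hT.z_ne
  let zQ : Q := mk zc iso_codes.2.2.2.2.2.1
  have hcent : ∀ {a : Q}, a ∈ center Q ↔ a = 1 ∨ a = zQ := fun {a} => by
    constructor
    · intro ha
      obtain ⟨q, hq, e⟩ := hsurj a
      rcases cent_iq q (fun w hw => (hT.comm_iff q w).1 (by
        rw [e]
        exact (congrArg (fun x : Q => ((x : C) : G)) (mem_center_iff.1 ha (mk w hw))).symm)) with h | h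
      · exact Or.inl (Subtype.ext (Subtype.ext (by rw [← e, h, hT.map_zero]; rfl)))
      · exact Or.inr (Subtype.ext (Subtype.ext (by rw [← e, h])))
    · rintro (rfl | rfl)
      · exact one_mem _
      · exact mem_center_iff.2 fun b => Subtype.ext (Subtype.ext (mem_centralizer_singleton_iff.1 b.1.2))
  have hp : IsPGroup 2 Q := IsPGroup.of_card (n := 5) (by rw [hcard]; norm_num)
  have hzne : zQ ≠ 1 := fun e => hz (congrArg (fun x : Q => ((x : C) : G)) e)
  have hEqz : ∀ (a : Q) (q : Fin 128), f q = ((a : C) : G) → Eqz q 0 → a ∈ center Q := by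
    rintro a q e (h | h) <;> rw [h] at e
    · exact hcent.2 (Or.inl (Subtype.ext (Subtype.ext (by rw [← e, hT.map_zero]; rfl))))
    · exact hcent.2 (Or.inr (Subtype.ext (Subtype.ext (by rw [← e, (mm_one zc).2]))))
  have hQ : Cfsg.IsExtraspecial 2 Q := by
    refine Monster.isExtraspecial_of hp ?_ (fun a b => ?_) (fun a => ?_) ?_
    · refine (Nat.card_eq_two_iff' (1 : center Q)).2 ⟨⟨zQ, hcent.2 (Or.inr rfl)⟩,
        fun e => hzne (congrArg Subtype.val e), ?_⟩
      rintro ⟨a, ha⟩ hne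
      exact Subtype.ext ((hcent.1 ha).resolve_left fun e => hne (Subtype.ext e))
    · obtain ⟨p, hp', e⟩ := hsurj a
      obtain ⟨q, hq, e'⟩ := hsurj b
      refine hEqz _ (mm (mm (mm p q) (inv p)) (inv q)) ?_ (iso_codes.1 p q hp' hq)
      rw [hT.mul, hT.mul, hT.mul, hT.map_inv, hT.map_inv, e, e']
      rfl
    · obtain ⟨p, hp', e⟩ := hsurj a
      refine hEqz _ (mm p p) ?_ (iso_codes.2.1 p hp')
      rw [hT.mul, e]
      rfl
    · refine ⟨mk 1 (by decide), mk 2 (by decide), fun e => iso_codes.2.2.1 ((hT.comm_iff 1 2).1 ?_)⟩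
      exact congrArg (fun x : Q => ((x : C) : G)) e
  have hminus : ∀ A : Subgroup Q, Cfsg.IsElementaryAbelian 2 A → Nat.card A ≤ 2 ^ 2 := by
    intro A hA
    choose c hc he using fun a : A => hsurj (a : Q)
    have hsq : ∀ a : A, JankoSylow.sq (c a) = 0 := fun a => (hT.sq_eq_one_iff _).1 (by
      rw [he, ← _root_.sq]
      exact congrArg (fun x : Q => ((x : C) : G)) (hA.2 a a.2))
    have hcom : ∀ a b : A, Com (c a) (c b) := fun a b => (hT.comm_iff _ _).1 (by
      rw [he, he]
      exact congrArg (fun x : A => (((x : Q) : C) : G)) (hA.1.is_comm.comm a b))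
    have hinj : Function.Injective c := fun a b h => Subtype.ext (Subtype.ext (Subtype.ext (by
      rw [← he a, h, he b])))
    haveI := Fintype.ofFinite A
    rw [Nat.card_eq_fintype_card, ← Finset.card_univ, ← Finset.card_image_of_injective _ hinj]
    by_cases hex : ∃ a, c a ≠ 0 ∧ c a ≠ zc
    · obtain ⟨a, ha0, haz⟩ := hex
      refine (Finset.card_le_card (t := {0, zc, c a, mm (c a) zc}) fun x hx => ?_).trans Finset.card_le_four
      obtain ⟨b, -, rfl⟩ := Finset.mem_image.1 hx
      simp only [Finset.mem_insert, Finset.mem_singleton]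
      by_cases hb0 : c b = 0
      · exact Or.inl hb0
      by_cases hbz : c b = zc
      · exact Or.inr (Or.inl hbz)
      exact Or.inr (Or.inr (iq_elem _ _ (hc b) (hc a) (hsq b) (hsq a) (hcom b a) hb0 hbz ha0 haz))
    · refine (Finset.card_le_card (t := {0, zc}) fun x hx => ?_).trans (Finset.card_le_two.trans (by norm_num))
      obtain ⟨b, -, rfl⟩ := Finset.mem_image.1 hx
      simp only [Finset.mem_insert, Finset.mem_singleton]
      by_contra hb
      push Not at hb
      exact hex ⟨b, hb⟩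
  have h2c : centralizer (Q : Set C) ≤ Q := by
    intro c hc
    rw [MonoidHom.mem_ker]
    refine Equiv.ext fun i => ?_
    obtain ⟨o, ho, d, hd, e⟩ := E.spec c i
    rw [hO, mem_bot] at ho
    rw [ho, one_mul] at e
    refine iso_codes.2.2.2.1 i _ d hd (hT.inj ?_)
    rw [← e]
    have h := congrArg Subtype.val (mem_centralizer_iff.1 hc _ (mk (bc i) (bc_sing i).1).2)
    exact mul_inv_eq_iff_eq_mul.2 h.symm
  have hrange : η.range = alternatingGroup (Fin 5) := by
    ext σ
    rw [Equiv.Perm.mem_alternatingGroup]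
    exact ⟨fun ⟨c, hc⟩ => hc ▸ E.even c, fun hσ => E.surj σ hσ⟩
  let e : C ⧸ Q ≃* alternatingGroup (Fin 5) :=
    (QuotientGroup.quotientKerEquivRange η).trans (MulEquiv.subgroupCongr hrange)
  have ht : orderOf (f zc) = 2 := Invol.orderOf_eq_two hT.z_sq hz
  rcases hcl with hone | htwo
  · exact Or.inr (Cfsg.Agent.S1658.result (f zc) ht Q hQ hcard hminus h2c e hone)
  · exact Or.inl (Cfsg.Agent.S1665.result (f zc) ht Q hQ hcard hminus h2c e htwo)

end CfsgLib.JankoType
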