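import Cfsg.Agent.JankoType.Codes
import Cfsg.Agent.JankoSylow.Main
import Cfsg.Agent.SylL34.Tools

/-!
The centralizer of the central involution in a group with a Sylow 2-subgroup of the type of that of the
Hall–Janko group: the action on the five singular involutions modulo the core.
-/

set_option autoImplicit false
set_option linter.unusedSectionVars false
set_option linter.style.haveILetI false

namespace CfsgLib.JankoType

open Subgroup CfsgLib.SylL34 CfsgLib.JankoSylow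

/-- An element of `C(z)` normalising the Clifford group and moving the first involution to the fifth. -/
def IsMover {G : Type*} [Group G] (f : Fin 128 → G) (g : G) : Prop :=
  g * f zc = f zc * g ∧ (∀ c, IQ c → ∃ d, IQ d ∧ g * f c * g⁻¹ = f d) ∧
    (g * f 1 * g⁻¹ = f uc ∨ g * f 1 * g⁻¹ = f (mm uc zc))

/-- A Sylow 2-subgroup with the code table and a mover. -/
structure Ctx {G : Type*} [Group G] (S : Sylow 2 G) (f : Fin 128 → G) : Prop where
  tab : Tab (S : Subgroup G) f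
  moved : ∃ g, IsMover f g

/-- The specification of the action on the five involutions. -/
structure EtaSpec {G : Type*} [Group G] (f : Fin 128 → G)
    (η : ↥(centralizer ({f zc} : Set G)) →* Equiv.Perm (Fin 5)) : Prop where
  ker : ∀ c, η c = 1 ↔ ∃ o ∈ Oc (f zc), ∃ q, IQ q ∧ (c : G) = o * f q
  four : ∀ v, ∀ h : f (kc v) ∈ centralizer ({f zc} : Set G), η ⟨f (kc v), h⟩ = kp v
  surj : ∀ σ, Equiv.Perm.sign σ = 1 → ∃ c, η c = σ
  even : ∀ c, Equiv.Perm.sign (η c) = 1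
  spec : ∀ (c : ↥(centralizer ({f zc} : Set G))) (i : Fin 5),
    ∃ o ∈ Oc (f zc), ∃ d, Eqz d (bc (η c i)) ∧ (c : G) * f (bc i) * (c : G)⁻¹ = o * f d

variable {G : Type*} [Group G] [Finite G] {S : Sylow 2 G} {f : Fin 128 → G} (X : Ctx S f)

/-- An involution inverts a finite group on which it has no fixed points. -/
theorem inverts {N : Subgroup G} {t : G} (ht : t ∈ normalizer (N : Set G)) (ht2 : t * t = 1)
    (hfix : ∀ x ∈ N, t * x = x * t → x = 1) : ∀ x ∈ N, t * x * t⁻¹ = x⁻¹ := by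
  let φ : N → N := fun x => ⟨(x : G)⁻¹ * (t * x * t⁻¹),
    mul_mem (inv_mem x.2) ((mem_normalizer_iff.1 ht _).1 x.2)⟩
  have hinj : Function.Injective φ := by
    rintro ⟨x, hx⟩ ⟨y, hy⟩ e
    have e' : x⁻¹ * (t * x * t⁻¹) = y⁻¹ * (t * y * t⁻¹) := congrArg Subtype.val e
    have h1 : t * (y * x⁻¹) = (y * x⁻¹) * t := by
      refine (mul_inv_eq_iff_eq_mul).1 (inv_injective ?_)
      calc (t * (y * x⁻¹) * t⁻¹)⁻¹ = (t * x * t⁻¹) * (t * y * t⁻¹)⁻¹ := by group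
        _ = x * (x⁻¹ * (t * x * t⁻¹)) * (t * y * t⁻¹)⁻¹ := by group
        _ = x * (y⁻¹ * (t * y * t⁻¹)) * (t * y * t⁻¹)⁻¹ := by rw [e']
        _ = (y * x⁻¹)⁻¹ := by group
    exact Subtype.ext (mul_inv_eq_one.1 (hfix _ (mul_mem hy (inv_mem hx)) h1)).symm
  intro x hx
  obtain ⟨⟨y, hy⟩, e⟩ := Finite.surjective_of_injective hinj ⟨x, hx⟩
  have e' : x = y⁻¹ * (t * y * t⁻¹) := (congrArg Subtype.val e).symm
  have hti : t⁻¹ = t := inv_eq_of_mul_eq_one_right ht2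
  rw [e', hti]
  calc t * (y⁻¹ * (t * y * t)) * t = t * y⁻¹ * t * y * (t * t) := by group
    _ = (y⁻¹ * (t⁻¹ * y * t⁻¹))⁻¹ := by rw [ht2]; group
    _ = _ := by rw [hti]

theorem odd_pow_fifteen {σ : Equiv.Perm (Fin 5)} (h : Odd (orderOf σ)) : σ ^ 15 = 1 := by
  refine orderOf_dvd_iff_pow_eq_one.1 ?_
  have h120 : orderOf σ ∣ 8 * 15 := by
    have := orderOf_dvd_natCard σ
    rwa [show Nat.card (Equiv.Perm (Fin 5)) = 8 * 15 by
      rw [Nat.card_eq_fintype_card, Fintype.card_perm]; rfl] at this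
  have hcop : (orderOf σ).Coprime 8 := by
    rw [show 8 = 2 ^ 3 by norm_num]
    exact (Nat.coprime_two_right.2 h).pow_right 3
  exact hcop.dvd_of_dvd_mul_left h120

namespace Ctx

include X

theorem zcentral (c : Fin 128) : f c * f zc = f zc * f c :=
  (X.tab.comm_iff c zc).2 ((centre zc).2 (Or.inr rfl) c).symm

theorem S_le_cent : (S : Subgroup G) ≤ centralizer ({f zc} : Set G) := fun s hs => by
  obtain ⟨c, rfl⟩ := X.tab.surj s hs
  exact mem_centralizer_singleton_iff.2 (X.zcentral c)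

theorem mem_C (c : Fin 128) : f c ∈ centralizer ({f zc} : Set G) := X.S_le_cent (X.tab.mem c)

theorem Oc_inf_S {x : G} (hx : x ∈ Oc (f zc)) (hS : x ∈ (S : Subgroup G)) : x = 1 :=
  inf_eq_bot_of_odd (Oc_odd _) S.2 hx hS

theorem code_eq {o : G} (ho : o ∈ Oc (f zc)) {a b : Fin 128} (h : o * f a = f b) : o = 1 ∧ a = b := by
  have h1 : o = 1 := X.Oc_inf_S ho (by
    rw [show o = f b * (f a)⁻¹ by rw [← h, mul_inv_cancel_right]]
    exact mul_mem (X.tab.mem b) (inv_mem (X.tab.mem a)))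
  refine ⟨h1, X.tab.inj ?_⟩
  rwa [h1, one_mul] at h

theorem norm_Oc {c : G} (hc : c ∈ centralizer ({f zc} : Set G)) : c ∈ normalizer (Oc (f zc) : Set G) :=
  cent_le_normalizer_Oc _ hc

theorem exists_eta : ∃ η, EtaSpec f η := by
  classical
  haveI : Fact (Nat.Prime 2) := ⟨Nat.prime_two⟩
  obtain ⟨g, hgz, hgQ, hgu⟩ := X.moved
  set C := centralizer ({f zc} : Set G)
  have hT := X.tab
  have hSC := X.S_le_cent
  set S0 := S.subtype hSC
  haveI : (Cfsg.oddCore C).Normal := ocore_normal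
  set p := QuotientGroup.mk' (Cfsg.oddCore C)
  set f' : Fin 128 → C ⧸ Cfsg.oddCore C := fun c => p ⟨f c, hSC (hT.mem c)⟩
  have hT' : Tab (S0.mapSurjective (QuotientGroup.mk'_surjective (Cfsg.oddCore C)) : Subgroup (C ⧸ Cfsg.oddCore C))
      f' := by
    refine ⟨fun c => ⟨⟨f c, hSC (hT.mem c)⟩, hT.mem c, rfl⟩, ?_, fun a b h => ?_, fun a b => ?_⟩
    · rintro _ ⟨y, hy, rfl⟩
      obtain ⟨c, hc⟩ := hT.surj (y : G) hy
      exact ⟨c, congrArg p (Subtype.ext hc)⟩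
    · refine hT.inj ?_
      have h1 : (⟨f a, hSC (hT.mem a)⟩ : C)⁻¹ * ⟨f b, hSC (hT.mem b)⟩ ∈ Cfsg.oddCore C := QuotientGroup.eq.1 h
      have h2 := inf_eq_bot_of_odd (ocore_odd (G := C)) S0.2 h1
        (mul_mem (inv_mem (show (⟨f a, hSC (hT.mem a)⟩ : C) ∈ (S0 : Subgroup C) from hT.mem a))
          (show (⟨f b, hSC (hT.mem b)⟩ : C) ∈ (S0 : Subgroup C) from hT.mem b))
      rw [inv_mul_eq_one] at h2
      exact congrArg Subtype.val h2
    · show p _ = p _ * p _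
      rw [← map_mul]
      exact congrArg p (Subtype.ext (hT.mul a b))
  have L : Loc (S0.mapSurjective (QuotientGroup.mk'_surjective (Cfsg.oddCore C))) f' := by
    refine ⟨hT', fun y => ?_, p ⟨g, mem_centralizer_singleton_iff.2 hgz⟩, fun c hc => ?_, ?_⟩
    · obtain ⟨y, rfl⟩ := QuotientGroup.mk'_surjective (Cfsg.oddCore C) y
      show p y * p _ = p _ * p y
      rw [← map_mul, ← map_mul]
      exact congrArg p (Subtype.ext (mem_centralizer_singleton_iff.1 y.2))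
    · obtain ⟨d, hd, e⟩ := hgQ c hc
      refine ⟨d, hd, ?_⟩
      show p _ * p _ * (p _)⁻¹ = p _
      rw [← map_inv, ← map_mul, ← map_mul]
      exact congrArg p (Subtype.ext e)
    · simp only [f']
      rw [← map_inv, ← map_mul, ← map_mul]
      exact hgu.imp (fun e => congrArg p (Subtype.ext e)) (fun e => congrArg p (Subtype.ext e))
  obtain ⟨H, hQ, hk⟩ := L.exists_hyp LocalB.oddCore_quotient
  have lift : ∀ (x : C) (d : Fin 128), p x = f' d → ∃ o ∈ Oc (f zc), (x : G) = o * f d := by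
    intro x d h
    have h1 : x * (⟨f d, hSC (hT.mem d)⟩ : C)⁻¹ ∈ Cfsg.oddCore C := by
      rw [← QuotientGroup.eq_one_iff]
      show p (x * _⁻¹) = 1
      rw [map_mul, map_inv, h, mul_inv_cancel]
    exact ⟨_, ⟨_, h1, rfl⟩, by simp⟩
  refine ⟨H.eta.comp p, fun c => ⟨fun h => ?_, ?_⟩, fun v h => hk v, fun σ hσ => ?_,
    fun c => Equiv.Perm.mem_alternatingGroup.1 (H.eta_even (p c)), fun c i => ?_⟩
  · have h1 : p c ∈ L.tab.subQ := by
      rw [← hQ, ← H.ker_eq]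
      exact h
    obtain ⟨q, hq, e⟩ := h1
    obtain ⟨o, ho, e'⟩ := lift c q e.symm
    exact ⟨o, ho, q, hq, e'⟩
  · rintro ⟨o, ho, q, hq, e⟩
    obtain ⟨o', ho', rfl⟩ := ho
    have hc : c = o' * ⟨f q, hSC (hT.mem q)⟩ := Subtype.ext e
    have h2 : p c = f' q := by
      rw [hc, map_mul, show p o' = 1 from (QuotientGroup.eq_one_iff _).2 ho', one_mul]
    show H.eta (p c) = 1
    rw [h2]
    exact H.eta_QQ (hQ.ge ⟨q, hq, rfl⟩)
  · obtain ⟨y, hy⟩ := (show σ ∈ H.eta.range from H.range_eq ▸ Equiv.Perm.mem_alternatingGroup.2 hσ)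
    obtain ⟨c, rfl⟩ := QuotientGroup.mk'_surjective (Cfsg.oddCore C) y
    exact ⟨c, hy⟩
  · set x : C := c * ⟨f (bc i), hSC (hT.mem _)⟩ * c⁻¹
    have hx : p x = p c * f' (bc i) * (p c)⁻¹ := by rw [map_mul, map_mul, map_inv]
    rcases H.eta_spec (p c) i with e | e
    · obtain ⟨o, ho, e'⟩ := lift x (bc (H.eta (p c) i)) (hx.trans e)
      exact ⟨o, ho, _, Or.inl rfl, e'⟩
    · obtain ⟨o, ho, e'⟩ := lift x (mm (bc (H.eta (p c) i)) zc) (hx.trans (e.trans (L.tab.mul _ _).symm))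
      exact ⟨o, ho, _, Or.inr rfl, e'⟩

variable {η : ↥(centralizer ({f zc} : Set G)) →* Equiv.Perm (Fin 5)} (E : EtaSpec f η)
include E

/-- An odd subgroup normalised by elements inducing the four-group lies in the core. -/
theorem odd_le {K : Subgroup G} (hK : K ≤ centralizer ({f zc} : Set G)) (hodd : Odd (Nat.card K))
    (hn : ∀ v, ∃ s : ↥(centralizer ({f zc} : Set G)), η s = kp v ∧ (s : G) ∈ normalizer (K : Set G)) :
    K ≤ Oc (f zc) := by
  let C := centralizer ({f zc} : Set G)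
  set Γ := (K.subgroupOf C).map η
  have hΓ : Odd (Nat.card Γ) := Odd.of_dvd_nat hodd ((card_map_dvd _ η).trans
    (Nat.card_congr (subgroupOfEquivOfLe hK).toEquiv).dvd)
  have hord : ∀ σ ∈ Γ, σ ^ 15 = 1 := fun σ hσ => odd_pow_fifteen (Odd.of_dvd_nat hΓ (Γ.orderOf_dvd_natCard hσ))
  have hkk : ∀ v : Fin 4, kp v * kp v = 1 ∧ (kp v)⁻¹ = kp v := by decide +kernel
  have hnorm : ∀ v, kp v ∈ normalizer (Γ : Set (Equiv.Perm (Fin 5))) := by
    intro v
    obtain ⟨s, hs, hsK⟩ := hn v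
    rw [← hs]
    refine le_normalizer_map η (mem_map_of_mem η (mem_normalizer_iff.2 fun y => ?_))
    simpa [mem_subgroupOf] using mem_normalizer_iff.1 hsK (y : G)
  have hone : ∀ σ ∈ Γ, σ = 1 := by
    intro σ hσ
    refine (fpf σ (hord σ hσ)).2 fun v hv => ?_
    have := inverts (hnorm v) (hkk v).1 (fun x hx hxe => (fpf x (hord x hx)).1 v hv (by
      rw [hxe, mul_assoc, (hkk v).1, mul_one])) σ hσ
    rwa [(hkk v).2] at this
  intro x hx
  obtain ⟨o, ho, q, -, e⟩ := (E.ker ⟨x, hK hx⟩).1 (hone _ (mem_map_of_mem η hx))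
  haveI : (Cfsg.oddCore C).Normal := ocore_normal
  set p := QuotientGroup.mk' (Cfsg.oddCore C)
  have hpq : p ⟨f q, X.mem_C q⟩ = p ⟨x, hK hx⟩ := by
    obtain ⟨o', ho', rfl⟩ := ho
    rw [show (⟨x, hK hx⟩ : C) = o' * ⟨f q, X.mem_C q⟩ from Subtype.ext e, map_mul,
      show p o' = 1 from (QuotientGroup.eq_one_iff _).2 ho', one_mul]
  obtain ⟨k, hk⟩ := S.2 ⟨f q, X.tab.mem q⟩
  have h1 : p ⟨f q, X.mem_C q⟩ = 1 := by
    refine eq_one_odd_two (k := k) ?_ ?_
    · rw [hpq]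
      refine Odd.of_dvd_nat hodd ((orderOf_map_dvd p _).trans ?_)
      rw [← orderOf_coe]
      exact orderOf_dvd_natCard K hx
    · rw [← map_pow, show (⟨f q, X.mem_C q⟩ : C) ^ 2 ^ k = 1 from Subtype.ext (congrArg Subtype.val hk :), map_one]
  exact ⟨⟨x, hK hx⟩, (QuotientGroup.eq_one_iff _).1 (hpq.symm.trans h1), rfl⟩

/-- `C(z)` is generated by the core, the Sylow subgroup and any mover. -/
theorem cent_le {M : Subgroup G} (hS : (S : Subgroup G) ≤ M) (hO : Oc (f zc) ≤ M) {g : G}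
    (hg : IsMover f g) (hgM : g ∈ M) : centralizer ({f zc} : Set G) ≤ M := by
  let C := centralizer ({f zc} : Set G)
  set Γ := (M.subgroupOf C).map η
  have hgC : g ∈ C := mem_centralizer_singleton_iff.2 hg.1
  have hk : ∀ v, kp v ∈ Γ := fun v => ⟨⟨f (kc v), X.mem_C _⟩, hS (X.tab.mem _), E.four v _⟩
  set σ := η ⟨g, hgC⟩
  have hσΓ : σ ∈ Γ := ⟨⟨g, hgC⟩, hgM, rfl⟩
  have hσ : σ 0 = 4 := by
    obtain ⟨o, ho, d, hd, e⟩ := E.spec ⟨g, hgC⟩ 0
    have h0 : ∀ i : Fin 5, ∀ d, Eqz d (bc i) → (d = uc ∨ d = mm uc zc) → i = 4 := by decide +kernel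
    refine h0 _ d hd ?_
    change g * f 1 * g⁻¹ = o * f d at e
    rcases hg.2.2 with h | h <;> rw [h] at e
    · exact Or.inl (X.code_eq ho e.symm).2
    · exact Or.inr (X.code_eq ho e.symm).2
  obtain ⟨⟨v3, w3, e3, n3⟩, ⟨v5, w5, e5, n5⟩⟩ := perm_orders _ hσ
  have hmem : ∀ v w, kp v * (σ * kp w * σ⁻¹) ∈ Γ := fun v w =>
    mul_mem (hk v) (mul_mem (mul_mem hσΓ (hk w)) (inv_mem hσΓ))
  have h3 : 3 ∣ Nat.card Γ := by
    have h := Γ.orderOf_dvd_natCard (hmem v3 w3)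
    rwa [orderOf_eq_prime e3 n3 (hp := ⟨by norm_num⟩)] at h
  have h5 : 5 ∣ Nat.card Γ := by
    have h := Γ.orderOf_dvd_natCard (hmem v5 w5)
    rwa [orderOf_eq_prime e5 n5 (hp := ⟨by norm_num⟩)] at h
  have h4 : 4 ∣ Nat.card Γ := by
    let K4 : Subgroup (Equiv.Perm (Fin 5)) :=
      { carrier := Set.range kp
        one_mem' := ⟨0, by decide +kernel⟩
        mul_mem' := by
          rintro _ _ ⟨v, rfl⟩ ⟨w, rfl⟩
          exact ⟨v ^^^ w, ((by decide +kernel : ∀ v w : Fin 4, kp v * kp w = kp (v ^^^ w)) v w).symm⟩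
        inv_mem' := by
          rintro _ ⟨v, rfl⟩
          exact ⟨v, ((by decide +kernel : ∀ v : Fin 4, (kp v)⁻¹ = kp v) v).symm⟩ }
    have hK : Nat.card K4 = 4 := by
      show Nat.card (Set.range kp) = 4
      rw [Nat.card_range_of_injective (f := kp) (by decide +kernel), Nat.card_fin]
    rw [← hK]
    exact card_dvd_of_le (by rintro _ ⟨v, rfl⟩; exact hk v)
  have h60 : 60 ≤ Nat.card Γ := Nat.le_of_dvd Nat.card_pos
    (Nat.Coprime.mul_dvd_of_dvd_of_dvd (by norm_num : Nat.Coprime 12 5)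
      (Nat.Coprime.mul_dvd_of_dvd_of_dvd (by norm_num : Nat.Coprime 4 3) h4 h3) h5)
  have hΓA : Γ = alternatingGroup (Fin 5) := by
    refine eq_of_le_of_card_ge ?_ ?_
    · rintro _ ⟨c, -, rfl⟩
      exact Equiv.Perm.mem_alternatingGroup.2 (E.even c)
    · refine le_trans (le_of_eq ?_) h60
      have h2 := two_mul_nat_card_alternatingGroup (α := Fin 5)
      rw [Nat.card_eq_fintype_card (α := Equiv.Perm (Fin 5)), Fintype.card_perm] at h2
      change 2 * _ = 120 at h2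
      omega
  intro c hc
  obtain ⟨m, hm, hme⟩ : η ⟨c, hc⟩ ∈ Γ := hΓA ▸ Equiv.Perm.mem_alternatingGroup.2 (E.even _)
  obtain ⟨o, ho, q, -, e⟩ := (E.ker (⟨c, hc⟩ * m⁻¹)).1 (by rw [map_mul, map_inv, hme, mul_inv_cancel])
  have h1 : c = o * f q * (m : G) := by
    rw [← e, Subgroup.coe_mul, Subgroup.coe_inv, inv_mul_cancel_right]
  rw [h1]
  exact mul_mem (mul_mem (hO ho) (hS (X.tab.mem q))) hm

/-- An element of `C(z)` inducing a given permutation fixing the fifth point and fixing `u` up to `z`. -/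
theorem exists_stab {σ : Equiv.Perm (Fin 5)} (hσ : Equiv.Perm.sign σ = 1) (h4 : σ 4 = 4) :
    ∃ c : ↥(centralizer ({f zc} : Set G)), η c = σ ∧
      ((c : G) * f uc * (c : G)⁻¹ = f uc ∨ (c : G) * f uc * (c : G)⁻¹ = f (mm uc zc)) := by
  obtain ⟨c, hc⟩ := E.surj σ hσ
  obtain ⟨o, ho, d, hd, e⟩ := E.spec c 4
  rw [hc, h4] at hd
  change (c : G) * f uc * (c : G)⁻¹ = o * f d at e
  have hd2 : JankoSylow.sq d = 0 ∧ d ≠ 0 := by
    have h0 : ∀ d, Eqz d (bc 4) → JankoSylow.sq d = 0 ∧ d ≠ 0 := by decide +kernel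
    exact h0 d hd
  have hfd : orderOf (f d) = 2 := Invol.orderOf_eq_two ((X.tab.sq_eq_one_iff d).2 hd2.1)
    (fun h => hd2.2 ((X.tab.eq_one_iff d).1 h))
  have hu : orderOf ((c : G) * f uc * (c : G)⁻¹) = 2 := by
    rw [Invol.orderOf_conj_eq]
    exact Invol.orderOf_eq_two ((X.tab.sq_eq_one_iff uc).2 z_codes.2.2.2.2.2.2.2.2.1)
      (fun h => absurd ((X.tab.eq_one_iff uc).1 h) (by decide))
  obtain ⟨o', ho', e'⟩ := exists_conj_mod (Oc_odd (f zc)) hfd hu (by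
    rw [e, mul_assoc, Invol.mul_self_eq_one hfd, mul_one]; exact ho)
  have ho'C := Oc_le _ ho'
  refine ⟨⟨o'⁻¹ * c, mul_mem (inv_mem ho'C) c.2⟩, ?_, ?_⟩
  · have h1 : η ⟨o'⁻¹, inv_mem ho'C⟩ = 1 := (E.ker _).2 ⟨o'⁻¹, inv_mem ho', 0, by decide, by rw [X.tab.map_zero, mul_one]⟩
    rw [show (⟨o'⁻¹ * c, mul_mem (inv_mem ho'C) c.2⟩ : ↥(centralizer ({f zc} : Set G))) =
      ⟨o'⁻¹, inv_mem ho'C⟩ * c from rfl, map_mul, h1, one_mul, hc]
  · have h2 : o'⁻¹ * (c : G) * f uc * (o'⁻¹ * (c : G))⁻¹ = f d := by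
      calc o'⁻¹ * (c : G) * f uc * (o'⁻¹ * (c : G))⁻¹ = o'⁻¹ * ((c : G) * f uc * (c : G)⁻¹) * o' := by group
        _ = o'⁻¹ * (o' * f d * o'⁻¹) * o' := by rw [e']
        _ = f d := by group
    show o'⁻¹ * (c : G) * f uc * (o'⁻¹ * (c : G))⁻¹ = _ ∨ o'⁻¹ * (c : G) * f uc * (o'⁻¹ * (c : G))⁻¹ = _
    rw [h2]
    exact hd.imp (fun h => by rw [h]; rfl) (fun h => by rw [h]; rfl)

/-- An element fixing `u` up to `z` maps a coset of the Clifford group in `A` into the expected one. -/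
theorem conj_kc {c : ↥(centralizer ({f zc} : Set G))} {v w : Fin 4}
    (hu : (c : G) * f uc * (c : G)⁻¹ = f uc ∨ (c : G) * f uc * (c : G)⁻¹ = f (mm uc zc))
    (hvw : η c * kp v * (η c)⁻¹ = kp w) :
    ∃ o ∈ Oc (f zc), ∃ q, IQ q ∧ IA q ∧ (c : G) * f (kc v) * (c : G)⁻¹ = o * f (mm (kc w) q) := by
  set x : ↥(centralizer ({f zc} : Set G)) := c * ⟨f (kc v), X.mem_C _⟩ * c⁻¹
  have hx : η (⟨f (kc w), X.mem_C _⟩⁻¹ * x) = 1 := by
    rw [map_mul, map_inv, E.four, map_mul, map_mul, map_inv, E.four, hvw, inv_mul_cancel]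
  obtain ⟨o, ho, q, hq, e⟩ := (E.ker _).1 hx
  rw [Subgroup.coe_mul, Subgroup.coe_inv, inv_mul_eq_iff_eq_mul] at e
  set o' := f (kc w) * o * (f (kc w))⁻¹
  have ho' : o' ∈ Oc (f zc) := conj_mem_of_normalizer (X.norm_Oc (X.mem_C _)) ho
  have e' : (c : G) * f (kc v) * (c : G)⁻¹ = o' * f (mm (kc w) q) := by
    change (c : G) * f (kc v) * (c : G)⁻¹ = _ at e
    rw [e, X.tab.mul]
    simp only [o', mul_assoc, inv_mul_cancel_left]
  refine ⟨o', ho', q, hq, ?_, e'⟩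
  set d := mm (kc w) q
  have hcomm : ∀ u', (u' = uc ∨ u' = mm uc zc) → (c : G) * f uc * (c : G)⁻¹ = f u' → Com d u' := by
    intro u' hu' hcu
    have hxc : o' * f d * f u' = f u' * (o' * f d) := by
      rw [← e', ← hcu]
      calc (c : G) * f (kc v) * (c : G)⁻¹ * ((c : G) * f uc * (c : G)⁻¹)
          = c * (f (kc v) * f uc) * (c : G)⁻¹ := by group
        _ = c * (f uc * f (kc v)) * (c : G)⁻¹ := by rw [(X.tab.comm_iff _ _).2 (kc_com v).2.1]
        _ = _ := by group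
    have h1 : (f u' * o'⁻¹ * (f u')⁻¹ * o') * f (mm d u') = f (mm u' d) := by
      rw [X.tab.mul d u', X.tab.mul u' d]
      calc f u' * o'⁻¹ * (f u')⁻¹ * o' * (f d * f u') = f u' * o'⁻¹ * (f u')⁻¹ * (o' * f d * f u') := by group
        _ = f u' * o'⁻¹ * (f u')⁻¹ * (f u' * (o' * f d)) := by rw [hxc]
        _ = f u' * f d := by group
    exact (X.code_eq (mul_mem (conj_mem_of_normalizer (X.norm_Oc (X.mem_C _)) (inv_mem ho')) ho') h1).2
  have hIA : ∀ d u', (u' = uc ∨ u' = mm uc zc) → Com d u' → IA d := by decide +kernel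
  rw [← ia_split w q hq]
  rcases hu with h | h
  · exact hIA d uc (Or.inl rfl) (hcomm uc (Or.inl rfl) h)
  · exact hIA d _ (Or.inr rfl) (hcomm _ (Or.inr rfl) h)

end Ctx

end CfsgLib.JankoType
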