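import Cfsg.Agent.JankoType.Cores
import Cfsg.Agent.S0223
import Cfsg.Agent.S1175
import Cfsg.Agent.S1221
import Cfsg.Agent.S1225

/-!
In a simple group the core of the centralizer of the central involution is trivial.
-/

set_option autoImplicit false
set_option linter.unusedSectionVars false
set_option linter.style.haveILetI false

namespace CfsgLib.JankoType

open Subgroup CfsgLib.SylL34 CfsgLib.JankoSylow
open scoped commutatorElement

theorem main_codes : (∀ c : Fin 128, IA c → IA (mm (kc ⟨c.val / 32, by omega⟩) c)) ∧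
    (∀ c : Fin 128, Out c → ¬ IZA c) ∧ Out 32 ∧ ¬ IZA 32 ∧ Com (32 : Fin 128) 32 := by decide +kernel

variable {G : Type*} [Group G] [Finite G] {S : Sylow 2 G} {f : Fin 128 → G} (X : Ctx S f)

/-- What is needed from the subgroups of index two. -/
def IdxStmt (S : Sylow 2 G) (f : Fin 128 → G) : Prop :=
  ∀ M : Subgroup G, (S : Subgroup G) ≤ M → ∀ H : Subgroup M, H.Normal → H.index = 2 →
    (∀ c, IA c → ∀ h : f c ∈ M, (⟨f c, h⟩ : M) ∈ H) →
    (∀ a v : Fin 128, IA a → ¬ IQ a → JankoSylow.sq a = 0 → IZA v → v ≠ 0 → ¬ IsConj (f a) (f v)) →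
    ∀ v : Fin 128, IZA v → v ≠ 0 → Oc (f v) ⊓ M ≤ (Cfsg.oddCore M).map M.subtype

namespace Ctx

include X

/-- An involution of the Clifford group outside the centre is conjugate to `z` in the local subgroup. -/
theorem sing_to_z [IsSimpleGroup G] {M : Subgroup G} (hC : centralizer ({f zc} : Set G) ≤ M)
    (hV : ∀ n, cj n X.subV = X.subV → n ∈ M) {c : Fin 128} (hc : Sing c) :
    ∃ n ∈ M, n * f c * n⁻¹ = f zc := by
  obtain ⟨m, hm, e⟩ := X.sing_conj hc
  obtain ⟨⟨r, -, hrV, hr⟩, -⟩ := X.exists_rot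
  refine ⟨r⁻¹ * m⁻¹, mul_mem (inv_mem (hV r hrV)) (inv_mem (hC hm)), ?_⟩
  rw [← e, show r⁻¹ * m⁻¹ * (m * f uc * m⁻¹) * (r⁻¹ * m⁻¹)⁻¹ = r⁻¹ * f uc * r by group, ← hr]
  group

/-- An involution of the Sylow subgroup outside the Clifford group is conjugate in it to one of `A ∖ V`. -/
theorem out_to_E {c : Fin 128} (hc : Out c) :
    ∃ s ∈ (S : Subgroup G), s * f c * s⁻¹ ∈ X.subE ∧ s * f c * s⁻¹ ∉ X.subV := by
  have hV : f c ∉ X.subV := fun h => main_codes.2.1 c hc (X.mem_V_code.1 h)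
  rcases out_side c hc with h | h
  · exact ⟨1, one_mem _, by simpa using X.mem_E_code.2 h, by simpa using hV⟩
  · refine ⟨f 1, X.tab.mem 1, X.f1_cj.2.1 ▸ conj_mem_cj.2 ⟨c, h, rfl⟩, fun hv => hV ?_⟩
    rw [← X.f1_cj.2.2.1] at hv
    exact conj_mem_cj.1 hv

theorem zc_out (H : TwoClass X) {c : Fin 128} (hc : Out c) : ¬ IsConj (f zc) (f c) := fun h => by
  obtain ⟨s, -, hs, hs'⟩ := X.out_to_E hc
  exact H.out _ hs hs' (h.trans (isConj_iff.2 ⟨s, rfl⟩))

/-- The code of a conjugate of an involution in the Sylow subgroup. -/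
theorem code_of_invol {x : G} (hx : x ∈ (S : Subgroup G)) (h2 : x * x = 1) (h1 : x ≠ 1) :
    ∃ c, f c = x ∧ (c = zc ∨ Sing c ∨ Out c) := by
  obtain ⟨c, rfl⟩ := X.tab.surj x hx
  have hs := (X.tab.sq_eq_one_iff c).1 h2
  have h0 : c ≠ 0 := fun h => h1 (by rw [h, X.tab.map_zero])
  refine ⟨c, rfl, ?_⟩
  by_cases hz : c = zc
  · exact Or.inl hz
  by_cases hQ : IQ c
  · exact Or.inr (Or.inl ⟨hQ, hs, h0, hz⟩)
  · exact Or.inr (Or.inr ⟨by_contra fun h => hQ (invol_out c hs h), hQ, hs⟩)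

/-- A subgroup of index two of the local subgroup contains `C_S(u)`. -/
theorem T_le_index_two [IsSimpleGroup G] {M : Subgroup G} (hS : (S : Subgroup G) ≤ M) (hO : Oc (f zc) ≤ M)
    (hV : ∀ n, cj n X.subV = X.subV → n ∈ M) (H : Subgroup M) [H.Normal] (hH : H.index = 2) :
    ∀ c, IA c → ∀ h : f c ∈ M, (⟨f c, h⟩ : M) ∈ H := by
  let φ : Fin 128 → M := fun c => ⟨f c, hS (X.tab.mem c)⟩
  have hφ : ∀ a b, φ (mm a b) = φ a * φ b := fun a b => Subtype.ext (X.tab.mul a b)
  have hQ : ∀ q, IQ q → IA q → φ q ∈ H := fun q hq hqA => by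
    obtain ⟨a, b, rfl⟩ := iaq_sq q hq hqA
    rw [hφ, JankoSylow.sq, JankoSylow.sq, hφ, hφ, ← pow_two, ← pow_two]
    exact mul_mem (sq_mem_of_index_two hH _) (sq_mem_of_index_two hH _)
  obtain ⟨η, E⟩ := X.exists_eta
  have hkk : ∀ v w : Fin 4, v ≠ 0 → w ≠ 0 → (φ (kc v) ∈ H ↔ φ (kc w) ∈ H) := by
    intro v w hv hw
    obtain ⟨σ, hs, h4, hσ⟩ := perm_three v w hv hw
    obtain ⟨c, hc, hu⟩ := X.exists_stab E hs h4
    obtain ⟨o, ho, q, hq, hqA, e⟩ := X.conj_kc E hu (by rw [hc]; exact hσ)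
    have hcV : cj (c : G) X.subV = X.subV := by
      have hcz : (c : G) * f zc * (c : G)⁻¹ = f zc := by
        rw [mem_centralizer_singleton_iff.1 c.2, mul_inv_cancel_right]
      have h1 : (c : G) * f uc * (c : G)⁻¹ ∈ X.subV := by
        rcases hu with h | h <;> rw [h]
        exacts [X.u_mem, X.uz_mem]
      refine cj_eq_of_conj_mem fun x hx => ?_
      rcases X.V_cases hx with rfl | rfl | rfl | rfl
      · simp
      · exact hcz.symm ▸ X.z_mem
      · exact h1
      · rw [X.tab.mul, show (c : G) * (f uc * f zc) * (c : G)⁻¹ = (c : G) * f uc * (c : G)⁻¹ * ((c : G) * f zc * (c : G)⁻¹) by group, hcz]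
        exact mul_mem h1 X.z_mem
    set m : M := ⟨c, hV _ hcV⟩
    set o' : M := ⟨o, hO ho⟩
    have eM : m * φ (kc v) * m⁻¹ = o' * (φ (kc w) * φ q) := by
      refine Subtype.ext ?_
      show (c : G) * f (kc v) * (c : G)⁻¹ = o * (f (kc w) * f q)
      rw [e, X.tab.mul]
    have ho' : o' ∈ H := by
      obtain ⟨j, hj⟩ : Odd (orderOf o') := by
        rw [← orderOf_coe]
        exact odd_orderOf_of_mem (Oc_odd (f zc)) ho
      have e1 : (o' ^ 2) ^ (j + 1) = o' := by
        rw [← pow_mul, show 2 * (j + 1) = (2 * j + 1) + 1 by ring, pow_succ, ← hj, pow_orderOf_eq_one, one_mul]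
      rw [← e1]
      exact pow_mem (sq_mem_of_index_two hH o') _
    constructor
    · intro h
      have h1 := Subgroup.Normal.conj_mem inferInstance _ h m
      rw [eM, H.mul_mem_cancel_left ho', H.mul_mem_cancel_right (hQ q hq hqA)] at h1
      exact h1
    · intro h
      have h1 : o' * (φ (kc w) * φ q) ∈ H := mul_mem ho' (mul_mem h (hQ q hq hqA))
      rw [← eM] at h1
      have h2 := Subgroup.Normal.conj_mem inferInstance _ h1 m⁻¹
      rwa [show m⁻¹ * (m * φ (kc v) * m⁻¹) * m⁻¹⁻¹ = φ (kc v) by group] at h2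
  have h3 : φ (kc 3) ∈ H := by
    have h12 := mul_mem_iff_of_index_two hH (a := φ (kc 1)) (b := φ (kc 2))
    rw [← hφ, core_codes.2.2.2.2.2.2] at h12
    exact h12.2 (hkk 1 2 (by decide) (by decide))
  intro c hc h
  obtain ⟨hq, hsplit⟩ := hi_split c
  set v : Fin 4 := ⟨c.val / 32, by omega⟩
  have e : (⟨f c, h⟩ : M) = φ (kc v) * φ (mm (kc v) c) := by
    rw [← hφ, hsplit]
  rw [e]
  refine mul_mem ?_ (hQ _ hq (main_codes.1 c hc))
  by_cases hv : v = 0
  · have h0 : φ (kc v) = 1 := Subtype.ext (by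
      show f (kc v) = 1
      rw [hv]
      exact X.tab.map_zero)
    rw [h0]
    exact one_mem H
  · exact (hkk v 3 hv (by decide)).2 h3

/-- A mover inside a subgroup without normal subgroup of index two. -/
theorem exists_mover_in {M : Subgroup G} (hS : (S : Subgroup G) ≤ M)
    (h2 : ∀ H : Subgroup M, H.Normal → H.index ≠ 2) : ∃ g ∈ M, IsMover f g := by
  let φ : Fin 128 → M := fun c => ⟨f c, hS (X.tab.mem c)⟩
  have hT : Tab (S.subtype hS : Subgroup M) φ := by
    refine ⟨fun c => X.tab.mem c, fun x hx => ?_, fun a b h => X.tab.inj (congrArg Subtype.val h),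
      fun a b => Subtype.ext (X.tab.mul a b)⟩
    obtain ⟨c, hc⟩ := X.tab.surj (x : G) hx
    exact ⟨c, Subtype.ext hc⟩
  obtain ⟨g, hgz, hgQ, hgu⟩ := fusion (S.subtype hS) hT h2
  refine ⟨g, g.2, congrArg Subtype.val hgz, fun c hc => ?_, ?_⟩
  · obtain ⟨d, hd, e⟩ := hgQ c hc
    exact ⟨d, hd, congrArg Subtype.val e⟩
  · exact hgu.imp (fun e => congrArg Subtype.val e) (fun e => congrArg Subtype.val e)

/-- Two classes: the generated subgroup lies in the core as soon as there is a subgroup of index two. -/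
theorem odd_of_index_two [IsSimpleGroup G] (H2 : TwoClass X) (hIdx : IdxStmt S f)
    (H : Subgroup (loc f)) [hn : H.Normal] (hH : H.index = 2) : Odd (Nat.card (omega f)) := by
  have hfus : ∀ a v : Fin 128, IA a → ¬ IQ a → JankoSylow.sq a = 0 → IZA v → v ≠ 0 → ¬ IsConj (f a) (f v) :=
    fun a v ha haQ ha2 hv hv0 h => X.zc_out H2 ⟨ha, haQ, ha2⟩
      ((X.V_zconj (X.mem_V_code.2 hv) (fun e => hv0 ((X.tab.eq_one_iff v).1 e))).trans h.symm)
  have hT := X.T_le_index_two (M := loc f) X.S_le_loc (X.Oc_le_loc X.z_mem X.tab.z_ne)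
    (fun n hn => X.norm_V_loc hn) H hH
  have key : ∀ v, IZA v → v ≠ 0 → Oc (f v) ≤ (Cfsg.oddCore (loc f)).map (loc f).subtype := fun v hv hv0 => by
    have h := hIdx (loc f) X.S_le_loc H hn hH hT hfus v hv hv0
    rwa [inf_eq_left.2 (X.Oc_le_loc (X.mem_V_code.2 hv) fun e => hv0 ((X.tab.eq_one_iff v).1 e))] at h
  refine Odd.of_dvd_nat (n := Nat.card ((Cfsg.oddCore (loc f)).map (loc f).subtype : Subgroup G)) ?_
    (card_dvd_of_le (sup_le (sup_le (key _ z_codes.1 (by decide)) (key _ z_codes.2.1 (by decide)))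
      (key _ z_codes.2.2.1 z_codes.2.2.2.1)))
  rw [card_map_of_injective (loc f).subtype_injective]
  exact ocore_odd

/-- The centralizer of `z` lies in the local subgroup. -/
theorem cent_le_loc [IsSimpleGroup G] (h : Odd (Nat.card (omega f)) ∨ (TwoClass X ∧ IdxStmt S f)) :
    centralizer ({f zc} : Set G) ≤ loc f := by
  obtain ⟨η, E⟩ := X.exists_eta
  obtain ⟨g₀, hg₀⟩ := X.moved
  have odd_case : Odd (Nat.card (omega f)) → centralizer ({f zc} : Set G) ≤ loc f := fun hodd =>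
    X.cent_le E X.S_le_loc (X.Oc_le_loc X.z_mem X.tab.z_ne) hg₀ (X.mover_mem hodd hg₀)
  rcases h with h | ⟨H2, hIdx⟩
  · exact odd_case h
  by_cases hidx : ∃ H : Subgroup (loc f), H.Normal ∧ H.index = 2
  · obtain ⟨H, hn, hH⟩ := hidx
    haveI := hn
    exact odd_case (X.odd_of_index_two H2 hIdx H hH)
  · push Not at hidx
    obtain ⟨g, hgM, hg⟩ := X.exists_mover_in X.S_le_loc hidx
    exact X.cent_le E X.S_le_loc (X.Oc_le_loc X.z_mem X.tab.z_ne) hg hgM

/-- One class of involutions: contradiction. -/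
theorem one_class_false [IsSimpleGroup G] (hO : Oc (f zc) ≠ ⊥) {a : G} (haE : a ∈ X.subE) (haV : a ∉ X.subV)
    (hza : IsConj (f zc) a) : False := by
  have hall : ∀ x ∈ X.subE, x ≠ 1 → IsConj (f zc) x := by
    intro x hx hx1
    by_cases hxV : x ∈ X.subV
    · exact X.V_zconj hxV hx1
    obtain ⟨cx, hcx, -, rfl⟩ := X.E_mem_out hx hxV
    obtain ⟨ca, hca, -, rfl⟩ := X.E_mem_out haE haV
    exact hza.trans (X.out_conj hca hcx)
  have F := X.exists_family
  obtain ⟨W, hWodd, hle, hWc, hNA, -⟩ := F.exists_closure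
  have htheta : ∀ x ∈ X.subE, x ≠ 1 → theta (fam X) x = Oc x := fun x _ _ => by
    refine le_antisymm (fun y hy => (mem_theta.1 hy).1) fun y hy => mem_theta.2 ⟨hy, ?_⟩
    rintro P ⟨hPE, h4, hfix⟩
    obtain ⟨e, -, he, -, he1, -⟩ := four_elems (fun y hy => X.E_sq y (hPE hy)) h4
    exact absurd (hall e (hPE he) he1) (hfix e he he1).2.1
  have hΩW : omega f = W := by
    refine le_antisymm ?_ ?_
    · have key : ∀ v ∈ X.subV, v ≠ 1 → Oc v ≤ W := fun v hv hv1 =>
        htheta v (X.V_le_E hv) hv1 ▸ hle v (X.V_le_E hv) hv1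
      exact sup_le (sup_le (key _ X.z_mem X.tab.z_ne) (key _ X.u_mem X.V_ne.1)) (key _ X.uz_mem X.V_ne.2)
    · refine four_gen (B := X.subV) (fun b hb => X.E_sq b (X.V_le_E hb)) X.tab.card_subZA
        (X.V_le_E.trans (le_normalizer.trans hNA)) hWodd fun b hb hb1 x hx => ?_
      exact X.Oc_le_omega hb hb1
        (mem_theta.1 (hWc b (X.V_le_E hb) hb1 x hx.1 (mem_centralizer_singleton_iff.1 hx.2))).1
  have hodd : Odd (Nat.card (omega f)) := hΩW ▸ hWodd
  have hNAM : normalizer (X.subE : Set G) ≤ loc f := by rw [loc, hΩW]; exact hNA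
  have hC := X.cent_le_loc (Or.inl hodd)
  have hS := X.S_le_loc
  have toz : ∀ t ∈ loc f, orderOf t = 2 → ∃ m ∈ loc f, m * t * m⁻¹ = f zc := by
    intro t ht ht2
    obtain ⟨m, hm, hmS⟩ := conj_into S hS ht (Invol.mul_self_eq_one ht2)
    obtain ⟨c, hc, hcases⟩ := X.code_of_invol hmS (SylL34.conj_sq _ _ (Invol.mul_self_eq_one ht2))
      (fun h => Invol.ne_one ht2 (conj_eq_one_iff.1 h))
    suffices h : ∃ n ∈ loc f, n * f c * n⁻¹ = f zc by
      obtain ⟨n, hn, e⟩ := h
      refine ⟨n * m, mul_mem hn hm, ?_⟩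
      rw [← e, hc]
      group
    rcases hcases with rfl | h | h
    · exact ⟨1, one_mem _, by group⟩
    · exact X.sing_to_z hC (fun n hn => X.norm_V_loc hn) h
    · obtain ⟨s, hs, hsE, hsV⟩ := X.out_to_E h
      obtain ⟨n, hnE, hn⟩ := X.norm_conj hsE (hall _ hsE fun e => hsV (e ▸ one_mem _))
      refine ⟨n⁻¹ * s, mul_mem (inv_mem (hNAM (mem_normalizer_of_cj hnE))) (hS hs), ?_⟩
      rw [show n⁻¹ * s * f c * (n⁻¹ * s)⁻¹ = n⁻¹ * (s * f c * s⁻¹) * n by group, ← hn]
      group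
  have heven : Even (Nat.card (loc f)) := even_iff_two_dvd.2 (by
    rw [← X.ord_two z_codes.2.2.2.2.2.2.2.2.2 (by decide)]
    exact orderOf_dvd_natCard _ (hS (X.tab.mem zc)))
  have hSE : Cfsg.IsStronglyEmbedded (loc f) := (Cfsg.Agent.S0223.result _ (X.loc_ne_top hO) heven).2
    ⟨fun t ht ht2 x hx => by
      obtain ⟨m, hm, e⟩ := toz t ht ht2
      have h1 : m * x * m⁻¹ ∈ loc f := hC (by
        rw [← e, cent_conj, show m⁻¹ * (m * x * m⁻¹) * m = x by group]; exact hx)
      have := mul_mem (mul_mem (inv_mem hm) h1) hm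
      rwa [show m⁻¹ * (m * x * m⁻¹) * m = x by group] at this,
    fun t ht s hs ht2 hs2 _ => by
      obtain ⟨m, hm, e⟩ := toz t ht ht2
      obtain ⟨k, hk, e'⟩ := toz s hs hs2
      refine ⟨k⁻¹ * m, mul_mem (inv_mem hk) hm, ?_⟩
      rw [show k⁻¹ * m * t * (k⁻¹ * m)⁻¹ = k⁻¹ * (m * t * m⁻¹) * k by group, e, ← e']
      group⟩
  have h := (X.omega_le_core hodd).trans (Cfsg.Agent.S1221.result _ hSE)
  rw [X.oddCore_eq_bot] at h
  exact X.omega_ne_bot hO (le_bot_iff.1 h)

/-- Two classes of involutions: contradiction. -/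
theorem two_class_false [IsSimpleGroup G] (hO : Oc (f zc) ≠ ⊥) (H2 : TwoClass X) (hIdx : IdxStmt S f) :
    False := by
  have hC := X.cent_le_loc (Or.inr ⟨H2, hIdx⟩)
  have hS := X.S_le_loc
  have hV : ∀ n, cj n X.subV = X.subV → n ∈ loc f := fun n hn => X.norm_V_loc hn
  have hz2 : orderOf (f zc) = 2 := X.ord_two z_codes.2.2.2.2.2.2.2.2.2 (by decide)
  obtain ⟨H, hH⟩ := Cfsg.Agent.S1175.result (loc f) (X.loc_ne_top hO) (f zc) hz2 (hS (X.tab.mem zc))
    ⟨S, X.tab.mem zc, fun s hs => by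
      obtain ⟨c, rfl⟩ := X.tab.surj s hs
      exact X.zcentral c⟩
    (fun g hg => by
      obtain ⟨m, hm, hmS⟩ := conj_into S hS hg (SylL34.conj_sq _ _ X.tab.z_sq)
      obtain ⟨c, hc, hcases⟩ := X.code_of_invol hmS (SylL34.conj_sq _ _ (SylL34.conj_sq _ _ X.tab.z_sq))
        (fun h => X.tab.z_ne (conj_eq_one_iff.1 (conj_eq_one_iff.1 h)))
      obtain ⟨n, hn, e⟩ : ∃ n ∈ loc f, n * f c * n⁻¹ = f zc := by
        rcases hcases with rfl | h | h
        · exact ⟨1, one_mem _, by group⟩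
        · exact X.sing_to_z hC hV h
        · exact absurd (isConj_iff.2 ⟨m * g, by rw [hc]; group⟩) (X.zc_out H2 h)
      have h1 : n * m * g ∈ loc f := hC (mem_centralizer_singleton_iff.2 (mul_inv_eq_iff_eq_mul.1 (by
        rw [show n * m * g * f zc * (n * m * g)⁻¹ = n * (m * (g * f zc * g⁻¹) * m⁻¹) * n⁻¹ by group, ← hc, e])))
      have h2 := mul_mem (inv_mem (mul_mem hn hm)) h1
      rwa [inv_mul_cancel_left] at h2)
    (fun g hgc hne => by
      set z' := g * f zc * g⁻¹ with hz'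
      have hz'C : z' ∈ centralizer ({f zc} : Set G) := mem_centralizer_singleton_iff.2 hgc.eq.symm
      obtain ⟨k, hk, hkS⟩ := conj_into S X.S_le_cent hz'C (SylL34.conj_sq _ _ X.tab.z_sq)
      have hkz : k * f zc * k⁻¹ = f zc := by rw [mem_centralizer_singleton_iff.1 hk, mul_inv_cancel_right]
      obtain ⟨c, hc, hcases⟩ := X.code_of_invol hkS (SylL34.conj_sq _ _ (SylL34.conj_sq _ _ X.tab.z_sq))
        (fun h => X.tab.z_ne (conj_eq_one_iff.1 (conj_eq_one_iff.1 h)))
      rcases hcases with rfl | h | h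
      · refine absurd ((MulAut.conj k).injective ?_) hne
        show k * z' * k⁻¹ = k * f zc * k⁻¹
        rw [← hc, hkz]
      swap
      · exact absurd (isConj_iff.2 ⟨k * g, by rw [hc, hz']; group⟩) (X.zc_out H2 h)
      obtain ⟨n, hn, e⟩ := X.sing_to_z hC hV (core_codes.2.2.2.2.2.1 c h)
      have e1 : n * k * (f zc * z') * (n * k)⁻¹ = f zc := by
        rw [show n * k * (f zc * z') * (n * k)⁻¹ = n * (k * f zc * k⁻¹ * (k * z' * k⁻¹)) * n⁻¹ by group, hkz, ← hc,
          ← X.tab.mul, e]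
      intro x hx
      have h1 : n * k * x * (n * k)⁻¹ ∈ loc f := hC (by
        rw [← e1, cent_conj, show (n * k)⁻¹ * (n * k * x * (n * k)⁻¹) * (n * k) = x by group]; exact hx)
      have hnk : n * k ∈ loc f := mul_mem hn (hC hk)
      have := mul_mem (mul_mem (inv_mem hnk) h1) hnk
      rwa [show (n * k)⁻¹ * (n * k * x * (n * k)⁻¹) * (n * k) = x by group] at this)
  obtain ⟨u, hu, huH⟩ : ∃ u : G, orderOf u = 2 ∧ u ∉ H := by
    by_contra! hall
    set N := closure {t : G | t * t = 1}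
    haveI : N.Normal := by
      constructor
      intro n hn g
      suffices N ≤ N.comap (MulAut.conj g).toMonoidHom from this hn
      exact (closure_le _).2 fun t ht => subset_closure (SylL34.conj_sq g t ht)
    have hNH : N ≤ H := (closure_le _).2 fun t ht => by
      by_cases h1 : t = 1
      · rw [h1]; exact one_mem H
      · exact hall t (Invol.orderOf_eq_two ht h1)
    rcases IsSimpleGroup.eq_bot_or_eq_top_of_normal N inferInstance with h | h
    · exact X.tab.z_ne ((eq_bot_iff_forall _).1 h _ (subset_closure X.tab.z_sq))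
    · exact hH.1 (top_le_iff.1 (h ▸ hNH))
  obtain ⟨s, hs⟩ := exists_prime_orderOf_dvd_card' 2 (even_iff_two_dvd.1 hH.2.1)
  have hs' : orderOf (s : G) = 2 := by rw [orderOf_coe]; exact hs
  have h32 : orderOf (f 32) = 2 := X.ord_two main_codes.2.2.1.2.2 (by decide)
  exact X.zc_out H2 main_codes.2.2.1
    ((Cfsg.Agent.S1225.result H hH u hu huH s s hs' s.2 hs' s.2).2 _ _ hz2 h32)

/-- The core of `C(z)` is trivial. -/
theorem core_trivial [IsSimpleGroup G] (hIdx : IdxStmt S f) : Oc (f zc) = ⊥ := by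
  by_contra hO
  by_cases h : ∃ a, a ∈ X.subE ∧ a ∉ X.subV ∧ IsConj (f zc) a
  · obtain ⟨a, ha, haV, hza⟩ := h
    exact X.one_class_false hO ha haV hza
  · push Not at h
    exact X.two_class_false hO ⟨h⟩ hIdx

/-- One or two classes of involutions. -/
theorem classes [IsSimpleGroup G] : (∀ x y : G, orderOf x = 2 → orderOf y = 2 → IsConj x y) ∨
    ∃ x y : G, orderOf x = 2 ∧ orderOf y = 2 ∧ ¬ IsConj x y ∧
      ∀ w : G, orderOf w = 2 → IsConj w x ∨ IsConj w y := by
  by_cases h : IsConj (f zc) (f 32)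
  · left
    intro x y hx hy
    have key : ∀ w : G, orderOf w = 2 → IsConj w (f zc) := fun w hw =>
      (X.invol_cases hw).elim id fun h' => h'.trans h.symm
    exact (key x hx).trans (key y hy).symm
  · right
    exact ⟨f zc, f 32, X.ord_two z_codes.2.2.2.2.2.2.2.2.2 (by decide), X.ord_two main_codes.2.2.1.2.2 (by decide),
      h, fun w hw => X.invol_cases hw⟩

end Ctx

/-- A context exists in a simple group. -/
theorem exists_ctx [IsSimpleGroup G] (T : Sylow 2 G) {φ : Fin 128 → G} (hT : Tab (T : Subgroup G) φ) :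
    Ctx T φ := by
  refine ⟨hT, fusion T hT fun H hn h2 => ?_⟩
  rcases IsSimpleGroup.eq_bot_or_eq_top_of_normal H hn with rfl | rfl
  · rw [index_bot] at h2
    have h := card_le_card_group (T : Subgroup G)
    rw [hT.card_eq, h2] at h
    omega
  · rw [index_top] at h2
    omega

end CfsgLib.JankoType
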